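import Mathlib
import Groth.Prelude.Def_LCI2
import Groth.Prelude.Def_ega3
import Groth.Agent.Lib.Helper12.KoszulTop

/-!
# Bridge between the two frozen Koszul complexes

`Koszul.koszul A l` (Def_Koszul) and `CohIII.koszulCx (ModuleCat.of A A) l` (Def_ega3) are EQUAL
(`koszul_eq`), so helper12's library on `CohIII.koszulCx` applies to `Koszul.koszul` /
`LCI.IsKoszulRegularSeq`.
-/

set_option autoImplicit false

namespace Groth.Agent.Lib.Helper94

open CategoryTheory
open Groth.Agent.Lib.Helper12.Koszul Groth.Agent.Lib.Helper12.KoszulTop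

universe u

theorem koszul_eq (A : Type u) [CommRing A] (l : List A) :
    Koszul.koszul A l = CohIII.koszulCx (ModuleCat.of A A) l := by
  induction l with
  | nil => rfl
  | cons f l ih =>
    show CochainComplex.mappingCone (f • 𝟙 (Koszul.koszul A l)) =
      CochainComplex.mappingCone (f • 𝟙 (CohIII.koszulCx (ModuleCat.of A A) l))
    rw [ih]

/-- transport a statement about `CohIII.koszulCx (of A A) l` to `Koszul.koszul A l`. -/
theorem koszul_transport (A : Type u) [CommRing A] (l : List A)
    (P : CochainComplex (ModuleCat.{u} A) ℤ → Prop)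
    (h : P (CohIII.koszulCx (ModuleCat.of A A) l)) : P (Koszul.koszul A l) := by
  rw [koszul_eq]; exact h

/-- a weakly regular sequence is Koszul-regular, and `H^0` of its Koszul complex is `A/(l)`. -/
theorem isKoszulRegularSeq_and_top_of_isWeaklyRegular (A : Type u) [CommRing A] (l : List A)
    (hl : RingTheory.Sequence.IsWeaklyRegular A l) :
    LCI.IsKoszulRegularSeq A l ∧
      Nonempty ((Koszul.koszul A l).homology 0 ≅ ModuleCat.of A (A ⧸ Ideal.ofList l)) := by
  have key : ∀ K : CochainComplex (ModuleCat.{u} A) ℤ, K = CohIII.koszulCx (ModuleCat.of A A) l →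
      (∀ i : ℤ, i ≠ 0 → Limits.IsZero (K.homology i)) ∧
        Nonempty (K.homology 0 ≅ ModuleCat.of A (A ⧸ Ideal.ofList l)) := by
    rintro K rfl
    constructor
    · intro i hi
      by_cases h1 : 0 < i
      · exact isZero_homology_koszulCx_of_pos _ _ _ h1
      · by_cases h2 : i < -(l.length : ℤ)
        · exact isZero_homology_koszulCx_of_lt _ _ _ h2
        · obtain ⟨p, rfl⟩ : ∃ p : ℕ, i = (p : ℤ) - l.length := ⟨(i + l.length).toNat, by omega⟩
          exact isZero_koszulH_of_isWeaklyRegular l A hl p (by omega)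
    · obtain ⟨e⟩ := nonempty_top_equiv l A
      refine ⟨(e ≪≫ₗ ?_).toModuleIso⟩
      refine Submodule.quotEquivOfEq _ _ ?_
      simp
  exact key _ (koszul_eq A l)

theorem isKoszulRegularSeq_of_isWeaklyRegular (A : Type u) [CommRing A] (l : List A)
    (hl : RingTheory.Sequence.IsWeaklyRegular A l) : LCI.IsKoszulRegularSeq A l :=
  (isKoszulRegularSeq_and_top_of_isWeaklyRegular A l hl).1

theorem isKoszulRegularSeq_of_isRegular (A : Type u) [CommRing A] (l : List A)
    (hl : RingTheory.Sequence.IsRegular A l) : LCI.IsKoszulRegularSeq A l :=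
  isKoszulRegularSeq_of_isWeaklyRegular A l hl.toIsWeaklyRegular

end Groth.Agent.Lib.Helper94
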