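import Mathlib

/-!
# Helper94: localizing a surjection

For a surjective ring map `φ : P → A` and a prime `q` of `A` with preimage `𝔔`, the induced map
`P_𝔔 → A_q` is surjective with kernel `(ker φ) P_𝔔`.
-/

set_option autoImplicit false
universe u

namespace Groth.Agent.Lib.Helper94.SurjLoc

variable {P A : Type u} [CommRing P] [CommRing A] (φ : P →+* A) (q : Ideal A) [q.IsPrime]

/-- The map `P_𝔔 → A_q`. -/
noncomputable def locHom :
    Localization.AtPrime (q.comap φ) →+* Localization.AtPrime q :=
  Localization.localRingHom _ q φ rfl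

theorem locHom_algebraMap (x : P) :
    locHom φ q (algebraMap P _ x) = algebraMap A _ (φ x) :=
  Localization.localRingHom_to_map _ _ _ rfl x

theorem locHom_surjective (hφ : Function.Surjective φ) : Function.Surjective (locHom φ q) :=
  RingHom.surjective_localRingHom_of_surjective _ hφ q

theorem ker_locHom (hφ : Function.Surjective φ) : RingHom.ker (locHom φ q) =
    (RingHom.ker φ).map (algebraMap P (Localization.AtPrime (q.comap φ))) := by
  apply le_antisymm
  · intro z hz
    obtain ⟨a, s, rfl⟩ := IsLocalization.exists_mk'_eq (q.comap φ).primeCompl z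
    rw [RingHom.mem_ker, locHom, Localization.localRingHom_mk', IsLocalization.mk'_eq_zero_iff] at hz
    obtain ⟨⟨t, ht⟩, htz⟩ := hz
    obtain ⟨t', rfl⟩ := hφ t
    rw [IsLocalization.mk'_mem_map_algebraMap_iff]
    refine ⟨t', ht, ?_⟩
    rw [RingHom.mem_ker, map_mul]
    exact htz
  · rw [Ideal.map_le_iff_le_comap]
    intro j hj
    rw [Ideal.mem_comap, RingHom.mem_ker, locHom_algebraMap,
      (RingHom.mem_ker).1 hj, map_zero]

end Groth.Agent.Lib.Helper94.SurjLoc
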