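import Mathlib

/-!
# Helper94: flatness of the conormal module `I/I²`, elementwise (`FlatE`)

For an ideal `I = (F_1, …, F_r)` of a ring `P`, flatness of `I/I²` over `P/I` is expressed by the
equational criterion written inside `P` (`FlatE I F`).  This form transfers along ring maps
`ψ : P → P'` which are "quotient followed by localization" (`FlatE.map`).
-/

set_option autoImplicit false
universe u v

namespace Groth.Agent.Lib.Helper94.CotFlat

variable {P : Type u} [CommRing P]

/-- Equational flatness of `I/I²` over `P/I` in terms of generators `F` of `I`. -/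
def FlatE (I : Ideal P) {r : ℕ} (F : Fin r → P) : Prop :=
  ∀ b : Fin r → P, ∑ k, b k * F k ∈ I ^ 2 →
    ∃ a : Fin r → Fin r → P, (∀ k, F k - ∑ j, a k j * F j ∈ I ^ 2) ∧ ∀ j, ∑ k, b k * a k j ∈ I

section basic

variable (I : Ideal P) {r : ℕ} (F : Fin r → P) (hF : Ideal.span (Set.range F) = I)

include hF in
lemma mem_of_span (k : Fin r) : F k ∈ I := hF ▸ Ideal.subset_span ⟨k, rfl⟩

include hF in
lemma sum_mem (c : Fin r → P) : ∑ l, c l * F l ∈ I :=
  I.sum_mem fun l _ => I.mul_mem_left _ (mem_of_span I F hF l)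

/-- the class of `∑ c_l F_l` in `I/I²`. -/
noncomputable def cls (c : Fin r → P) : I.Cotangent := I.toCotangent ⟨∑ l, c l * F l, sum_mem I F hF c⟩

lemma cls_eq_zero_iff (c : Fin r → P) : cls I F hF c = 0 ↔ ∑ l, c l * F l ∈ I ^ 2 := by
  unfold cls
  rw [Ideal.toCotangent_eq_zero]

lemma cls_surjective (y : I.Cotangent) : ∃ c : Fin r → P, cls I F hF c = y := by
  obtain ⟨⟨z, hz⟩, rfl⟩ := I.toCotangent_surjective y
  have hz' : z ∈ Ideal.span (Set.range F) := hF ▸ hz
  obtain ⟨c, hc⟩ := (Ideal.mem_span_range_iff_exists_fun).mp hz'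
  exact ⟨c, by unfold cls; congr 1; exact Subtype.ext hc⟩

lemma cls_add (c d : Fin r → P) : cls I F hF (c + d) = cls I F hF c + cls I F hF d := by
  unfold cls
  rw [← map_add]
  congr 1
  apply Subtype.ext
  simp [add_mul, Finset.sum_add_distrib]

lemma cls_smul (p : P) (c : Fin r → P) : cls I F hF (p • c) = p • cls I F hF c := by
  unfold cls
  rw [← map_smul]
  congr 1
  apply Subtype.ext
  simp [Finset.mul_sum, mul_assoc]

lemma cls_sum {ι : Type*} (s : Finset ι) (c : ι → Fin r → P) :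
    cls I F hF (∑ i ∈ s, c i) = ∑ i ∈ s, cls I F hF (c i) := by
  classical
  induction s using Finset.induction_on with
  | empty =>
    simp only [Finset.sum_empty]
    rw [cls_eq_zero_iff]
    simp
  | insert i s hi ih => rw [Finset.sum_insert hi, Finset.sum_insert hi, cls_add, ih]

lemma mk_smul_cls (p : P) (y : I.Cotangent) : (Ideal.Quotient.mk I p) • y = p • y := by
  rw [← Ideal.Quotient.algebraMap_eq, algebraMap_smul]

/-- single generator classes -/
lemma cls_single (k : Fin r) :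
    cls I F hF (Pi.single k 1) = I.toCotangent ⟨F k, mem_of_span I F hF k⟩ := by
  classical
  unfold cls
  congr 1
  apply Subtype.ext
  simp [Pi.single_apply]

lemma cls_eq_sum (c : Fin r → P) :
    cls I F hF c = ∑ l, c l • cls I F hF (Pi.single l 1) := by
  classical
  have : c = ∑ l, c l • (Pi.single l 1 : Fin r → P) := by
    ext k
    simp [Finset.sum_apply, Pi.single_apply]
  conv_lhs => rw [this]
  rw [cls_sum]
  exact Finset.sum_congr rfl fun l _ => cls_smul I F hF _ _

include hF in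
/-- flatness of the conormal module gives `FlatE`. -/
theorem flatE_of_flat [Module.Flat (P ⧸ I) I.Cotangent] : FlatE I F := by
  classical
  intro b hb
  have hrel : ∑ k, (Ideal.Quotient.mk I (b k)) • cls I F hF (Pi.single k 1) = 0 := by
    simp_rw [mk_smul_cls]
    rw [← cls_eq_sum, cls_eq_zero_iff]
    exact hb
  obtain ⟨κ, a, y, hy, ha⟩ := Module.Flat.isTrivialRelation_of_sum_smul_eq_zero hrel
  choose a' ha' using fun k j => Ideal.Quotient.mk_surjective (a k j)
  choose c hc using fun j => cls_surjective I F hF (y j)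
  refine ⟨fun k l => ∑ j, a' k j * c j l, fun k => ?_, fun l => ?_⟩
  · -- `F k - ∑ l, (∑ j, a' k j * c j l) * F l ∈ I²`
    have h1 : cls I F hF (Pi.single k 1 - fun l => ∑ j, a' k j * c j l) = 0 := by
      have h2 : (fun l => ∑ j, a' k j * c j l) = ∑ j, a' k j • c j := by
        ext l
        simp [Finset.sum_apply]
      rw [sub_eq_add_neg, cls_add, h2, ← neg_one_smul P (∑ j, a' k j • c j), cls_smul, cls_sum,
        neg_one_smul, ← sub_eq_add_neg, sub_eq_zero,
        show cls I F hF (Pi.single k 1) = ∑ j, a k j • y j from hy k]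
      refine Finset.sum_congr rfl fun j _ => ?_
      rw [cls_smul, hc, ← ha', mk_smul_cls]
    rw [cls_eq_zero_iff] at h1
    convert h1 using 1
    simp [sub_mul, Finset.sum_sub_distrib, Pi.single_apply]
  · have h1 : ∀ j, ∑ k, b k * a' k j ∈ I := by
      intro j
      rw [← Ideal.Quotient.eq_zero_iff_mem, map_sum, ← ha j]
      exact Finset.sum_congr rfl fun k _ => by rw [map_mul, ha']
    have h2 : ∑ k, b k * ∑ j, a' k j * c j l = ∑ j, (∑ k, b k * a' k j) * c j l := by
      simp_rw [Finset.mul_sum, Finset.sum_mul]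
      rw [Finset.sum_comm]
      exact Finset.sum_congr rfl fun j _ => Finset.sum_congr rfl fun k _ => by ring
    rw [h2]
    exact I.sum_mem fun j _ => I.mul_mem_right _ (h1 j)

include hF in
/-- `FlatE` gives flatness of the conormal module. -/
theorem flat_of_flatE (h : FlatE I F) : Module.Flat (P ⧸ I) I.Cotangent := by
  classical
  apply Module.Flat.of_forall_isTrivialRelation
  intro l f x hfx
  choose f' hf' using fun i => Ideal.Quotient.mk_surjective (f i)
  choose μ hμ using fun i => cls_surjective I F hF (x i)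
  have hb : ∑ k, (∑ i, f' i * μ i k) * F k ∈ I ^ 2 := by
    rw [← cls_eq_zero_iff I F hF]
    have h2 : (fun k => ∑ i, f' i * μ i k) = ∑ i, f' i • μ i := by
      ext k
      simp [Finset.sum_apply]
    rw [h2, cls_sum, ← hfx]
    refine Finset.sum_congr rfl fun i _ => ?_
    rw [cls_smul, hμ, ← hf', mk_smul_cls]
  obtain ⟨a, ha1, ha2⟩ := h _ hb
  have hm : ∀ k, cls I F hF (Pi.single k 1) = ∑ j, a k j • cls I F hF (Pi.single j 1) := by
    intro k
    have h1 : cls I F hF (Pi.single k 1 - fun j => a k j) = 0 := by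
      rw [cls_eq_zero_iff]
      convert ha1 k using 1
      simp [sub_mul, Finset.sum_sub_distrib, Pi.single_apply]
    rw [sub_eq_add_neg, cls_add, ← neg_one_smul P (fun j => a k j), cls_smul, neg_one_smul,
      ← sub_eq_add_neg, sub_eq_zero] at h1
    rw [h1, cls_eq_sum]
  refine ⟨r, fun i j => Ideal.Quotient.mk I (∑ k, μ i k * a k j),
    fun j => cls I F hF (Pi.single j 1), fun i => ?_, fun j => ?_⟩
  · show x i = ∑ j, Ideal.Quotient.mk I (∑ k, μ i k * a k j) • cls I F hF (Pi.single j 1)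
    rw [← hμ i, cls_eq_sum I F hF (μ i)]
    calc ∑ k, μ i k • cls I F hF (Pi.single k 1)
        = ∑ k, μ i k • ∑ j, a k j • cls I F hF (Pi.single j 1) :=
          Finset.sum_congr rfl fun k _ => by rw [← hm k]
      _ = ∑ k, ∑ j, (μ i k * a k j) • cls I F hF (Pi.single j 1) :=
          Finset.sum_congr rfl fun k _ => by rw [Finset.smul_sum]; simp_rw [smul_smul]
      _ = ∑ j, ∑ k, (μ i k * a k j) • cls I F hF (Pi.single j 1) := Finset.sum_comm
      _ = ∑ j, Ideal.Quotient.mk I (∑ k, μ i k * a k j) • cls I F hF (Pi.single j 1) :=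
          Finset.sum_congr rfl fun j _ => by rw [mk_smul_cls, Finset.sum_smul]
  · show ∑ i, f i * Ideal.Quotient.mk I (∑ k, μ i k * a k j) = 0
    have ha2' := Ideal.Quotient.eq_zero_iff_mem.mpr (ha2 j)
    rw [← ha2', map_sum]
    simp_rw [← hf', ← map_mul, ← map_sum]
    congr 1
    simp_rw [Finset.mul_sum, Finset.sum_mul]
    rw [Finset.sum_comm]
    exact Finset.sum_congr rfl fun k _ => Finset.sum_congr rfl fun i _ => by ring

end basic

section transfer

variable {P' : Type v} [CommRing P'] (ψ : P →+* P')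

/-- common denominators for a finite family. -/
lemma exists_common_denom
    (T1 : ∀ x : P', ∃ s p : P, IsUnit (ψ s) ∧ x * ψ s = ψ p) {r : ℕ} (b' : Fin r → P') :
    ∃ (s : P) (b : Fin r → P), IsUnit (ψ s) ∧ ∀ k, b' k * ψ s = ψ (b k) := by
  classical
  choose s p hs hp using fun k => T1 (b' k)
  refine ⟨∏ k, s k, fun k => p k * ∏ j ∈ Finset.univ.erase k, s j, ?_, fun k => ?_⟩
  · rw [map_prod]
    exact (IsUnit.prod_univ_iff).mpr hs
  · rw [← Finset.mul_prod_erase Finset.univ s (Finset.mem_univ k), map_mul, ← mul_assoc, hp k,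
      map_mul]

/-- `FlatE` transfers along a ring map `ψ` which is a "quotient followed by a localization". -/
theorem FlatE.map (I : Ideal P) {r : ℕ} (F : Fin r → P) (h : FlatE I F)
    (hFI : ∀ k, F k ∈ I)
    (T1 : ∀ x : P', ∃ s p : P, IsUnit (ψ s) ∧ x * ψ s = ψ p)
    (T2 : ∀ x ∈ I, ψ x ∈ (I.map ψ) ^ 2 → ∃ (s w : P) (p : Fin r → P), IsUnit (ψ s) ∧
      w ∈ I ^ 2 ∧ (∀ k, ψ (p k) = 0) ∧ s * x = w + ∑ k, p k * F k) :
    FlatE (I.map ψ) (ψ ∘ F) := by
  intro b' hb'
  obtain ⟨s, b, hs, hb⟩ := exists_common_denom ψ T1 b'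
  have hx : ∑ k, b k * F k ∈ I := I.sum_mem fun k _ => I.mul_mem_left _ (hFI k)
  have hψx : ψ (∑ k, b k * F k) ∈ (I.map ψ) ^ 2 := by
    have : ψ (∑ k, b k * F k) = ψ s * ∑ k, b' k * (ψ ∘ F) k := by
      rw [map_sum, Finset.mul_sum]
      refine Finset.sum_congr rfl fun k _ => ?_
      rw [map_mul, ← hb k, Function.comp_apply]
      ring
    rw [this]
    exact Ideal.mul_mem_left _ _ hb'
  obtain ⟨s₂, w, p, hs₂, hw, hp, hsx⟩ := T2 _ hx hψx
  have hb'' : ∑ k, (s₂ * b k - p k) * F k ∈ I ^ 2 := by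
    have : ∑ k, (s₂ * b k - p k) * F k = w := by
      have h1 : ∑ k, (s₂ * b k - p k) * F k = s₂ * ∑ k, b k * F k - ∑ k, p k * F k := by
        rw [Finset.mul_sum, ← Finset.sum_sub_distrib]
        exact Finset.sum_congr rfl fun k _ => by ring
      rw [h1, hsx]
      ring
    rw [this]
    exact hw
  obtain ⟨a, ha1, ha2⟩ := h _ hb''
  refine ⟨fun k j => ψ (a k j), fun k => ?_, fun j => ?_⟩
  · have h1 : (ψ ∘ F) k - ∑ j, ψ (a k j) * (ψ ∘ F) j = ψ (F k - ∑ j, a k j * F j) := by
      simp [map_sub, map_sum, map_mul]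
    rw [h1, ← Ideal.map_pow]
    exact Ideal.mem_map_of_mem _ (ha1 k)
  · have h1 : ψ (∑ k, (s₂ * b k - p k) * a k j) = (ψ s₂ * ψ s) * ∑ k, b' k * ψ (a k j) := by
      rw [map_sum, Finset.mul_sum]
      refine Finset.sum_congr rfl fun k _ => ?_
      rw [map_mul, map_sub, map_mul, hp k, sub_zero, ← hb k]
      ring
    have h2 : (ψ s₂ * ψ s) * ∑ k, b' k * ψ (a k j) ∈ I.map ψ := by
      rw [← h1]
      exact Ideal.mem_map_of_mem _ (ha2 j)
    exact (Ideal.unit_mul_mem_iff_mem _ (hs₂.mul hs)).mp h2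

/-- membership in an extended ideal, up to a unit and the kernel. -/
lemma exists_mul_sub_mem_of_map_mem
    (T1 : ∀ x : P', ∃ s p : P, IsUnit (ψ s) ∧ x * ψ s = ψ p) (K : Ideal P) (y : P)
    (hy : ψ y ∈ K.map ψ) : ∃ s z : P, IsUnit (ψ s) ∧ ψ z = 0 ∧ s * y - z ∈ K := by
  classical
  obtain ⟨t, ht, c, hc⟩ := (Submodule.mem_span_image_iff_exists_fun (R := P')
    (v := ψ) (s := (K : Set P)) (x := ψ y)).mp hy
  obtain ⟨s, b, hs, hb⟩ := exists_common_denom ψ T1 (fun i : Fin t.card => c (t.equivFin.symm i))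
  refine ⟨s, s * y - ∑ i : Fin t.card, b i * ((t.equivFin.symm i : t) : P), hs, ?_, ?_⟩
  · rw [map_sub, map_mul, map_sum, ← hc, sub_eq_zero, Finset.mul_sum]
    rw [← Equiv.sum_comp t.equivFin.symm]
    refine Finset.sum_congr rfl fun i _ => ?_
    rw [map_mul, ← hb i, smul_eq_mul]
    ring
  · rw [sub_sub_cancel]
    exact K.sum_mem fun i _ => K.mul_mem_left _ (ht (t.equivFin.symm i).2)

/-- elements of an extended ideal are, up to a unit, images of elements of the ideal. -/
lemma exists_mul_eq_of_mem_map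
    (T1 : ∀ x : P', ∃ s p : P, IsUnit (ψ s) ∧ x * ψ s = ψ p) (K : Ideal P) (y : P')
    (hy : y ∈ K.map ψ) : ∃ s p : P, p ∈ K ∧ IsUnit (ψ s) ∧ y * ψ s = ψ p := by
  classical
  obtain ⟨t, ht, c, hc⟩ := (Submodule.mem_span_image_iff_exists_fun (R := P')
    (v := ψ) (s := (K : Set P)) (x := y)).mp hy
  obtain ⟨s, b, hs, hb⟩ := exists_common_denom ψ T1 (fun i : Fin t.card => c (t.equivFin.symm i))
  refine ⟨s, ∑ i : Fin t.card, b i * ((t.equivFin.symm i : t) : P),
    K.sum_mem fun i _ => K.mul_mem_left _ (ht (t.equivFin.symm i).2), hs, ?_⟩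
  rw [map_sum, ← hc, Finset.sum_mul, ← Equiv.sum_comp t.equivFin.symm]
  refine Finset.sum_congr rfl fun i _ => ?_
  rw [map_mul, ← hb i, smul_eq_mul]
  ring

end transfer

end Groth.Agent.Lib.Helper94.CotFlat
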