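import Mathlib
import Groth.Prelude.Def_CAlgX
import Groth.Agent.H34.AssTensor
import Groth.Agent.Lib.Helper94.SurjLoc

/-!
# Helper94: unmixedness of fibres of flat complete intersections (pieces for S18126)

* `isRegularLocalRing_atPrime_mvPolynomial_of_comap_eq_bot`: `D[X]` localized at a prime over `0`
  of the domain `D` is regular.
* `inf_le_mul_of_flat`: `𝔭T ∩ J ⊆ 𝔭T·J` when `T ⧸ J` is flat over `A`.
* `isH1Regular_map_of_flat`: `H_1`-regularity passes to `T ⧸ 𝔭T` when `T ⧸ (l)` is `A`-flat.
* `exists_mul_mem_sq_of_formallySmooth'`: generic vanishing of cotangent classes at smooth points.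
* `exists_colon_eq_maximalIdeal`: associated maximal ideal of `T ⧸ J` is associated to the fibre.
-/

set_option autoImplicit false
universe u

namespace Groth.Agent.Lib.Helper94.FibreUnmixed

open KaehlerDifferential TensorProduct
open Groth.Agent.Lib.Helper94

/-- Localization of `D[X]` at a prime lying over `0` of the domain `D` is a regular local ring. -/
theorem isRegularLocalRing_atPrime_mvPolynomial_of_comap_eq_bot (D : Type u) [CommRing D] [IsDomain D]
    (n : ℕ) (𝔞 : Ideal (MvPolynomial (Fin n) D)) [𝔞.IsPrime]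
    (h : 𝔞.comap (MvPolynomial.C (σ := Fin n)) = ⊥) :
    IsRegularLocalRing (Localization.AtPrime 𝔞) := by
  let K := FractionRing D
  let SD := MvPolynomial (Fin n) D
  let SK := MvPolynomial (Fin n) K
  let M : Submonoid SD := (nonZeroDivisors D).map (MvPolynomial.C (σ := Fin n))
  letI : Algebra SD SK := MvPolynomial.algebraMvPolynomial
  have hloc : IsLocalization M SK := MvPolynomial.isLocalization (nonZeroDivisors D) K
  have hdisj : Disjoint (M : Set SD) (𝔞 : Set SD) := by
    rw [Set.disjoint_left]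
    rintro _ ⟨d, hd, rfl⟩ hmem
    have : d ∈ 𝔞.comap (MvPolynomial.C (σ := Fin n)) := hmem
    rw [h, Ideal.mem_bot] at this
    exact (nonZeroDivisors.ne_zero hd) this
  let 𝔞K : Ideal SK := 𝔞.map (algebraMap SD SK)
  have h𝔞K : 𝔞K.IsPrime := IsLocalization.isPrime_of_isPrime_disjoint M SK 𝔞 inferInstance hdisj
  have hcomap : 𝔞K.comap (algebraMap SD SK) = 𝔞 :=
    IsLocalization.under_map_of_isPrime_disjoint M SK inferInstance hdisj
  let T := Localization.AtPrime 𝔞K
  have hT : IsRegularLocalRing T := inferInstance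
  have : IsScalarTower SD SK T := inferInstance
  have hlocT : IsLocalization.AtPrime T (𝔞K.comap (algebraMap SD SK)) :=
    IsLocalization.isLocalization_isLocalization_atPrime_isLocalization M T 𝔞K
  have e : (Ideal.comap (algebraMap SD SK) 𝔞K).primeCompl = 𝔞.primeCompl := by
    ext x
    show x ∉ _ ↔ x ∉ _
    rw [hcomap]
  have hlocT' : IsLocalization 𝔞.primeCompl T := e ▸ hlocT
  let e' : T ≃+* Localization.AtPrime 𝔞 :=
    (IsLocalization.algEquiv 𝔞.primeCompl T (Localization.AtPrime 𝔞)).toRingEquiv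
  exact IsRegularLocalRing.of_ringEquiv (R := T) e'

/-- For an ideal `J` of an `A`-algebra `T` with `T ⧸ J` flat over `A`: `𝔭T ∩ J ⊆ 𝔭T · J`. -/
theorem inf_le_mul_of_flat {A T : Type u} [CommRing A] [CommRing T] [Algebra A T] (J : Ideal T)
    [Module.Flat A (T ⧸ J)] (𝔭 : Ideal A) :
    𝔭.map (algebraMap A T) ⊓ J ≤ 𝔭.map (algebraMap A T) * J := by
  rintro x ⟨hx𝔭, hxJ⟩
  obtain ⟨t, ht, c, hc⟩ := (Submodule.mem_span_image_iff_exists_fun (R := T)
    (v := algebraMap A T) (s := (𝔭 : Set A)) (x := x)).mp hx𝔭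
  -- relation in the quotient
  have hrel : ∑ i : t, (i : A) • (Ideal.Quotient.mk J (c i)) = 0 := by
    have : Ideal.Quotient.mk J x = 0 := Ideal.Quotient.eq_zero_iff_mem.mpr hxJ
    rw [← this, ← hc, map_sum]
    refine Finset.sum_congr rfl fun i _ => ?_
    rw [smul_eq_mul, map_mul, Algebra.smul_def, mul_comm]
    rfl
  obtain ⟨k, a, y, hy, ha⟩ := Module.Flat.isTrivialRelation_of_sum_smul_eq_zero (R := A) (M := T ⧸ J)
    (f := fun i : t => (i : A)) (x := fun i => Ideal.Quotient.mk J (c i)) hrel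
  replace hy : ∀ i : t, Ideal.Quotient.mk J (c i) = ∑ j, a i j • y j := hy
  replace ha : ∀ j, ∑ i : t, (i : A) * a i j = 0 := ha
  choose y' hy' using fun j => Ideal.Quotient.mk_surjective (y j)
  have hd : ∀ i : t, c i - ∑ j, a i j • y' j ∈ J := by
    intro i
    rw [← Ideal.Quotient.eq_zero_iff_mem, map_sub, hy i, map_sum, sub_eq_zero]
    refine Finset.sum_congr rfl fun j _ => ?_
    rw [← hy' j, Algebra.smul_def, Algebra.smul_def, map_mul]
    rfl
  have hx : x = ∑ i : t, (c i - ∑ j, a i j • y' j) * algebraMap A T i := by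
    rw [← hc]
    simp only [sub_mul, Finset.sum_sub_distrib, smul_eq_mul]
    rw [eq_sub_iff_add_eq, add_eq_left]
    simp only [Finset.sum_mul]
    rw [Finset.sum_comm]
    refine Finset.sum_eq_zero fun j _ => ?_
    have := ha j
    calc ∑ i : t, a i j • y' j * algebraMap A T i
        = (∑ i : t, (i : A) * a i j) • y' j := by
          rw [Finset.sum_smul]
          refine Finset.sum_congr rfl fun i _ => ?_
          rw [Algebra.smul_def, Algebra.smul_def, map_mul]
          ring
      _ = 0 := by rw [this, zero_smul]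
  rw [hx]
  refine Ideal.sum_mem _ fun i _ => ?_
  exact Ideal.mul_mem_mul_rev (Ideal.mem_map_of_mem _ (ht i.2)) (hd i)

/-- Trivial relations map to trivial relations. -/
theorem map_mem_span_trivial_relations {T R₀ : Type u} [CommRing T] [CommRing R₀] (ψ : T →+* R₀)
    {c : ℕ} (l : Fin c → T) (v : Fin c → T)
    (hv : v ∈ Submodule.span T {v : Fin c → T | ∃ i j : Fin c,
      v = Pi.single i (l j) - Pi.single j (l i)}) :
    (fun i => ψ (v i)) ∈ Submodule.span R₀ {v : Fin c → R₀ | ∃ i j : Fin c,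
      v = Pi.single i (ψ (l j)) - Pi.single j (ψ (l i))} := by
  induction hv using Submodule.span_induction with
  | mem v hv =>
    obtain ⟨i, j, rfl⟩ := hv
    refine Submodule.subset_span ⟨i, j, ?_⟩
    funext m
    rw [Pi.sub_apply, Pi.sub_apply, map_sub, Pi.single_apply, Pi.single_apply, Pi.single_apply,
      Pi.single_apply, apply_ite ψ, apply_ite ψ, map_zero]
  | zero =>
    have : (fun i => ψ ((0 : Fin c → T) i)) = 0 := by
      funext i; rw [Pi.zero_apply, map_zero]; rfl
    rw [this]
    exact Submodule.zero_mem _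
  | add v w _ _ hv hw =>
    have : (fun i => ψ ((v + w) i)) = (fun i => ψ (v i)) + fun i => ψ (w i) := by
      funext i; rw [Pi.add_apply, map_add]; rfl
    rw [this]
    exact Submodule.add_mem _ hv hw
  | smul t v _ hv =>
    have : (fun i => ψ ((t • v) i)) = ψ t • fun i => ψ (v i) := by
      funext i; rw [Pi.smul_apply, smul_eq_mul, map_mul]; rfl
    rw [this]
    exact Submodule.smul_mem _ _ hv

/-- `H_1`-regularity passes to the quotient by `𝔭T` when `T ⧸ (l)` is flat over `A`. -/
theorem isH1Regular_map_of_flat {A T R₀ : Type u} [CommRing A] [CommRing T] [CommRing R₀]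
    [Algebra A T] {c : ℕ} (l : Fin c → T)
    (hflat : Module.Flat A (T ⧸ Ideal.span (Set.range l)))
    (h1 : CAlgX.IsH1Regular l) (𝔭 : Ideal A) (ψ : T →+* R₀) (hψ : Function.Surjective ψ)
    (hker : RingHom.ker ψ = 𝔭.map (algebraMap A T)) :
    CAlgX.IsH1Regular (fun i => ψ (l i)) := by
  intro b hb
  choose a ha using fun i => hψ (b i)
  set J : Ideal T := Ideal.span (Set.range l) with hJ
  have hsumJ : ∑ i, a i * l i ∈ J :=
    Ideal.sum_mem _ fun i _ => Ideal.mul_mem_left _ _ (Ideal.subset_span ⟨i, rfl⟩)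
  have hsum𝔭 : ∑ i, a i * l i ∈ 𝔭.map (algebraMap A T) := by
    rw [← hker, RingHom.mem_ker, map_sum, ← hb]
    exact Finset.sum_congr rfl fun i _ => by rw [map_mul, ha]
  have hmul := inf_le_mul_of_flat J 𝔭 ⟨hsum𝔭, hsumJ⟩
  rw [← smul_eq_mul, hJ, Submodule.mem_ideal_smul_span_iff_exists_sum] at hmul
  obtain ⟨p, hp, hpsum⟩ := hmul
  have hzero : ∑ i, (a i - p i) * l i = 0 := by
    simp only [sub_mul, Finset.sum_sub_distrib]
    rw [sub_eq_zero, ← hpsum, Finsupp.sum_fintype _ _ (fun i => by simp)]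
    rfl
  have hmem := h1 (fun i => a i - p i) hzero
  have hb' : b = fun i => ψ (a i - p i) := by
    funext i
    rw [map_sub, ha, (RingHom.mem_ker).mp (hker ▸ hp i), sub_zero]
  rw [hb']
  exact map_mem_span_trivial_relations ψ l _ hmem


/-- Generic smoothness kills cotangent classes generically. -/
theorem exists_mul_mem_sq_of_formallySmooth' (k P A : Type u) [CommRing k] [CommRing P] [CommRing A]
    [Algebra k P] [Algebra k A] [Algebra.FormallySmooth k P] (f : P →ₐ[k] A)
    (hf : Function.Surjective f) (p : Ideal A) [p.IsPrime]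
    [Algebra.FormallySmooth k (Localization.AtPrime p)] (y : P) (hy : y ∈ RingHom.ker f.toRingHom)
    (hDy : D k P y ∈ (RingHom.ker f.toRingHom) • (⊤ : Submodule P Ω[P⁄k])) :
    ∃ s : P, s ∉ p.comap f.toRingHom ∧ s * y ∈ (RingHom.ker f.toRingHom) ^ 2 := by
  set I : Ideal P := RingHom.ker f.toRingHom with hI
  set 𝔭 : Ideal P := p.comap f.toRingHom with h𝔭
  let P' := Localization.AtPrime 𝔭
  let A' := Localization.AtPrime p
  let ψ : P' →+* A' := SurjLoc.locHom f.toRingHom p
  have hψsurj : Function.Surjective ψ := SurjLoc.locHom_surjective f.toRingHom p hf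
  have hψker : RingHom.ker ψ = I.map (algebraMap P P') := SurjLoc.ker_locHom f.toRingHom p hf
  algebraize [ψ]
  have hψalg : ∀ x : P, algebraMap P' A' (algebraMap P P' x) = algebraMap A A' (f x) :=
    fun x => SurjLoc.locHom_algebraMap f.toRingHom p x
  have : IsScalarTower k P' A' := by
    refine .of_algebraMap_eq fun c => ?_
    rw [IsScalarTower.algebraMap_apply k P P', hψalg, IsScalarTower.algebraMap_apply k A A']
    congr 1
    exact (f.commutes c).symm
  have : Algebra.FormallyEtale P P' := .of_isLocalization 𝔭.primeCompl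
  have : Algebra.FormallySmooth k P' := .comp k P P'
  obtain ⟨l, hl⟩ := (Algebra.FormallySmooth.iff_split_injection (R := k) (P := P') (A := A')
    hψsurj).mp inferInstance
  have hinj : Function.Injective (kerCotangentToTensor k P' A') := by
    intro a b hab
    have := congrArg l hab
    rwa [← LinearMap.comp_apply, ← LinearMap.comp_apply, hl] at this
  have hker : RingHom.ker (algebraMap P' A') = I.map (algebraMap P P') := hψker
  have hy' : algebraMap P P' y ∈ RingHom.ker (algebraMap P' A') := by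
    rw [hker]; exact Ideal.mem_map_of_mem _ hy
  -- the differential vanishes
  have hzero : ∀ ω ∈ I • (⊤ : Submodule P Ω[P⁄k]),
      (1 : A') ⊗ₜ[P'] (KaehlerDifferential.map k k P P' ω) = 0 := by
    intro ω hω
    refine Submodule.smul_induction_on hω ?_ ?_
    · intro i hi ω₀ _
      rw [map_smul, ← algebraMap_smul P' i, TensorProduct.tmul_smul, TensorProduct.smul_tmul',
        Algebra.smul_def, mul_one]
      have : algebraMap P' A' (algebraMap P P' i) = 0 := by
        rw [← RingHom.mem_ker, hker]; exact Ideal.mem_map_of_mem _ hi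
      rw [this, TensorProduct.zero_tmul]
    · intro x y hx hy
      rw [map_add, TensorProduct.tmul_add, hx, hy, add_zero]
  have hD : kerCotangentToTensor k P' A'
      ((RingHom.ker (algebraMap P' A')).toCotangent ⟨algebraMap P P' y, hy'⟩) = 0 := by
    rw [kerCotangentToTensor_toCotangent]
    have := hzero _ hDy
    rwa [KaehlerDifferential.map_D] at this
  have h0 : (RingHom.ker (algebraMap P' A')).toCotangent ⟨algebraMap P P' y, hy'⟩ = 0 :=
    hinj (by rw [hD, map_zero])
  rw [Ideal.toCotangent_eq_zero] at h0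
  have h0' : algebraMap P P' y ∈ (I ^ 2).map (algebraMap P P') := by
    rw [Ideal.map_pow, ← hker]; exact h0
  replace h0 := h0'
  obtain ⟨s, hs, hsy⟩ := (IsLocalization.algebraMap_mem_map_algebraMap_iff 𝔭.primeCompl P' _ _).mp h0
  exact ⟨s, hs, hsy⟩


/-- Membership in `I • ⊤` inside `T ⧸ J`. -/
theorem mk_mem_smul_top_iff {T : Type u} [CommRing T] (I J : Ideal T) (u : T) :
    (Ideal.Quotient.mk J u : T ⧸ J) ∈ I • (⊤ : Submodule T (T ⧸ J)) ↔ u ∈ J ⊔ I := by
  constructor
  · intro h
    refine Submodule.smul_induction_on (p := fun v => ∀ u : T, Ideal.Quotient.mk J u = v → u ∈ J ⊔ I)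
      h ?_ ?_ u rfl
    · intro i hi n _ u hu
      obtain ⟨n, rfl⟩ := Ideal.Quotient.mk_surjective n
      have : u - i * n ∈ J := by
        rw [← Ideal.Quotient.eq_zero_iff_mem, map_sub, hu, map_mul, Algebra.smul_def]
        exact sub_self _
      have h2 : u = (u - i * n) + i * n := by ring
      rw [h2]
      exact Ideal.add_mem _ (Ideal.mem_sup_left this) (Ideal.mem_sup_right (I.mul_mem_right _ hi))
    · intro x y hx hy u hu
      obtain ⟨x', rfl⟩ := Ideal.Quotient.mk_surjective x
      have h2 : u = x' + (u - x') := by ring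
      rw [h2]
      refine Ideal.add_mem _ (hx x' rfl) (hy _ ?_)
      rw [map_sub, hu]
      abel
  · intro h
    obtain ⟨j, hj, i, hi, rfl⟩ := Submodule.mem_sup.mp h
    rw [map_add, Ideal.Quotient.eq_zero_iff_mem.mpr hj, zero_add]
    have : (Ideal.Quotient.mk J i : T ⧸ J) = i • (1 : T ⧸ J) := by
      rw [Algebra.smul_def, mul_one]; rfl
    rw [this]
    exact Submodule.smul_mem_smul hi trivial

open IsLocalRing in
/-- If `T ⧸ J` is flat over the Noetherian ring `A` and the maximal ideal of the local ring `T`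
is associated to `T ⧸ J`, it is associated to `T ⧸ (J + 𝔭T)`, `𝔭` the contraction of the
maximal ideal. -/
theorem exists_colon_eq_maximalIdeal {A T : Type u} [CommRing A] [IsNoetherianRing A] [CommRing T]
    [IsLocalRing T] [IsNoetherianRing T] [Algebra A T] (J : Ideal T) [Module.Flat A (T ⧸ J)]
    (hass : maximalIdeal T ∈ associatedPrimes T (T ⧸ J)) :
    ∃ x : T, ∀ t : T, t ∈ maximalIdeal T ↔
      t * x ∈ J ⊔ ((maximalIdeal T).comap (algebraMap A T)).map (algebraMap A T) := by
  set 𝔭 : Ideal A := (maximalIdeal T).comap (algebraMap A T) with h𝔭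
  have h0 : maximalIdeal T ∈ associatedPrimes T ((T ⧸ J) ⊗[A] A) := by
    rw [LinearEquiv.AssociatedPrimes.eq (TensorProduct.AlgebraTensorModule.rid A T (T ⧸ J))]
    exact hass
  obtain ⟨𝔭', h𝔭', h1⟩ := Groth.Agent.H34.AssTensor.subset (R := A) (S := T) (M := A)
    (N := T ⧸ J) _ h0
  have h𝔭'p : 𝔭'.IsPrime := IsAssociatedPrime.isPrime h𝔭'
  obtain ⟨-, z, hz⟩ := isAssociatedPrime_iff.mp h1
  have hz0 : z ≠ 0 := by
    rintro rfl
    have : (1 : T) ∈ maximalIdeal T := by
      rw [hz, Submodule.mem_colon_singleton, smul_zero]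
      exact Submodule.zero_mem _
    exact (Ideal.ne_top_iff_one _).mp (maximalIdeal.isMaximal T).ne_top this
  have hmem : ∀ t : T, t ∈ maximalIdeal T ↔ t • z = 0 := by
    intro t
    rw [hz, Submodule.mem_colon_singleton, Submodule.mem_bot]
  -- `𝔭' = 𝔭`
  have hle1 : 𝔭' ≤ 𝔭 := by
    intro a ha
    rw [h𝔭, Ideal.mem_comap, hmem]
    obtain ⟨w, rfl⟩ := Submodule.Quotient.mk_surjective _ z
    rw [← Submodule.Quotient.mk_smul, Submodule.Quotient.mk_eq_zero]
    exact Submodule.smul_mem_smul (Ideal.mem_map_of_mem _ ha) trivial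
  have hle2 : 𝔭 ≤ 𝔭' := by
    intro a ha
    by_contra ha'
    apply hz0
    have h2 : algebraMap A T a • z = 0 := (hmem _).mp ha
    have h3 : a • (Groth.Agent.H34.AssTensor.psi (S := T) (N := T ⧸ J) 𝔭' z) = 0 := by
      rw [← algebraMap_smul T a, ← map_smul, h2, map_zero]
    -- multiplication by `a` is injective on `A ⧸ 𝔭'`, hence on `N ⊗ A ⧸ 𝔭'`
    let μ : (A ⧸ 𝔭') →ₗ[A] (A ⧸ 𝔭') := LinearMap.lsmul A (A ⧸ 𝔭') a
    have hμ : Function.Injective μ := by
      rw [injective_iff_map_eq_zero]
      intro r hr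
      obtain ⟨r, rfl⟩ := Ideal.Quotient.mk_surjective r
      have : Ideal.Quotient.mk 𝔭' (a * r) = 0 := by
        rw [← hr]
        show _ = a • (Ideal.Quotient.mk 𝔭' r)
        rw [Algebra.smul_def, map_mul]
        rfl
      rw [Ideal.Quotient.eq_zero_iff_mem] at this ⊢
      exact (h𝔭'p.mem_or_mem this).resolve_left ha'
    have hinj := Module.Flat.lTensor_preserves_injective_linearMap (M := T ⧸ J) μ hμ
    have h4 : LinearMap.lTensor (T ⧸ J) μ
        (Groth.Agent.H34.AssTensor.psi (S := T) (N := T ⧸ J) 𝔭' z) = 0 := by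
      rw [← h3]
      generalize Groth.Agent.H34.AssTensor.psi (S := T) (N := T ⧸ J) 𝔭' z = w
      induction w using TensorProduct.induction_on with
      | zero => simp
      | tmul n r => simp [μ, TensorProduct.tmul_smul]
      | add x y hx hy => rw [map_add, smul_add, hx, hy]
    have h5 := hinj (h4.trans (map_zero _).symm)
    exact (Groth.Agent.H34.AssTensor.psi_bijective (S := T) (N := T ⧸ J) 𝔭').1
      (h5.trans (map_zero _).symm)
  have heq : 𝔭' = 𝔭 := le_antisymm hle1 hle2
  clear hle1 hle2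
  subst heq
  -- lift `z`
  obtain ⟨w, rfl⟩ := Submodule.Quotient.mk_surjective _ z
  obtain ⟨x, rfl⟩ := Ideal.Quotient.mk_surjective w
  refine ⟨x, fun t => ?_⟩
  rw [hmem, ← mk_mem_smul_top_iff, ← Submodule.Quotient.mk_smul, Submodule.Quotient.mk_eq_zero]
  have : t • (Ideal.Quotient.mk J x : T ⧸ J) = (Ideal.Quotient.mk J (t * x) : T ⧸ J) := by
    rw [Algebra.smul_def, map_mul]; rfl
  rw [this]

end Groth.Agent.Lib.Helper94.FibreUnmixed
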