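import Mathlib
import Groth.Prelude.Def_EGA4b
import Groth.Agent.Lib.Helper94.CotFlat
import Groth.Agent.Lib.Helper94.FibreUnmixed
import Groth.Agent.Lib.Helper85.Vasc.Spread

/-!
# Helper94: the conormal module in the local ring of a fibre

For an `A`-algebra `P`, an ideal `I` of `P` with `P/I` flat over `A` and `I/I²` flat over `P/I`,
and a prime `𝔮` of `P`: the extension `J` of `I` to the fibre local ring
`T̄ = P_𝔮 / 𝔭 P_𝔮` again has `J/J²` flat.
-/

set_option autoImplicit false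
universe u

namespace Groth.Agent.Lib.Helper94.FibCot

open Groth.Agent.Lib.Helper94.CotFlat

variable {A P : Type u} [CommRing A] [CommRing P] [Algebra A P] (𝔮 : Ideal P) [𝔮.IsPrime]

/-- the canonical map `P → P_𝔮 / 𝔭 P_𝔮`. -/
noncomputable abbrev psi : P →+* EGA4.FibLocRing A P 𝔮 := algebraMap P (EGA4.FibLocRing A P 𝔮)

lemma psi_apply (x : P) : psi (A := A) 𝔮 x =
    Ideal.Quotient.mk _ (algebraMap P (Localization.AtPrime 𝔮) x) := rfl

lemma psi_T1 (x : EGA4.FibLocRing A P 𝔮) :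
    ∃ s p : P, IsUnit (psi (A := A) 𝔮 s) ∧ x * psi (A := A) 𝔮 s = psi (A := A) 𝔮 p := by
  obtain ⟨y, rfl⟩ := Ideal.Quotient.mk_surjective x
  obtain ⟨p, s, rfl⟩ := IsLocalization.exists_mk'_eq 𝔮.primeCompl y
  refine ⟨s, p, ?_, ?_⟩
  · rw [psi_apply]
    exact (IsLocalization.map_units (Localization.AtPrime 𝔮) s).map _
  · rw [psi_apply, psi_apply, ← map_mul, IsLocalization.mk'_spec]

lemma psi_algebraMap_eq_zero (a : A) (ha : a ∈ 𝔮.comap (algebraMap A P)) :
    psi (A := A) 𝔮 (algebraMap A P a) = 0 := by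
  rw [psi_apply, Ideal.Quotient.eq_zero_iff_mem, ← IsScalarTower.algebraMap_apply]
  exact Ideal.mem_map_of_mem _ ha

lemma map_le_ker_psi :
    (𝔮.comap (algebraMap A P)).map (algebraMap A P) ≤ RingHom.ker (psi (A := A) 𝔮) := by
  rw [Ideal.map_le_iff_le_comap]
  intro a ha
  exact psi_algebraMap_eq_zero 𝔮 a ha

lemma exists_mul_mem_of_psi_eq_zero (z : P) (hz : psi (A := A) 𝔮 z = 0) :
    ∃ t ∈ 𝔮.primeCompl, t * z ∈ (𝔮.comap (algebraMap A P)).map (algebraMap A P) := by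
  rw [psi_apply, Ideal.Quotient.eq_zero_iff_mem] at hz
  have h1 : (𝔮.comap (algebraMap A P)).map (algebraMap A (Localization.AtPrime 𝔮)) =
      ((𝔮.comap (algebraMap A P)).map (algebraMap A P)).map
        (algebraMap P (Localization.AtPrime 𝔮)) := by
    rw [Ideal.map_map, ← IsScalarTower.algebraMap_eq]
  rw [h1] at hz
  exact Groth.Agent.Lib.Helper85.Vasc.exists_mul_mem_of_algebraMap_mem 𝔮.primeCompl
    (Localization.AtPrime 𝔮) _ z hz

lemma ker_map_le_maximalIdeal :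
    (𝔮.comap (algebraMap A P)).map (algebraMap A (Localization.AtPrime 𝔮)) ≤
      IsLocalRing.maximalIdeal (Localization.AtPrime 𝔮) := by
  rw [Ideal.map_le_iff_le_comap]
  intro a ha
  rw [Ideal.mem_comap, IsScalarTower.algebraMap_apply A P (Localization.AtPrime 𝔮),
    IsLocalization.AtPrime.to_map_mem_maximal_iff _ 𝔮]
  exact ha

instance : Nontrivial (EGA4.FibLocRing A P 𝔮) := by
  apply Ideal.Quotient.nontrivial_iff.mpr
  intro h
  have := ker_map_le_maximalIdeal (A := A) 𝔮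
  rw [h] at this
  exact (IsLocalRing.maximalIdeal.isMaximal (Localization.AtPrime 𝔮)).ne_top (top_le_iff.mp this)

instance : IsLocalRing (EGA4.FibLocRing A P 𝔮) :=
  IsLocalRing.of_surjective' (Ideal.Quotient.mk _) Ideal.Quotient.mk_surjective

lemma psi_mem_maximalIdeal_iff (s : P) :
    psi (A := A) 𝔮 s ∈ IsLocalRing.maximalIdeal (EGA4.FibLocRing A P 𝔮) ↔ s ∈ 𝔮 := by
  have h2 := IsLocalRing.map_maximalIdeal_of_surjective
    (Ideal.Quotient.mk ((𝔮.comap (algebraMap A P)).map (algebraMap A (Localization.AtPrime 𝔮))))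
    Ideal.Quotient.mk_surjective
  constructor
  · intro h
    rw [← h2, psi_apply] at h
    obtain ⟨y, hy, hys⟩ := (Ideal.mem_map_iff_of_surjective _ Ideal.Quotient.mk_surjective).mp h
    have h3 : y - algebraMap P (Localization.AtPrime 𝔮) s ∈
        (𝔮.comap (algebraMap A P)).map (algebraMap A (Localization.AtPrime 𝔮)) := by
      rw [← Ideal.Quotient.eq_zero_iff_mem, map_sub, hys, sub_self]
    have h4 := ker_map_le_maximalIdeal (A := A) 𝔮 h3
    have h5 : algebraMap P (Localization.AtPrime 𝔮) s ∈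
        IsLocalRing.maximalIdeal (Localization.AtPrime 𝔮) := by
      have := Ideal.sub_mem _ hy h4
      rwa [sub_sub_cancel] at this
    exact (IsLocalization.AtPrime.to_map_mem_maximal_iff _ 𝔮 s).mp h5
  · intro h
    rw [← h2, psi_apply]
    exact Ideal.mem_map_of_mem _ ((IsLocalization.AtPrime.to_map_mem_maximal_iff _ 𝔮 s).mpr h)

lemma isUnit_psi_iff (s : P) : IsUnit (psi (A := A) 𝔮 s) ↔ s ∉ 𝔮 := by
  rw [← psi_mem_maximalIdeal_iff (A := A) 𝔮 s, IsLocalRing.mem_maximalIdeal, mem_nonunits_iff,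
    not_not]

section T2

variable (I : Ideal P) [Module.Flat A (P ⧸ I)] {r : ℕ} (F : Fin r → P)
  (hF : Ideal.span (Set.range F) = I)

include hF in
lemma psi_T2 (x : P) (hx : x ∈ I) (h : psi (A := A) 𝔮 x ∈ (I.map (psi (A := A) 𝔮)) ^ 2) :
    ∃ (s w : P) (p : Fin r → P), IsUnit (psi (A := A) 𝔮 s) ∧
      w ∈ I ^ 2 ∧ (∀ k, psi (A := A) 𝔮 (p k) = 0) ∧ s * x = w + ∑ k, p k * F k := by
  rw [← Ideal.map_pow] at h
  obtain ⟨s, z, hs, hz, hsz⟩ := exists_mul_sub_mem_of_map_mem (psi (A := A) 𝔮) (psi_T1 𝔮) (I ^ 2) x h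
  have hzI : z ∈ I := by
    have h1 : s * x - z ∈ I := Ideal.pow_le_self two_ne_zero hsz
    have h2 : s * x ∈ I := I.mul_mem_left _ hx
    have := I.sub_mem h2 h1
    rwa [sub_sub_cancel] at this
  obtain ⟨t, ht, htz⟩ := exists_mul_mem_of_psi_eq_zero 𝔮 z hz
  have h1 : t * z ∈ (𝔮.comap (algebraMap A P)).map (algebraMap A P) * I :=
    Groth.Agent.Lib.Helper94.FibreUnmixed.inf_le_mul_of_flat I _ ⟨htz, I.mul_mem_left _ hzI⟩
  rw [← hF, ← smul_eq_mul, Ideal.span, Submodule.mem_ideal_smul_span_iff_exists_sum] at h1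
  obtain ⟨a, ha, hsum⟩ := h1
  refine ⟨t * s, t * (s * x - z), fun k => a k, ?_, ?_, ?_, ?_⟩
  · rw [map_mul]
    exact ((isUnit_psi_iff 𝔮 t).mpr ht).mul hs
  · exact Ideal.mul_mem_left _ _ hsz
  · intro k
    exact map_le_ker_psi 𝔮 (ha k)
  · have h2 : ∑ k, a k * F k = t * z := by
      rw [← hsum, Finsupp.sum_fintype a (fun i c => c • F i) (fun i => zero_smul _ _)]
      simp only [smul_eq_mul]
    rw [h2]
    ring

end T2

/-- **Flatness of the conormal module passes to the fibre local ring.** -/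
theorem flat_cotangent_fibLocRing (I : Ideal P) (hI : I.FG) [Module.Flat A (P ⧸ I)]
    [Module.Flat (P ⧸ I) I.Cotangent] :
    Module.Flat (EGA4.FibLocRing A P 𝔮 ⧸ I.map (psi (A := A) 𝔮)) (I.map (psi (A := A) 𝔮)).Cotangent := by
  obtain ⟨r, F, hF⟩ := Submodule.fg_iff_exists_fin_generating_family.mp hI
  have hF' : Ideal.span (Set.range F) = I := hF
  have h1 : FlatE I F := flatE_of_flat I F hF'
  have h2 : FlatE (I.map (psi (A := A) 𝔮)) (psi (A := A) 𝔮 ∘ F) :=
    FlatE.map (psi (A := A) 𝔮) I F h1 (mem_of_span I F hF') (psi_T1 𝔮)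
      (fun x hx h => psi_T2 𝔮 I F hF' x hx h)
  refine flat_of_flatE _ _ ?_ h2
  rw [Set.range_comp, ← Ideal.map_span, hF']

end Groth.Agent.Lib.Helper94.FibCot
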