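import Mathlib
import Groth.Agent.Lib.Helper94.FibCot
import Groth.Agent.Lib.Helper85.Vasc.Seq
import Groth.Agent.S0563

/-!
# Helper94: local generation of an ideal with flat conormal module by a fibrewise regular sequence
-/

set_option autoImplicit false
universe u

namespace Groth.Agent.Lib.Helper94.LocGen

open RingTheory.Sequence CategoryTheory

section Vasc

variable {T : Type u} [CommRing T] [IsRegularLocalRing T]

/-- In a regular local ring, a proper ideal with flat conormal module is generated by a regular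
sequence (Vasconcelos). -/
theorem exists_isRegular_of_flat_cotangent (J : Ideal T) (hJ : J ≠ ⊤)
    [Module.Flat (T ⧸ J) J.Cotangent] :
    ∃ (c : ℕ) (x : Fin c → T), IsRegular T (List.ofFn x) ∧ Ideal.span (Set.range x) = J := by
  classical
  haveI : Nontrivial (T ⧸ J) := Ideal.Quotient.nontrivial_iff.mpr hJ
  haveI : IsLocalRing (T ⧸ J) :=
    IsLocalRing.of_surjective' (Ideal.Quotient.mk J) Ideal.Quotient.mk_surjective
  haveI : Module.Finite T J.Cotangent :=
    Module.Finite.of_surjective J.toCotangent J.toCotangent_surjective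
  haveI : Module.Finite (T ⧸ J) J.Cotangent := Module.Finite.of_restrictScalars_finite T _ _
  haveI : Module.Free (T ⧸ J) J.Cotangent := Module.free_of_flat_of_isLocalRing
  let c := Module.finrank (T ⧸ J) J.Cotangent
  let b : Module.Basis (Fin c) (T ⧸ J) J.Cotangent := Module.finBasis (T ⧸ J) J.Cotangent
  choose a ha using fun i => J.toCotangent_surjective (b i)
  let ψ : Fin c → (J →ₗ[T] T ⧸ J) := fun i =>
    ((b.coord i).restrictScalars T).comp J.toCotangent
  have hψ : ∀ i j, ψ i ⟨(a j : T), (a j).2⟩ = if i = j then 1 else 0 := by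
    intro i j
    show b.coord i (J.toCotangent ⟨(a j : T), (a j).2⟩) = _
    rw [Subtype.coe_eta, ha j, Module.Basis.coord_apply, Module.Basis.repr_self,
      Finsupp.single_apply]
    simp only [eq_comm]
  obtain ⟨d, hd⟩ : ∃ d : ℕ, ringKrullDim T = d :=
    ⟨_, (IsRegularLocalRing.spanFinrank_maximalIdeal (R := T)).symm⟩
  have hpd : HasProjectiveDimensionLT (ModuleCat.of T J) (d + 1) :=
    Groth.Agent.S0563.result T d hd J
  obtain ⟨x, hx, hreg⟩ := Groth.Agent.Lib.Helper85.Vasc.vasc_seq c T J hJ (d + 1) hpd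
    (fun i => (a i : T)) (fun i => (a i).2) ψ hψ
  refine ⟨c, x, hreg, ?_⟩
  have hxJ : ∀ i, x i ∈ J := by
    intro i
    have h1 : x i - a i ∈ J := Ideal.pow_le_self two_ne_zero (hx i)
    have := J.add_mem h1 (a i).2
    rwa [sub_add_cancel] at this
  apply le_antisymm
  · rw [Ideal.span_le]
    rintro _ ⟨i, rfl⟩
    exact hxJ i
  · apply Submodule.le_of_le_smul_of_le_jacobson_bot (I := IsLocalRing.maximalIdeal T)
      (IsNoetherian.noetherian J)
    · rw [IsLocalRing.jacobson_eq_maximalIdeal ⊥ bot_ne_top]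
    · intro y hy
      -- coordinates of the class of `y`
      choose cf hcf using fun i => Ideal.Quotient.mk_surjective (b.repr (J.toCotangent ⟨y, hy⟩) i)
      have h1 : J.toCotangent ⟨y, hy⟩ = J.toCotangent (∑ i, cf i • a i) := by
        rw [map_sum]
        conv_lhs => rw [← b.sum_repr (J.toCotangent ⟨y, hy⟩)]
        refine Finset.sum_congr rfl fun i _ => ?_
        rw [map_smul, ha i, ← hcf i, ← Ideal.Quotient.algebraMap_eq, algebraMap_smul]
      rw [Ideal.toCotangent_eq] at h1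
      have h2 : ((∑ i, cf i • a i : J) : T) = ∑ i, cf i * (a i : T) := by
        rw [Submodule.coe_sum]
        rfl
      rw [h2] at h1
      have h3 : y - ∑ i, cf i * x i ∈ J ^ 2 := by
        have h4 : y - ∑ i, cf i * x i = (y - ∑ i, cf i * (a i : T)) - ∑ i, cf i * (x i - a i) := by
          simp only [mul_sub, Finset.sum_sub_distrib]
          ring
        rw [h4]
        exact Ideal.sub_mem _ h1 (Ideal.sum_mem _ fun i _ => Ideal.mul_mem_left _ _ (hx i))
      have h5 : J ^ 2 ≤ IsLocalRing.maximalIdeal T • J := by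
        rw [pow_two, smul_eq_mul]
        exact Ideal.mul_mono_left (IsLocalRing.le_maximalIdeal hJ)
      have h6 : y = ∑ i, cf i * x i + (y - ∑ i, cf i * x i) := by ring
      rw [h6]
      exact Submodule.add_mem_sup
        (Ideal.sum_mem _ fun i _ => Ideal.mul_mem_left _ _ (Ideal.subset_span ⟨i, rfl⟩)) (h5 h3)

end Vasc

section Gen

open Groth.Agent.Lib.Helper94.FibCot Groth.Agent.Lib.Helper94.CotFlat

lemma ofList_ofFn {R : Type*} [CommRing R] {c : ℕ} (x : Fin c → R) :
    Ideal.ofList (List.ofFn x) = Ideal.span (Set.range x) := by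
  unfold Ideal.ofList
  congr 1
  ext y
  simp [List.mem_ofFn]

variable {A P : Type u} [CommRing A] [CommRing P] [Algebra A P] (𝔮 : Ideal P) [𝔮.IsPrime]

/-- **Local generation.**  If `P/I` is `A`-flat with flat conormal module and the fibre local ring
at `𝔮 ⊇ I` is regular, then near `𝔮` the ideal `I` is generated by elements which form a regular
sequence in the fibre local ring. -/
theorem exists_fibrewise_regular_generators (I : Ideal P) (hI : I.FG) (hIq : I ≤ 𝔮)
    [Module.Flat A (P ⧸ I)] [Module.Flat (P ⧸ I) I.Cotangent]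
    [IsRegularLocalRing (EGA4.FibLocRing A P 𝔮)] :
    ∃ (c : ℕ) (G : Fin c → P), (∀ i, G i ∈ I) ∧
      IsRegular (EGA4.FibLocRing A P 𝔮)
        ((List.ofFn G).map (algebraMap P (EGA4.FibLocRing A P 𝔮))) ∧
      ∃ g : P, g ∉ 𝔮 ∧ ∀ y ∈ I, g * y ∈ Ideal.span (Set.range G) := by
  classical
  set ψ : P →+* EGA4.FibLocRing A P 𝔮 := psi (A := A) 𝔮 with hψdef
  set J : Ideal (EGA4.FibLocRing A P 𝔮) := I.map ψ with hJdef
  have hJm : J ≤ IsLocalRing.maximalIdeal (EGA4.FibLocRing A P 𝔮) := by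
    rw [hJdef, Ideal.map_le_iff_le_comap]
    intro y hy
    exact (psi_mem_maximalIdeal_iff (A := A) 𝔮 y).mpr (hIq hy)
  have hJ : J ≠ ⊤ := fun h => (IsLocalRing.maximalIdeal.isMaximal _).ne_top
    (top_le_iff.mp (h ▸ hJm))
  haveI : Module.Flat (EGA4.FibLocRing A P 𝔮 ⧸ J) J.Cotangent := flat_cotangent_fibLocRing 𝔮 I hI
  obtain ⟨c, x, hreg, hxJ⟩ := exists_isRegular_of_flat_cotangent J hJ
  have hxmem : ∀ i, x i ∈ J := fun i => hxJ ▸ Ideal.subset_span ⟨i, rfl⟩
  -- lifting elements of `J`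
  choose sL pL hpL hsL hL using fun y : J =>
    exists_mul_eq_of_mem_map ψ (psi_T1 (A := A) 𝔮) I (y : EGA4.FibLocRing A P 𝔮) y.2
  let φ : EGA4.FibLocRing A P 𝔮 → EGA4.FibLocRing A P 𝔮 := fun y =>
    if h : y ∈ J then ψ (pL ⟨y, h⟩) else y
  have hφ : ∀ y, ∃ u, IsUnit u ∧ φ y = y * u := by
    intro y
    by_cases h : y ∈ J
    · exact ⟨ψ (sL ⟨y, h⟩), hsL ⟨y, h⟩, by simp only [φ, dif_pos h]; exact (hL ⟨y, h⟩).symm⟩
    · exact ⟨1, isUnit_one, by simp only [φ, dif_neg h, mul_one]⟩
  let G : Fin c → P := fun i => pL ⟨x i, hxmem i⟩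
  have hGI : ∀ i, G i ∈ I := fun i => hpL ⟨x i, hxmem i⟩
  have hmapeq : (List.ofFn G).map ψ = (List.ofFn x).map φ := by
    rw [List.map_ofFn, List.map_ofFn]
    congr 1
    funext i
    simp only [Function.comp_apply, φ, dif_pos (hxmem i), G]
  have hofList : Ideal.ofList ((List.ofFn G).map ψ) = J := by
    rw [hmapeq, Groth.Agent.Lib.Helper85.Vasc.ofList_map_mul_unit φ hφ, ofList_ofFn, hxJ]
  have hregG : IsRegular (EGA4.FibLocRing A P 𝔮) ((List.ofFn G).map ψ) := by
    refine ⟨?_, ?_⟩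
    · rw [hmapeq]
      exact Groth.Agent.Lib.Helper85.Vasc.isWeaklyRegular_map_mul_unit φ hφ _
        hreg.toIsWeaklyRegular
    · rw [hofList, smul_eq_mul, Ideal.mul_top]
      exact fun h => hJ h.symm
  refine ⟨c, G, hGI, hregG, ?_⟩
  -- Nakayama in `P_𝔮`
  set L : Ideal P := Ideal.span (Set.range G) with hLdef
  have hLI : L ≤ I := by
    rw [hLdef, Ideal.span_le]
    rintro _ ⟨i, rfl⟩
    exact hGI i
  have hLJ : L.map ψ = J := by
    rw [← hofList, hLdef, Ideal.map_span, ← Set.range_comp, ← ofList_ofFn, List.map_ofFn]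
  let Λ := Localization.AtPrime 𝔮
  have hle : I.map (algebraMap P Λ) ≤ L.map (algebraMap P Λ) := by
    apply Submodule.le_of_le_smul_of_le_jacobson_bot (I := IsLocalRing.maximalIdeal Λ)
      (hI.map (algebraMap P Λ))
    · rw [IsLocalRing.jacobson_eq_maximalIdeal ⊥ bot_ne_top]
    · rw [Ideal.map_le_iff_le_comap]
      intro y hy
      rw [Ideal.mem_comap]
      have hψy : ψ y ∈ L.map ψ := by
        rw [hLJ]
        exact Ideal.mem_map_of_mem _ hy
      obtain ⟨s, z, hs, hz, hsz⟩ :=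
        exists_mul_sub_mem_of_map_mem ψ (psi_T1 (A := A) 𝔮) L y hψy
      have hzI : z ∈ I := by
        have h1 : s * y - z ∈ I := hLI hsz
        have h2 : s * y ∈ I := I.mul_mem_left _ hy
        have := I.sub_mem h2 h1
        rwa [sub_sub_cancel] at this
      obtain ⟨t, ht, htz⟩ := exists_mul_mem_of_psi_eq_zero (A := A) 𝔮 z hz
      have h1 : t * z ∈ (𝔮.comap (algebraMap A P)).map (algebraMap A P) * I :=
        Groth.Agent.Lib.Helper94.FibreUnmixed.inf_le_mul_of_flat I _ ⟨htz, I.mul_mem_left _ hzI⟩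
      have hs' : s ∉ 𝔮 := (isUnit_psi_iff (A := A) 𝔮 s).mp hs
      have hu : IsUnit (algebraMap P Λ (t * s)) :=
        IsLocalization.map_units Λ (⟨t * s, 𝔮.primeCompl.mul_mem ht hs'⟩ : 𝔮.primeCompl)
      rw [← Ideal.unit_mul_mem_iff_mem _ hu, ← map_mul]
      have h2 : t * s * y = t * (s * y - z) + t * z := by ring
      rw [h2, map_add]
      refine Submodule.add_mem_sup (Ideal.mem_map_of_mem _ (L.mul_mem_left _ hsz)) ?_
      have h3 := Ideal.mem_map_of_mem (algebraMap P Λ) h1
      rw [Ideal.map_mul] at h3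
      rw [smul_eq_mul]
      refine Ideal.mul_mono_left ?_ h3
      rw [Ideal.map_map, ← IsScalarTower.algebraMap_eq]
      exact ker_map_le_maximalIdeal (A := A) 𝔮
  have h1 : ∀ y ∈ I, ∃ t ∈ 𝔮.primeCompl, t * y ∈ L := fun y hy =>
    Groth.Agent.Lib.Helper85.Vasc.exists_mul_mem_of_algebraMap_mem 𝔮.primeCompl Λ L y
      (hle (Ideal.mem_map_of_mem _ hy))
  obtain ⟨g, hg, hgI⟩ := Groth.Agent.Lib.Helper85.Vasc.exists_uniform_mul_mem 𝔮.primeCompl I L hI h1
  exact ⟨g, hg, hgI⟩

end Gen

end Groth.Agent.Lib.Helper94.LocGen
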