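import Mathlib
import Groth.Agent.Lib.Helper94.LocGen
import Groth.Agent.Lib.Helper82.RelGCIKoszul
import Groth.Agent.Lib.Helper29.FlatAscent4

/-!
# Helper94: flat conormal module ⇒ Koszul-regular ideal (polynomial presentations)
-/

set_option autoImplicit false
universe u

namespace Groth.Agent.Lib.Helper94.LciMain

open MvPolynomial RingTheory.Sequence TensorProduct
open Groth.Agent.Lib.Helper82.RelGCIAway Groth.Agent.Lib.Helper82.RelGCIRegLocal
open Groth.Agent.Lib.Helper94.LocGen

section Rename

variable (A : Type u) [CommRing A] (n : ℕ)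

/-- `A[x_1..x_{n+1}] ≃ A[x_1..x_n][T]` singling out the last variable. -/
noncomputable def lastEquiv :
    MvPolynomial (Fin (n + 1)) A ≃ₐ[A] Polynomial (MvPolynomial (Fin n) A) :=
  (renameEquiv A (finRotate (n + 1))).trans (finSuccEquiv A n)

lemma lastEquiv_rename (p : MvPolynomial (Fin n) A) :
    lastEquiv A n (rename Fin.castSucc p) = Polynomial.C p := by
  have h : ((lastEquiv A n).toAlgHom.comp (rename Fin.castSucc)) =
      IsScalarTower.toAlgHom A (MvPolynomial (Fin n) A) (Polynomial (MvPolynomial (Fin n) A)) := by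
    apply MvPolynomial.algHom_ext
    intro i
    show lastEquiv A n (rename Fin.castSucc (X i)) =
      algebraMap (MvPolynomial (Fin n) A) (Polynomial (MvPolynomial (Fin n) A)) (X i)
    rw [rename_X, lastEquiv, AlgEquiv.trans_apply, renameEquiv_apply, rename_X, finRotate_apply,
      Fin.coeSucc_eq_succ, finSuccEquiv_X_succ, Polynomial.algebraMap_eq]
  exact DFunLike.congr_fun h p

/-- adjoining a variable is flat. -/
theorem flat_rename_castSucc :
    (rename Fin.castSucc : MvPolynomial (Fin n) A →ₐ[A] MvPolynomial (Fin (n + 1)) A).toRingHom.Flat := by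
  have h1 : (rename Fin.castSucc : MvPolynomial (Fin n) A →ₐ[A]
      MvPolynomial (Fin (n + 1)) A).toRingHom =
      ((lastEquiv A n).symm : Polynomial (MvPolynomial (Fin n) A) →+* _).comp
        (algebraMap (MvPolynomial (Fin n) A) (Polynomial (MvPolynomial (Fin n) A))) := by
    refine RingHom.ext fun p => ?_
    show rename Fin.castSucc p = (lastEquiv A n).symm (algebraMap _ _ p)
    rw [Polynomial.algebraMap_eq, ← lastEquiv_rename]
    exact ((lastEquiv A n).symm_apply_apply _).symm
  rw [h1]
  exact RingHom.Flat.comp (RingHom.flat_algebraMap_iff.mpr inferInstance)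
    (RingHom.Flat.of_bijective (lastEquiv A n).symm.bijective)

end Rename

section Reg

variable (A : Type u) [CommRing A] (n : ℕ)

theorem isRegularLocalRing_fibLocRing (𝔮 : Ideal (MvPolynomial (Fin n) A)) [𝔮.IsPrime] :
    IsRegularLocalRing (EGA4.FibLocRing A (MvPolynomial (Fin n) A) 𝔮) := by
  obtain ⟨q', hq', ⟨e⟩⟩ :=
    Groth.Agent.Lib.Helper29.exists_fiber_prime_equiv_fibLocRing A (MvPolynomial (Fin n) A) 𝔮
  have hreg : IsRegularRing (MvPolynomial (Fin n) (𝔮.under A).ResidueField) :=
    MvPolynomial.isRegularRing_of_isRegularRing _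
  haveI : IsRegularRing ((𝔮.under A).Fiber (MvPolynomial (Fin n) A)) :=
    IsRegularRing.of_ringEquiv
      (MvPolynomial.algebraTensorAlgEquiv A (𝔮.under A).ResidueField (σ := Fin n)).toRingEquiv.symm
  haveI : IsRegularLocalRing (Localization.AtPrime q') :=
    IsRegularRing.isRegularLocalRing_localization q'
  exact IsRegularLocalRing.of_ringEquiv (R := Localization.AtPrime q') e

end Reg

section Main

variable (A : Type u) [CommRing A] (n : ℕ)

local notation "P" => MvPolynomial (Fin n) A

/-- From fibrewise regularity of `G` at `𝔮` to a relative global complete intersection on a basic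
open neighbourhood. -/
theorem exists_isRelGCI_of_isRegular (c : ℕ) (G : Fin c → P) (𝔮 : Ideal P) [𝔮.IsPrime]
    (hG𝔮 : Ideal.span (Set.range G) ≤ 𝔮)
    (hreg : IsRegular (EGA4.FibLocRing A P 𝔮)
      ((List.ofFn G).map (algebraMap P (EGA4.FibLocRing A P 𝔮)))) (g₁ : P) :
    ∃ h : P, h ∉ 𝔮 ∧ Synt.IsRelGCI A (n + 1) (c + 1) (F' A n c G (h * g₁)) := by
  classical
  set L : Ideal P := Ideal.span (Set.range G) with hL
  have hker : RingHom.ker (Ideal.Quotient.mk L) ≤ 𝔮 := by rwa [Ideal.mk_ker]
  haveI hpr : (𝔮.map (Ideal.Quotient.mk L)).IsPrime :=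
    Ideal.map_isPrime_of_surjective Ideal.Quotient.mk_surjective hker
  have hqq : (𝔮.map (Ideal.Quotient.mk L)).comap (Ideal.Quotient.mk L) = 𝔮 := by
    rw [Ideal.comap_map_of_surjective' _ Ideal.Quotient.mk_surjective, sup_eq_left.mpr hker]
  set q' : Ideal (Synt.RelGCIRing A n c G) := 𝔮.map (Ideal.Quotient.mk L) with hq'
  have hreg' : IsRegular (EGA4.FibLocRing A P (q'.comap (Ideal.Quotient.mk L)))
      ((List.ofFn G).map (algebraMap P (EGA4.FibLocRing A P (q'.comap (Ideal.Quotient.mk L))))) := by
    have key : ∀ (q₁ : Ideal P) [q₁.IsPrime], 𝔮 = q₁ → IsRegular (EGA4.FibLocRing A P q₁)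
        ((List.ofFn G).map (algebraMap P (EGA4.FibLocRing A P q₁))) := by
      intro q₁ _ hq₁
      subst hq₁
      exact hreg
    exact key _ hqq.symm
  have hiff := fun (Q' : Ideal ((q'.under A).Fiber (Synt.RelGCIRing A n c G))) (_ : Q'.IsPrime)
      (hQ' : Q'.comap (Algebra.TensorProduct.includeRight.toRingHom) = q') =>
    (Groth.Agent.Lib.Helper82.FibReg.isRegular_fibLocRing_iff A P n
      (Groth.Agent.Lib.Helper82.RelGCIFlat.hCM_poly A n)
      (Groth.Agent.Lib.Helper82.RelGCIFlat.heq_poly A n) (List.ofFn G) L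
      (Groth.Agent.Lib.Helper82.RelGCIFlat.ofList_ofFn A n c G) q' Q' hQ').mp hreg'
  -- `c ≤ n`
  have hc : c ≤ n := by
    have hlies : q'.LiesOver (q'.under A) := ⟨rfl⟩
    obtain ⟨Q', hQ'p, hQ'⟩ := Groth.Agent.Lib.Helper29.exists_fiber_prime (q'.under A) q'
    have := (hiff Q' hQ'p hQ').2
    rwa [List.length_ofFn] at this
  have hmem : (⟨q', hpr⟩ : PrimeSpectrum (Synt.RelGCIRing A n c G)) ∈
      fibLocus A (Synt.RelGCIRing A n c G) (n - c) := by
    intro Q' hQ'
    have := (hiff Q'.asIdeal Q'.isPrime hQ').1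
    rwa [List.length_ofFn] at this
  have hopen := isOpen_fibLocus A (Synt.RelGCIRing A n c G) (n - c)
  obtain ⟨_, ⟨hbar, rfl⟩, hq'h, hsub⟩ :=
    PrimeSpectrum.isTopologicalBasis_basic_opens.exists_subset_of_mem_open hmem hopen
  obtain ⟨h, rfl⟩ := Ideal.Quotient.mk_surjective hbar
  have hh𝔮 : h ∉ 𝔮 := by
    intro hmem'
    apply hq'h
    exact Ideal.mem_map_of_mem _ hmem'
  refine ⟨h, hh𝔮, ?_⟩
  have hD : ∀ q : PrimeSpectrum (Synt.RelGCIRing A n c G),
      Ideal.Quotient.mk (Ideal.span (Set.range G)) (h * g₁) ∉ q.asIdeal →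
        q ∈ fibLocus A (Synt.RelGCIRing A n c G) (n - c) := by
    intro q hq
    apply hsub
    show Ideal.Quotient.mk L h ∉ q.asIdeal
    intro hmem'
    apply hq
    rw [map_mul]
    exact Ideal.mul_mem_right _ _ hmem'
  exact isRelGCI_F' A n c G (h * g₁) hc (fun p' Q hQ =>
    localDim_le_of_basicOpen_subset (n - c) _ hD p' Q hQ)

/-- Koszul-regularity of `G` on the basic open `D(h')` from the relative global complete
intersection `(G, h' x_{n+1} - 1)`. -/
theorem isKoszulRegularSeq_away (c : ℕ) (G : Fin c → P) (h' : P)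
    (hrel : Synt.IsRelGCI A (n + 1) (c + 1) (F' A n c G h')) :
    LCI.IsKoszulRegularSeq (Localization.Away h')
      ((List.ofFn G).map (algebraMap P (Localization.Away h'))) := by
  classical
  apply Groth.Agent.Lib.Helper10.RegDescentKoszul.isKoszulRegularSeq_of_flat_local
  intro 𝔯'
  by_cases hL : (Ideal.span (Set.range G)).map (algebraMap P (Localization.Away h')) ≤ 𝔯'.asIdeal
  · -- the prime of `A[x_1..x_{n+1}]` corresponding to `𝔯'`
    let ι : P →ₐ[A] MvPolynomial (Fin (n + 1)) A := rename Fin.castSucc
    let v : Fin (n + 1) → Localization.Away h' :=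
      Fin.lastCases (IsLocalization.Away.invSelf h') (fun i => algebraMap P (Localization.Away h') (X i))
    let α : MvPolynomial (Fin (n + 1)) A →ₐ[A] Localization.Away h' := aeval v
    have hαι : ∀ p : P, α (ι p) = algebraMap P (Localization.Away h') p := by
      intro p
      have h : α.comp ι = IsScalarTower.toAlgHom A P (Localization.Away h') := by
        apply MvPolynomial.algHom_ext
        intro i
        show α (rename Fin.castSucc (X i)) = algebraMap P (Localization.Away h') (X i)
        rw [rename_X, aeval_X]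
        exact Fin.lastCases_castSucc i
      exact DFunLike.congr_fun h p
    have hαlast : α (X (Fin.last n)) = IsLocalization.Away.invSelf h' := by
      rw [aeval_X]
      exact Fin.lastCases_last
    set q'' : Ideal (MvPolynomial (Fin (n + 1)) A) := 𝔯'.asIdeal.comap α.toRingHom with hq''
    haveI hq''prime : q''.IsPrime := Ideal.comap_isPrime _ _
    have hF'q : Ideal.span (Set.range (F' A n c G h')) ≤ q'' := by
      rw [Ideal.span_le]
      rintro _ ⟨j, rfl⟩
      show α (F' A n c G h' j) ∈ 𝔯'.asIdeal
      refine Fin.lastCases ?_ (fun i => ?_) j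
      · rw [F'_last]
        have : α (rename Fin.castSucc h' * X (Fin.last n) - 1) = 0 := by
          rw [map_sub, map_mul, map_one, hαlast]
          show α (ι h') * _ - 1 = 0
          rw [hαι, IsLocalization.Away.mul_invSelf, sub_self]
        rw [this]
        exact zero_mem _
      · rw [F'_castSucc]
        show α (ι (G i)) ∈ 𝔯'.asIdeal
        rw [hαι]
        exact hL (Ideal.mem_map_of_mem _ (Ideal.subset_span ⟨i, rfl⟩))
    have hreg := isRegular_localized A (n + 1) (c + 1) (F' A n c G h') hrel q'' hF'q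
    have hreg2 := isRegular_take _ hreg c
    -- the flat map `θ`
    let g₀ : P →+* Localization.AtPrime q'' :=
      (algebraMap (MvPolynomial (Fin (n + 1)) A) (Localization.AtPrime q'')).comp ι.toRingHom
    have hunit : IsUnit (g₀ h') := by
      have hnot : ι h' ∉ q'' := by
        intro hmem
        have h1 : α (ι h') ∈ 𝔯'.asIdeal := hmem
        rw [hαι] at h1
        exact 𝔯'.isPrime.ne_top (Ideal.eq_top_of_isUnit_mem _ h1
          (IsLocalization.Away.algebraMap_isUnit h'))
      exact IsLocalization.map_units (Localization.AtPrime q'') (⟨ι h', hnot⟩ : q''.primeCompl)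
    let θ : Localization.Away h' →+* Localization.AtPrime q'' := IsLocalization.Away.lift h' hunit
    have hθ : ∀ p : P, θ (algebraMap P (Localization.Away h') p) = g₀ p :=
      fun p => IsLocalization.Away.lift_eq h' hunit p
    have hθcomp : θ.comp (algebraMap P (Localization.Away h')) = g₀ :=
      IsLocalization.Away.lift_comp h' hunit
    have hg₀flat : g₀.Flat :=
      RingHom.Flat.comp (flat_rename_castSucc A n) (RingHom.flat_algebraMap_iff.mpr inferInstance)
    have hθflat : θ.Flat := by
      rw [← hθcomp] at hg₀flat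
      algebraize [θ, θ.comp (algebraMap P (Localization.Away h'))]
      rw [RingHom.Flat, Module.flat_iff_of_isLocalization (S := Localization.Away h')
        (p := Submonoid.powers h')]
      exact hg₀flat
    refine ⟨Localization.AtPrime q'', inferInstance, θ, hθflat,
      ⟨⟨IsLocalRing.maximalIdeal _, inferInstance⟩, ?_⟩, ?_⟩
    · -- the prime over `𝔯'`
      apply PrimeSpectrum.localization_comap_injective (Localization.Away h') (Submonoid.powers h')
      ext x
      simp only [PrimeSpectrum.comap_asIdeal, Ideal.mem_comap]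
      rw [hθ]
      show algebraMap _ (Localization.AtPrime q'') (ι x) ∈ IsLocalRing.maximalIdeal _ ↔ _
      rw [IsLocalization.AtPrime.to_map_mem_maximal_iff _ q'']
      show α (ι x) ∈ 𝔯'.asIdeal ↔ _
      rw [hαι]
    · -- Koszul-regularity
      have hlist : ((List.ofFn G).map (algebraMap P (Localization.Away h'))).map θ =
          ((List.ofFn (F' A n c G h')).map
            (algebraMap (MvPolynomial (Fin (n + 1)) A) (Localization.AtPrime q''))).take c := by
        rw [← List.map_take, take_ofFn (F' A n c G h') c (Nat.le_succ c), List.map_map,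
          List.map_ofFn, List.map_ofFn]
        congr 1
        funext j
        simp only [Function.comp_apply]
        rw [hθ]
        show algebraMap _ (Localization.AtPrime q'') (ι (G j)) = _
        congr 1
        exact (F'_castSucc A n c G h' j).symm
      rw [hlist]
      exact Groth.Agent.Lib.Helper94.isKoszulRegularSeq_of_isRegular _ _ hreg2
  · refine ⟨Localization.AtPrime 𝔯'.asIdeal, inferInstance,
      algebraMap (Localization.Away h') (Localization.AtPrime 𝔯'.asIdeal), ?_,
      ⟨⟨IsLocalRing.maximalIdeal _, inferInstance⟩, ?_⟩, ?_⟩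
    · rw [RingHom.flat_algebraMap_iff]
      infer_instance
    · ext1
      exact IsLocalization.AtPrime.comap_maximalIdeal (Localization.AtPrime 𝔯'.asIdeal) 𝔯'.asIdeal
    · apply Groth.Agent.Lib.Helper10.RegDescentKoszul.isKoszulRegularSeq_of_top
      by_contra hne
      apply hL
      have hle := IsLocalRing.le_maximalIdeal hne
      rw [Ideal.map_le_iff_le_comap, Ideal.span_le]
      rintro _ ⟨k, rfl⟩
      have hmem : algebraMap (Localization.Away h') (Localization.AtPrime 𝔯'.asIdeal)
          (algebraMap P (Localization.Away h') (G k)) ∈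
          IsLocalRing.maximalIdeal (Localization.AtPrime 𝔯'.asIdeal) := by
        apply hle
        apply Ideal.subset_span
        exact List.mem_map.mpr ⟨_, List.mem_map.mpr ⟨G k, (List.mem_ofFn' G (G k)).mpr ⟨k, rfl⟩,
          rfl⟩, rfl⟩
      rwa [IsLocalization.AtPrime.to_map_mem_maximal_iff _ 𝔯'.asIdeal] at hmem

/-- **Main theorem.**  An ideal `I` of `A[x_1..x_n]` with `A[x]/I` flat over `A` and flat conormal
module is a Koszul-regular ideal. -/
theorem isKoszulRegularIdeal_of_flat_cotangent (I : Ideal P) (hI : I.FG)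
    [Module.Flat A (P ⧸ I)] [Module.Flat (P ⧸ I) I.Cotangent] : LCI.IsKoszulRegularIdeal I := by
  intro 𝔮 hIq
  haveI := isRegularLocalRing_fibLocRing A n 𝔮.asIdeal
  obtain ⟨c, G, hGI, hregG, g₁, hg₁, hg₁I⟩ :=
    exists_fibrewise_regular_generators (A := A) 𝔮.asIdeal I hI hIq
  have hLI : Ideal.span (Set.range G) ≤ I := by
    rw [Ideal.span_le]
    rintro _ ⟨i, rfl⟩
    exact hGI i
  obtain ⟨h, hh, hrel⟩ := exists_isRelGCI_of_isRegular A n c G 𝔮.asIdeal (hLI.trans hIq) hregG g₁
  refine ⟨h * g₁, ?_, (List.ofFn G).map (algebraMap P (Localization.Away (h * g₁))),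
    isKoszulRegularSeq_away A n c G (h * g₁) hrel, ?_⟩
  · intro hmem
    rcases 𝔮.isPrime.mem_or_mem hmem with h1 | h1
    · exact hh h1
    · exact hg₁ h1
  · show I.map _ = Ideal.ofList _
    rw [← Ideal.map_ofList, ofList_ofFn]
    apply le_antisymm
    · rw [Ideal.map_le_iff_le_comap]
      intro y hy
      rw [Ideal.mem_comap]
      have hu : IsUnit (algebraMap P (Localization.Away (h * g₁)) g₁) := by
        have := IsLocalization.Away.algebraMap_isUnit (S := Localization.Away (h * g₁)) (h * g₁)
        rw [map_mul] at this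
        exact isUnit_of_mul_isUnit_right this
      rw [← Ideal.unit_mul_mem_iff_mem _ hu, ← map_mul]
      exact Ideal.mem_map_of_mem _ (hg₁I y hy)
    · exact Ideal.map_mono hLI

end Main

end Groth.Agent.Lib.Helper94.LciMain

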