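import Mathlib
import Groth.Prelude.Def_Pi1
import Groth.Prelude.Def_EGA4b
import Groth.Agent.Lib.Helper62.CITrans2

/-!
# Complete intersections: generic lemmas for the flat ascent (helper94)
-/

set_option autoImplicit false
universe u

open IsLocalRing RingTheory.Sequence

namespace Groth.Agent.Lib.Helper94.CIAsc1

section Concat

variable {Q : Type*} [CommRing Q]

/-- Concatenating a weakly regular sequence `l₁` on `Q` with a sequence whose image is weakly regular
on `Q ⧸ (l₁)`. -/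
theorem isWeaklyRegular_append_of_quotient (l₁ l₂ : List Q) (K : Ideal Q) (hK : Ideal.ofList l₁ = K)
    (h₁ : IsWeaklyRegular Q l₁)
    (h₂ : IsWeaklyRegular (Q ⧸ K) (l₂.map (Ideal.Quotient.mk K))) :
    IsWeaklyRegular Q (l₁ ++ l₂) := by
  subst hK
  rw [isWeaklyRegular_append_iff]
  refine ⟨h₁, ?_⟩
  have h3 : IsWeaklyRegular (Q ⧸ Ideal.ofList l₁) l₂ :=
    (isWeaklyRegular_map_algebraMap_iff (Q ⧸ Ideal.ofList l₁) (Q ⧸ Ideal.ofList l₁) l₂).mp h₂
  have heq : (Ideal.ofList l₁ • ⊤ : Submodule Q Q) = Ideal.ofList l₁ := by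
    rw [smul_eq_mul, Ideal.mul_top]
  exact ((Submodule.quotEquivOfEq _ _ heq).isWeaklyRegular_congr l₂).mpr h3

end Concat

section Complete

/-- For a complete local ring, being a complete intersection can be tested on the ring itself. -/
theorem isCI_iff_of_complete (X : Type u) [CommRing X] [IsLocalRing X]
    [IsAdicComplete (maximalIdeal X) X] :
    Pi1.IsCompleteIntersection X ↔
      ∃ (B : Type u) (_ : CommRing B) (_ : IsRegularLocalRing B) (rs : List B),
        (∀ r ∈ rs, r ∈ maximalIdeal B) ∧ IsRegular B rs ∧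
          Nonempty (X ≃+* B ⧸ Ideal.span {r | r ∈ rs}) := by
  let e : X ≃+* AdicCompletion (maximalIdeal X) X :=
    (AdicCompletion.ofAlgEquiv (maximalIdeal X)).toRingEquiv
  constructor
  · rintro ⟨B, _, _, rs, h1, h2, ⟨φ⟩⟩
    exact ⟨B, inferInstance, inferInstance, rs, h1, h2, ⟨e.trans φ⟩⟩
  · rintro ⟨B, _, _, rs, h1, h2, ⟨φ⟩⟩
    exact ⟨B, inferInstance, inferInstance, rs, h1, h2, ⟨e.symm.trans φ⟩⟩

/-- If the completion of `Y` is isomorphic to the complete local ring `X`, then `Y` is a complete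
intersection iff `X` is. -/
theorem isCI_iff_of_completion_equiv (X Y : Type u) [CommRing X] [IsLocalRing X]
    [IsAdicComplete (maximalIdeal X) X] [CommRing Y] [IsLocalRing Y]
    (e : AdicCompletion (maximalIdeal Y) Y ≃+* X) :
    Pi1.IsCompleteIntersection Y ↔ Pi1.IsCompleteIntersection X := by
  rw [isCI_iff_of_complete X]
  constructor
  · rintro ⟨B, _, _, rs, h1, h2, ⟨φ⟩⟩
    exact ⟨B, inferInstance, inferInstance, rs, h1, h2, ⟨e.symm.trans φ⟩⟩
  · rintro ⟨B, _, _, rs, h1, h2, ⟨φ⟩⟩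
    exact ⟨B, inferInstance, inferInstance, rs, h1, h2, ⟨e.trans φ⟩⟩

end Complete

end Groth.Agent.Lib.Helper94.CIAsc1
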