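import Mathlib
import Groth.Agent.Lib.Helper94.CIAsc1
import Groth.Agent.S5068

/-!
# Complete intersections: the core of the flat ascent (helper94)
-/

set_option autoImplicit false
universe u

open IsLocalRing RingTheory.Sequence

namespace Groth.Agent.Lib.Helper94.CIAsc2

variable {P Q A B : Type u} [CommRing P] [CommRing Q] [CommRing A] [CommRing B]

/-- Core of the ascent: regular presentations `P → A`, `Q → B` compatible with a flat local map
`A → B` through a flat `τ : P → Q` with regular closed fibre. If `ker (P → A)` is generated by a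
regular sequence and the closed fibre of `A → B` is a complete intersection, then `ker (Q → B)` is
generated by a regular sequence. -/
theorem core [IsRegularLocalRing P] [IsRegularLocalRing Q] [IsLocalRing A] [IsLocalRing B]
    [IsNoetherianRing A] [IsNoetherianRing B] [Algebra A B] [IsLocalHom (algebraMap A B)]
    [Module.Flat A B]
    (ρ : P →+* A) (σ : Q →+* B) (τ : P →+* Q) (hρ : Function.Surjective ρ)
    (hσ : Function.Surjective σ) (hcomm : σ.comp τ = (algebraMap A B).comp ρ) (hτ : τ.Flat)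
    (hreg : IsRegularRing (Q ⧸ (maximalIdeal P).map τ))
    (hI : ∃ rs : List P, Ideal.ofList rs = RingHom.ker ρ ∧ IsRegular P rs)
    (hF : Pi1.IsCompleteIntersection (EGA4.FibRing A B)) :
    ∃ rs : List Q, Ideal.ofList rs = RingHom.ker σ ∧ IsRegular Q rs ∧
      ∀ r ∈ rs, r ∈ maximalIdeal Q := by
  classical
  obtain ⟨rsP, hrsP, hregP⟩ := hI
  letI : Algebra P Q := τ.toAlgebra
  haveI : Module.Flat P Q := hτ
  have hτa : algebraMap P Q = τ := rfl
  have hcomm' : ∀ p : P, σ (τ p) = algebraMap A B (ρ p) := fun p => by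
    have := congrArg (fun f => f p) hcomm
    simpa using this
  -- `σ` is local
  have hσloc : ∀ y : Q, σ y ∈ maximalIdeal B → y ∈ maximalIdeal Q := by
    intro y hy
    rw [mem_maximalIdeal, mem_nonunits_iff] at hy ⊢
    exact fun h => hy (h.map σ)
  -- `ρ` maps the maximal ideal into the maximal ideal
  have hρm : ∀ p : P, p ∈ maximalIdeal P → ρ p ∈ maximalIdeal A := by
    intro p hp
    haveI : IsLocalHom ρ := hρ.isLocalHom
    rw [mem_maximalIdeal, mem_nonunits_iff] at hp ⊢
    exact fun h => hp (isUnit_of_map_unit ρ p h)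
  -- `τ` maps the maximal ideal into the maximal ideal
  have hτm : ∀ p : P, p ∈ maximalIdeal P → τ p ∈ maximalIdeal Q := by
    intro p hp
    apply hσloc
    rw [hcomm']
    have h1 := hρm p hp
    rw [mem_maximalIdeal, mem_nonunits_iff] at h1 ⊢
    exact fun h => h1 (isUnit_of_map_unit (algebraMap A B) _ h)
  set I : Ideal P := RingHom.ker ρ with hIdef
  have hIne : I ≠ ⊤ := RingHom.ker_ne_top ρ
  have hIm : I ≤ maximalIdeal P := le_maximalIdeal hIne
  have hσI : I.map τ ≤ RingHom.ker σ := by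
    rw [Ideal.map_le_iff_le_comap]
    intro x hx
    rw [Ideal.mem_comap, RingHom.mem_ker, hcomm', (RingHom.mem_ker).mp hx, map_zero]
  -- the ring `C = Q / I Q`
  let eA : (P ⧸ I) ≃+* A := RingHom.quotientKerEquivOfSurjective hρ
  have heA : ∀ p : P, eA.symm (ρ p) = Ideal.Quotient.mk I p := by
    intro p
    rw [RingEquiv.symm_apply_eq]
    rfl
  let φ : A →+* (Q ⧸ I.map (algebraMap P Q)) :=
    (algebraMap (P ⧸ I) (Q ⧸ I.map (algebraMap P Q))).comp (eA.symm : A →+* P ⧸ I)
  have hφ : ∀ p : P, φ (ρ p) = Ideal.Quotient.mk (I.map (algebraMap P Q)) (τ p) := by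
    intro p
    change algebraMap (P ⧸ I) (Q ⧸ I.map (algebraMap P Q)) (eA.symm (ρ p)) = _
    rw [heA]
    rfl
  have hφflat : φ.Flat := by
    refine RingHom.Flat.comp (RingHom.Flat.of_bijective eA.symm.bijective) ?_
    rw [RingHom.flat_algebraMap_iff]
    exact Module.Flat.of_linearEquiv
      (Algebra.TensorProduct.quotIdealMapEquivQuotTensor Q I).toLinearEquiv
  letI algAC : Algebra A (Q ⧸ I.map (algebraMap P Q)) := φ.toAlgebra
  haveI flatAC : Module.Flat A (Q ⧸ I.map (algebraMap P Q)) := hφflat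
  let g : (Q ⧸ I.map (algebraMap P Q)) →+* B :=
    Ideal.Quotient.lift (I.map (algebraMap P Q)) σ (fun x hx => hσI hx)
  have hg : ∀ y : Q, g (Ideal.Quotient.mk _ y) = σ y := fun y => rfl
  letI algCB : Algebra (Q ⧸ I.map (algebraMap P Q)) B := g.toAlgebra
  haveI tower : IsScalarTower A (Q ⧸ I.map (algebraMap P Q)) B := by
    refine IsScalarTower.of_algebraMap_eq' ?_
    ext a
    obtain ⟨p, rfl⟩ := hρ a
    change _ = g (φ (ρ p))
    rw [hφ, hg, hcomm']
  have hgsurj : Function.Surjective g := fun b => by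
    obtain ⟨y, rfl⟩ := hσ b
    exact ⟨Ideal.Quotient.mk _ y, rfl⟩
  haveI ntC : Nontrivial (Q ⧸ I.map (algebraMap P Q)) := by
    rw [Ideal.Quotient.nontrivial_iff]
    intro h
    exact RingHom.ker_ne_top σ (top_le_iff.mp (h ▸ hσI))
  haveI locC : IsLocalRing (Q ⧸ I.map (algebraMap P Q)) :=
    IsLocalRing.of_surjective' (Ideal.Quotient.mk _) Ideal.Quotient.mk_surjective
  haveI lochom : IsLocalHom (algebraMap A (Q ⧸ I.map (algebraMap P Q))) := by
    constructor
    intro a ha
    have h1 : IsUnit (algebraMap A B a) := by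
      rw [IsScalarTower.algebraMap_apply A (Q ⧸ I.map (algebraMap P Q)) B]
      exact ha.map _
    exact isUnit_of_map_unit (algebraMap A B) a h1
  -- the closed fibre of `A → C` is `Q / 𝔪_P Q`
  have hmA : (maximalIdeal P).map ρ = maximalIdeal A := by
    rcases Ideal.map_eq_top_or_isMaximal_of_surjective ρ hρ (maximalIdeal.isMaximal P) with h | h
    · exfalso
      have h1 : (1 : A) ∈ (maximalIdeal P).map ρ := h ▸ Submodule.mem_top
      obtain ⟨p, hp, hp1⟩ := (Ideal.mem_map_iff_of_surjective ρ hρ).mp h1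
      have := hρm p hp
      rw [hp1] at this
      exact (maximalIdeal.isMaximal A).ne_top ((Ideal.eq_top_iff_one _).mpr this)
    · exact (IsLocalRing.eq_maximalIdeal h)
  have hmB : EGA4.mB A (Q ⧸ I.map (algebraMap P Q)) =
      ((maximalIdeal P).map τ).map (Ideal.Quotient.mk (I.map (algebraMap P Q))) := by
    change (maximalIdeal A).map φ = _
    rw [← hmA, Ideal.map_map, Ideal.map_map]
    congr 1
    ext p
    exact hφ p
  have hsup : I.map (algebraMap P Q) ⊔ (maximalIdeal P).map τ = (maximalIdeal P).map τ :=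
    sup_eq_right.mpr (Ideal.map_mono hIm)
  let e : EGA4.FibRing A (Q ⧸ I.map (algebraMap P Q)) ≃+* Q ⧸ (maximalIdeal P).map τ :=
    (Ideal.quotEquivOfEq hmB).trans
      ((DoubleQuot.quotQuotEquivQuotSup (I.map (algebraMap P Q)) ((maximalIdeal P).map τ)).trans
        (Ideal.quotEquivOfEq hsup))
  haveI : IsRegularRing (EGA4.FibRing A (Q ⧸ I.map (algebraMap P Q))) :=
    IsRegularRing.of_ringEquiv e.symm
  have hregC : IsRegularLocalRing (EGA4.FibRing A (Q ⧸ I.map (algebraMap P Q))) :=
    IsRegularLocalRing.of_isRegularRing_of_isLocalRing _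
  -- apply S5068
  obtain ⟨rsC, hrsC, hwC, -⟩ := (Groth.Agent.S5068.result A (Q ⧸ I.map (algebraMap P Q)) B hregC
    hgsurj).mpr ⟨inferInstance, hF⟩
  change Ideal.ofList rsC = RingHom.ker g at hrsC
  -- lift `rsC` to `Q`
  obtain ⟨rsQ, hrsQ, -⟩ := Groth.Agent.Lib.Helper62.CITrans.exists_list_lift
    (Ideal.Quotient.mk (I.map (algebraMap P Q))) Ideal.Quotient.mk_surjective ⊤ rsC
    (fun x _ => by
      rw [Ideal.map_top]
      exact Submodule.mem_top)
  have hofP : Ideal.ofList (rsP.map τ) = I.map (algebraMap P Q) := by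
    rw [← hrsP, Ideal.map_ofList]
    rfl
  have hkerσ : RingHom.ker σ = I.map (algebraMap P Q) ⊔ Ideal.ofList rsQ := by
    have h1 : RingHom.ker σ = (RingHom.ker g).comap (Ideal.Quotient.mk (I.map (algebraMap P Q))) := by
      ext y
      rw [Ideal.mem_comap, RingHom.mem_ker, RingHom.mem_ker, hg]
    rw [h1, ← hrsC, ← hrsQ, ← Ideal.map_ofList,
      Ideal.comap_map_of_surjective _ Ideal.Quotient.mk_surjective, ← RingHom.ker_eq_comap_bot,
      Ideal.mk_ker, sup_comm]
  refine ⟨rsP.map τ ++ rsQ, ?_, ?_, ?_⟩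
  · rw [Ideal.ofList_append, hofP, hkerσ]
  · have hmem : ∀ r ∈ rsP.map τ ++ rsQ, r ∈ maximalIdeal Q := by
      intro r hr
      apply hσloc
      have : r ∈ RingHom.ker σ := by
        rw [hkerσ, ← hofP, ← Ideal.ofList_append]
        exact Ideal.subset_span hr
      rw [(RingHom.mem_ker).mp this]
      exact zero_mem _
    have hw : IsWeaklyRegular Q (rsP.map τ ++ rsQ) := by
      refine Groth.Agent.Lib.Helper94.CIAsc1.isWeaklyRegular_append_of_quotient _ _ _ hofP ?_ ?_
      · exact hregP.toIsWeaklyRegular.of_flat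
      · rw [hrsQ]
        exact hwC
    refine ⟨hw, ?_⟩
    intro htop
    have h1 : (Ideal.ofList (rsP.map τ ++ rsQ) • ⊤ : Submodule Q Q) ≤ maximalIdeal Q := by
      rw [smul_eq_mul, Ideal.mul_top]
      exact Ideal.span_le.mpr hmem
    exact (maximalIdeal.isMaximal Q).ne_top (top_le_iff.mp (htop ▸ h1))
  · intro r hr
    apply hσloc
    have : r ∈ RingHom.ker σ := by
      rw [hkerσ, ← hofP, ← Ideal.ofList_append]
      exact Ideal.subset_span hr
    rw [(RingHom.mem_ker).mp this]
    exact zero_mem _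

end Groth.Agent.Lib.Helper94.CIAsc2
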