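import Mathlib
import Groth.Agent.Lib.Helper94.CIAsc2
import Groth.Agent.S2053
import Groth.Agent.S2169
import Groth.Agent.Lib.Helper73.RegularPowerSeries

/-!
# Complete intersections: flat ascent for complete local rings (helper94)
-/

set_option autoImplicit false
universe u

open IsLocalRing RingTheory.Sequence

namespace Groth.Agent.Lib.Helper94.CIAsc3

/-- Power series over a field or a Cohen ring form a regular local ring. -/
theorem isRegularLocalRing_mvPowerSeries (Λ : Type u) [CommRing Λ] (n : ℕ)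
    (hΛ : IsField Λ ∨ CAlg.IsCohenRing Λ) :
    ∃ _ : IsLocalRing Λ, IsRegularLocalRing (MvPowerSeries (Fin n) Λ) := by
  have hreg : IsRegularRing Λ := by
    rcases hΛ with hΛ | hΛ
    · let _ := hΛ.toField
      infer_instance
    · obtain ⟨_, _, _⟩ := hΛ
      infer_instance
  have hlocΛ : IsLocalRing Λ := by
    rcases hΛ with hΛ | hΛ
    · let _ := hΛ.toField
      infer_instance
    · obtain ⟨_, _, _⟩ := hΛ
      infer_instance
  have hS : IsRegularRing (MvPowerSeries (Fin n) Λ) :=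
    Groth.Agent.Lib.Helper73.RegularRing.isRegularRing_mvPowerSeries Λ n
  exact ⟨hlocΛ, IsRegularLocalRing.of_isRegularRing_of_isLocalRing _⟩

variable {A B : Type u} [CommRing A] [CommRing B] [IsLocalRing A] [IsLocalRing B]
  [IsNoetherianRing A] [IsNoetherianRing B]
  [IsAdicComplete (maximalIdeal A) A] [IsAdicComplete (maximalIdeal B) B]
  [Algebra A B] [IsLocalHom (algebraMap A B)] [Module.Flat A B]

/-- Flat ascent of the complete intersection property, complete case. -/
theorem isCI_of_flat_local_complete (hA : Pi1.IsCompleteIntersection A)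
    (hF : Pi1.IsCompleteIntersection (EGA4.FibRing A B)) :
    Pi1.IsCompleteIntersection B := by
  classical
  obtain ⟨Λ, Λ', _, _, hlocΛ, n, m, ρ, σ, τ, hΛ, hρ, hσ, hcomm, hτ, hreg⟩ :=
    Groth.Agent.S2053.result (A := A) (B := B)
  have hΛ1 : IsField Λ ∨ CAlg.IsCohenRing Λ := by
    rcases hΛ with ⟨-, h, -⟩ | ⟨-, h, -⟩
    · exact Or.inl h
    · exact Or.inr h
  have hΛ2 : IsField Λ' ∨ CAlg.IsCohenRing Λ' := by
    rcases hΛ with ⟨-, -, h⟩ | ⟨-, -, h⟩
    · exact Or.inl h
    · exact Or.inr h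
  obtain ⟨hloc1, hP⟩ := isRegularLocalRing_mvPowerSeries Λ n hΛ1
  obtain ⟨hloc2, hQ⟩ := isRegularLocalRing_mvPowerSeries Λ' m hΛ2
  have hI := Groth.Agent.S2169.result ρ hρ hA
  obtain ⟨rs, hrs, hregQ, hmem⟩ := Groth.Agent.Lib.Helper94.CIAsc2.core ρ σ τ hρ hσ hcomm hτ hreg hI hF
  rw [Groth.Agent.Lib.Helper94.CIAsc1.isCI_iff_of_complete B]
  refine ⟨MvPowerSeries (Fin m) Λ', inferInstance, hQ, rs, hmem, hregQ, ⟨?_⟩⟩
  exact (RingHom.quotientKerEquivOfSurjective hσ).symm.trans (Ideal.quotEquivOfEq hrs.symm)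

end Groth.Agent.Lib.Helper94.CIAsc3
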