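import Mathlib
import Groth.Agent.Lib.Helper94.CIAsc3
import Groth.Agent.Lib.Helper47.CompletionFlat
import Groth.Agent.Lib.Helper82.ComplQuot

/-!
# Complete intersections: flat ascent for Noetherian local rings (helper94)
-/

set_option autoImplicit false
universe u

open IsLocalRing RingTheory.Sequence

namespace Groth.Agent.Lib.Helper94.CIAsc4

/-- A local quotient of a complete Noetherian local ring is complete. -/
theorem isAdicComplete_quotient (T : Type u) [CommRing T] [IsLocalRing T] [IsNoetherianRing T]
    [IsAdicComplete (maximalIdeal T) T] (K : Ideal T) [IsLocalRing (T ⧸ K)] :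
    IsAdicComplete (maximalIdeal (T ⧸ K)) (T ⧸ K) := by
  have hm : maximalIdeal (T ⧸ K) = (maximalIdeal T).map (Ideal.Quotient.mk K) :=
    (map_maximalIdeal_of_surjective _ Ideal.Quotient.mk_surjective).symm
  rw [hm]
  exact Groth.Agent.Lib.Helper44.isAdicComplete_quotient_ring (maximalIdeal T) K

variable {R S : Type u} [CommRing R] [CommRing S] [IsLocalRing R] [IsLocalRing S]
  [IsNoetherianRing R] [IsNoetherianRing S] [Algebra R S] [IsLocalHom (algebraMap R S)]
  [Module.Flat R S]

/-- **Flat ascent of the complete intersection property** (Avramov, easy direction): for a flat local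
homomorphism `R → S` of Noetherian local rings, if `R` and the closed fibre `S / 𝔪_R S` are complete
intersections then so is `S`. -/
theorem isCI_of_flat_local (hR : Pi1.IsCompleteIntersection R)
    (hF : Pi1.IsCompleteIntersection (EGA4.FibRing R S)) :
    Pi1.IsCompleteIntersection S := by
  classical
  have hNR : IsNoetherianRing (AdicCompletion (maximalIdeal R) R) := Groth.Agent.S0543.result R _
  have hNS : IsNoetherianRing (AdicCompletion (maximalIdeal S) S) := Groth.Agent.S0543.result S _
  have hle : (maximalIdeal R).map (algebraMap R S) ≤ maximalIdeal S :=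
    IsLocalRing.map_maximalIdeal_le (algebraMap R S)
  let ψ : AdicCompletion (maximalIdeal R) R →+* AdicCompletion (maximalIdeal S) S :=
    FSch.complMap (maximalIdeal R) (maximalIdeal S) (algebraMap R S) hle
  have hψ : ψ.comp (algebraMap R (AdicCompletion (maximalIdeal R) R)) =
      (algebraMap S (AdicCompletion (maximalIdeal S) S)).comp (algebraMap R S) := by
    refine RingHom.ext fun r => ?_
    rw [RingHom.comp_apply, RingHom.comp_apply, AdicCompletion.algebraMap_apply,
      AdicCompletion.algebraMap_apply]
    exact Groth.Agent.Lib.Helper18.complMap_of _ _ _ hle r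
  have hflat : ψ.Flat := Groth.Agent.Lib.Helper47.flat_completion_of_flat R S ψ hψ
  letI : Algebra (AdicCompletion (maximalIdeal R) R) (AdicCompletion (maximalIdeal S) S) :=
    ψ.toAlgebra
  haveI : Module.Flat (AdicCompletion (maximalIdeal R) R) (AdicCompletion (maximalIdeal S) S) :=
    hflat
  have hmap : (maximalIdeal (AdicCompletion (maximalIdeal R) R)).map ψ =
      (EGA4.mB R S).map (algebraMap S (AdicCompletion (maximalIdeal S) S)) := by
    rw [AdicCompletion.maximalIdeal_eq_map, Ideal.map_map, hψ, ← Ideal.map_map]
  haveI : IsLocalHom (algebraMap (AdicCompletion (maximalIdeal R) R)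
      (AdicCompletion (maximalIdeal S) S)) := by
    apply ((IsLocalRing.local_hom_TFAE _).out 0 2).mpr
    change (maximalIdeal (AdicCompletion (maximalIdeal R) R)).map ψ ≤ _
    rw [hmap, AdicCompletion.maximalIdeal_eq_map (R := S)]
    exact Ideal.map_mono hle
  -- `R̂` is a complete intersection
  have hR' : Pi1.IsCompleteIntersection (AdicCompletion (maximalIdeal R) R) :=
    (Groth.Agent.Lib.Helper94.CIAsc1.isCI_iff_of_completion_equiv
      (AdicCompletion (maximalIdeal R) R) R (RingEquiv.refl _)).mp hR
  -- the closed fibre of `R̂ → Ŝ` is a complete intersection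
  have hF' : Pi1.IsCompleteIntersection (EGA4.FibRing (AdicCompletion (maximalIdeal R) R)
      (AdicCompletion (maximalIdeal S) S)) := by
    haveI := isAdicComplete_quotient (AdicCompletion (maximalIdeal S) S)
      (EGA4.mB (AdicCompletion (maximalIdeal R) R) (AdicCompletion (maximalIdeal S) S))
    obtain ⟨e⟩ := Groth.Agent.Lib.Helper82.ComplQuot.exists_ringEquiv S (EGA4.mB R S)
    have hmap' : EGA4.mB (AdicCompletion (maximalIdeal R) R) (AdicCompletion (maximalIdeal S) S) =
        (EGA4.mB R S).map (algebraMap S (AdicCompletion (maximalIdeal S) S)) := hmap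
    exact (Groth.Agent.Lib.Helper94.CIAsc1.isCI_iff_of_completion_equiv _ (EGA4.FibRing R S)
      (e.trans (Ideal.quotEquivOfEq hmap'.symm))).mp hF
  have hS' := Groth.Agent.Lib.Helper94.CIAsc3.isCI_of_flat_local_complete hR' hF'
  exact (Groth.Agent.Lib.Helper94.CIAsc1.isCI_iff_of_completion_equiv
    (AdicCompletion (maximalIdeal S) S) S (RingEquiv.refl _)).mpr hS'

end Groth.Agent.Lib.Helper94.CIAsc4
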