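import Mathlib

/-!
# Bezout matrices for `A[x_1..x_n]/(f_1..f_n)` (helper94)

In `Q = A[x, y]` (variables `x = X (castAdd j)`, `y = X (natAdd j)`):
`f_i(x) - f_i(y) = ∑ c_ij (x_j - y_j)`; the matrix `c` restricts to the Jacobian matrix on the
diagonal. Identifications `Q/(f(y), f(x)) = B ⊗ B`, `Q/(f(y), x - y) = B`.
-/

set_option autoImplicit false
universe u

namespace Groth.Agent.Lib.Helper94.Bezout

open MvPolynomial TensorProduct

variable (A : Type u) [CommRing A] (n : ℕ)

/-- `x`-variables -/
noncomputable def ιx : MvPolynomial (Fin n) A →ₐ[A] MvPolynomial (Fin (n + n)) A :=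
  rename (Fin.castAdd n)

/-- `y`-variables -/
noncomputable def ιy : MvPolynomial (Fin n) A →ₐ[A] MvPolynomial (Fin (n + n)) A :=
  rename (Fin.natAdd n)

/-- `x_j - y_j` -/
noncomputable def D (j : Fin n) : MvPolynomial (Fin (n + n)) A :=
  X (Fin.castAdd n j) - X (Fin.natAdd n j)

theorem ιx_X (j : Fin n) : ιx A n (X j) = X (Fin.castAdd n j) := rename_X _ _
theorem ιy_X (j : Fin n) : ιy A n (X j) = X (Fin.natAdd n j) := rename_X _ _

theorem sub_mem_span_D (p : MvPolynomial (Fin n) A) :
    ιx A n p - ιy A n p ∈ Ideal.span (Set.range (D A n)) := by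
  induction p using MvPolynomial.induction_on with
  | C a =>
    have : ιx A n (C a) - ιy A n (C a) = 0 := by
      simp [ιx, ιy]
    rw [this]
    exact Ideal.zero_mem _
  | add p q hp hq =>
    have : ιx A n (p + q) - ιy A n (p + q) =
        (ιx A n p - ιy A n p) + (ιx A n q - ιy A n q) := by
      rw [map_add, map_add]; ring
    rw [this]
    exact Ideal.add_mem _ hp hq
  | mul_X p j hp =>
    have : ιx A n (p * X j) - ιy A n (p * X j) =
        (ιx A n p - ιy A n p) * X (Fin.castAdd n j) + ιy A n p * D A n j := by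
      rw [map_mul, map_mul, ιx_X, ιy_X, D]; ring
    rw [this]
    exact Ideal.add_mem _ (Ideal.mul_mem_right _ _ hp)
      (Ideal.mul_mem_left _ _ (Ideal.subset_span ⟨j, rfl⟩))

/-- Bezout matrices exist. -/
theorem exists_bezout (f : Fin n → MvPolynomial (Fin n) A) :
    ∃ c : Matrix (Fin n) (Fin n) (MvPolynomial (Fin (n + n)) A),
      ∀ i, ιx A n (f i) - ιy A n (f i) = ∑ j, c i j * D A n j := by
  have h : ∀ i, ∃ ci : Fin n → MvPolynomial (Fin (n + n)) A,
      ∑ j, ci j * D A n j = ιx A n (f i) - ιy A n (f i) :=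
    fun i => Ideal.mem_span_range_iff_exists_fun.mp (sub_mem_span_D A n (f i))
  choose c hc using h
  exact ⟨Matrix.of c, fun i => (hc i).symm⟩

/-- restriction to the diagonal `y = x` -/
noncomputable def diag : MvPolynomial (Fin (n + n)) A →ₐ[A] MvPolynomial (Fin n) A :=
  aeval (Fin.append X X)

theorem diag_ιx (p : MvPolynomial (Fin n) A) : diag A n (ιx A n p) = p := by
  rw [diag, ιx, aeval_rename]
  have : (Fin.append X X : Fin (n + n) → MvPolynomial (Fin n) A) ∘ Fin.castAdd n = X := by
    funext j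
    exact Fin.append_left _ _ j
  rw [this, aeval_X_left, AlgHom.id_apply]

theorem diag_ιy (p : MvPolynomial (Fin n) A) : diag A n (ιy A n p) = p := by
  rw [diag, ιy, aeval_rename]
  have : (Fin.append X X : Fin (n + n) → MvPolynomial (Fin n) A) ∘ Fin.natAdd n = X := by
    funext j
    exact Fin.append_right _ _ j
  rw [this, aeval_X_left, AlgHom.id_apply]

theorem diag_D (j : Fin n) : diag A n (D A n j) = 0 := by
  rw [D, map_sub, ← ιx_X, ← ιy_X, diag_ιx, diag_ιy, sub_self]

theorem pderiv_ιy (j : Fin n) (p : MvPolynomial (Fin n) A) :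
    pderiv (Fin.castAdd n j) (ιy A n p) = 0 := by
  classical
  apply pderiv_eq_zero_of_notMem_vars
  intro h
  have h1 := vars_rename (Fin.natAdd n) p h
  rw [Finset.mem_image] at h1
  obtain ⟨i, -, hi⟩ := h1
  have h2 := congrArg Fin.val hi
  simp only [Fin.val_natAdd, Fin.val_castAdd] at h2
  omega

/-- The Bezout matrix restricts to the Jacobian matrix on the diagonal. -/
theorem diag_bezout (f : Fin n → MvPolynomial (Fin n) A)
    (c : Matrix (Fin n) (Fin n) (MvPolynomial (Fin (n + n)) A))
    (hc : ∀ i, ιx A n (f i) - ιy A n (f i) = ∑ j, c i j * D A n j) (i j : Fin n) :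
    diag A n (c i j) = pderiv j (f i) := by
  classical
  have h1 : diag A n (pderiv (Fin.castAdd n j) (ιx A n (f i) - ιy A n (f i))) =
      diag A n (pderiv (Fin.castAdd n j) (∑ m, c i m * D A n m)) := by rw [hc i]
  rw [map_sub, pderiv_ιy, sub_zero, ιx, pderiv_rename (Fin.castAdd_injective n n), ← ιx, diag_ιx,
    map_sum, map_sum] at h1
  rw [h1]
  rw [Finset.sum_eq_single j]
  · rw [Derivation.leibniz, smul_eq_mul, smul_eq_mul, map_add, map_mul, map_mul, diag_D, zero_mul,
      add_zero, D, map_sub, pderiv_X, pderiv_X]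
    have e1 : (Pi.single (Fin.castAdd n j) 1 : Fin (n + n) → MvPolynomial (Fin (n + n)) A)
        (Fin.castAdd n j) = 1 := Pi.single_eq_same _ _
    have e2 : (Pi.single (Fin.castAdd n j) 1 : Fin (n + n) → MvPolynomial (Fin (n + n)) A)
        (Fin.natAdd n j) = 0 := by
      apply Pi.single_eq_of_ne
      intro h
      have h2 := congrArg Fin.val h
      simp only [Fin.val_natAdd, Fin.val_castAdd] at h2
      omega
    rw [e1, e2, sub_zero, map_one, mul_one]
  · intro m _ hm
    rw [Derivation.leibniz, smul_eq_mul, smul_eq_mul, map_add, map_mul, map_mul, diag_D, zero_mul,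
      add_zero, D, map_sub, pderiv_X, pderiv_X]
    have e1 : (Pi.single (Fin.castAdd n j) 1 : Fin (n + n) → MvPolynomial (Fin (n + n)) A)
        (Fin.castAdd n m) = 0 := by
      apply Pi.single_eq_of_ne
      intro h
      exact hm (Fin.castAdd_injective n n h)
    have e2 : (Pi.single (Fin.castAdd n j) 1 : Fin (n + n) → MvPolynomial (Fin (n + n)) A)
        (Fin.natAdd n m) = 0 := by
      apply Pi.single_eq_of_ne
      intro h
      have h2 := congrArg Fin.val h
      simp only [Fin.val_natAdd, Fin.val_castAdd] at h2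
      omega
    rw [e1, e2, sub_zero, map_zero, mul_zero]
  · intro h
    exact absurd (Finset.mem_univ _) h

/-- An algebra map into a quotient of a polynomial ring is surjective once it hits the variables. -/
theorem surjective_of_X_mem_range {σ : Type*} {S : Type*} [CommRing S] [Algebra A S]
    (I : Ideal (MvPolynomial σ A)) (φ : S →ₐ[A] (MvPolynomial σ A ⧸ I))
    (h : ∀ k, Ideal.Quotient.mk I (X k) ∈ φ.range) : Function.Surjective φ := by
  intro y
  obtain ⟨q, rfl⟩ := Ideal.Quotient.mk_surjective y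
  change Ideal.Quotient.mk I q ∈ φ.range
  induction q using MvPolynomial.induction_on with
  | C a =>
    have : Ideal.Quotient.mk I (C a) = algebraMap A _ a := rfl
    rw [this]
    exact Subalgebra.algebraMap_mem _ a
  | add p q hp hq =>
    rw [map_add]
    exact Subalgebra.add_mem _ hp hq
  | mul_X p k hp =>
    rw [map_mul]
    exact Subalgebra.mul_mem _ hp (h k)

variable (f : Fin n → MvPolynomial (Fin n) A)

/-- the generators `(f(y), f(x))` -/
noncomputable def F : Fin (n + n) → MvPolynomial (Fin (n + n)) A :=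
  Fin.append (fun i => ιy A n (f i)) (fun i => ιx A n (f i))

/-- the generators `(f(y), x - y)` -/
noncomputable def G : Fin (n + n) → MvPolynomial (Fin (n + n)) A :=
  Fin.append (fun i => ιy A n (f i)) (D A n)

theorem ιy_mem_F (i : Fin n) : ιy A n (f i) ∈ Ideal.span (Set.range (F A n f)) :=
  Ideal.subset_span ⟨Fin.castAdd n i, by rw [F, Fin.append_left]⟩

theorem ιx_mem_F (i : Fin n) : ιx A n (f i) ∈ Ideal.span (Set.range (F A n f)) :=
  Ideal.subset_span ⟨Fin.natAdd n i, by rw [F, Fin.append_right]⟩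

theorem ιy_mem_G (i : Fin n) : ιy A n (f i) ∈ Ideal.span (Set.range (G A n f)) :=
  Ideal.subset_span ⟨Fin.castAdd n i, by rw [G, Fin.append_left]⟩

theorem D_mem_G (j : Fin n) : D A n j ∈ Ideal.span (Set.range (G A n f)) :=
  Ideal.subset_span ⟨Fin.natAdd n j, by rw [G, Fin.append_right]⟩

theorem range_append {α : Type*} {m k : ℕ} (u : Fin m → α) (v : Fin k → α) :
    Set.range (Fin.append u v) = Set.range u ∪ Set.range v := by
  ext x
  constructor
  · rintro ⟨i, rfl⟩
    induction i using Fin.addCases with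
    | left i => exact Or.inl ⟨i, (Fin.append_left u v i).symm⟩
    | right i => exact Or.inr ⟨i, (Fin.append_right u v i).symm⟩
  · rintro (⟨i, rfl⟩ | ⟨i, rfl⟩)
    · exact ⟨Fin.castAdd k i, Fin.append_left u v i⟩
    · exact ⟨Fin.natAdd m i, Fin.append_right u v i⟩

theorem span_F : Ideal.span (Set.range (F A n f)) =
    Ideal.span (Set.range fun i => ιy A n (f i)) ⊔ Ideal.span (Set.range fun i => ιx A n (f i)) := by
  rw [F, range_append, Ideal.span_union]

theorem span_G : Ideal.span (Set.range (G A n f)) =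
    Ideal.span (Set.range fun i => ιy A n (f i)) ⊔ Ideal.span (Set.range (D A n)) := by
  rw [G, range_append, Ideal.span_union]

local notation "B" => MvPolynomial (Fin n) A ⧸ Ideal.span (Set.range f)

/-- `Q → B ⊗ B` -/
noncomputable def π : MvPolynomial (Fin (n + n)) A →ₐ[A] B ⊗[A] B :=
  aeval (Fin.append (fun j => (Ideal.Quotient.mk (Ideal.span (Set.range f)) (X j)) ⊗ₜ[A] (1 : B))
    (fun j => (1 : B) ⊗ₜ[A] (Ideal.Quotient.mk (Ideal.span (Set.range f)) (X j))))

theorem π_ιx (p : MvPolynomial (Fin n) A) :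
    π A n f (ιx A n p) = (Ideal.Quotient.mk (Ideal.span (Set.range f)) p) ⊗ₜ[A] (1 : B) := by
  have h : (π A n f).comp (ιx A n) = (Algebra.TensorProduct.includeLeft : B →ₐ[A] B ⊗[A] B).comp
      (Ideal.Quotient.mkₐ A (Ideal.span (Set.range f))) := by
    apply MvPolynomial.algHom_ext
    intro j
    simp only [AlgHom.comp_apply, ιx_X, π, aeval_X, Fin.append_left]
    rfl
  exact AlgHom.congr_fun h p

theorem π_ιy (p : MvPolynomial (Fin n) A) :
    π A n f (ιy A n p) = (1 : B) ⊗ₜ[A] (Ideal.Quotient.mk (Ideal.span (Set.range f)) p) := by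
  have h : (π A n f).comp (ιy A n) = (Algebra.TensorProduct.includeRight : B →ₐ[A] B ⊗[A] B).comp
      (Ideal.Quotient.mkₐ A (Ideal.span (Set.range f))) := by
    apply MvPolynomial.algHom_ext
    intro j
    simp only [AlgHom.comp_apply, ιy_X, π, aeval_X, Fin.append_right]
    rfl
  exact AlgHom.congr_fun h p

theorem π_surjective : Function.Surjective (π A n f) := by
  intro t
  induction t using TensorProduct.induction_on with
  | zero => exact ⟨0, map_zero _⟩
  | add x y hx hy =>
    obtain ⟨p, rfl⟩ := hx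
    obtain ⟨q, rfl⟩ := hy
    exact ⟨p + q, map_add _ _ _⟩
  | tmul x y =>
    obtain ⟨p, rfl⟩ := Ideal.Quotient.mk_surjective x
    obtain ⟨q, rfl⟩ := Ideal.Quotient.mk_surjective y
    refine ⟨ιx A n p * ιy A n q, ?_⟩
    rw [map_mul, π_ιx, π_ιy, Algebra.TensorProduct.tmul_mul_tmul, mul_one, one_mul]

theorem π_F (k : Fin (n + n)) : π A n f (F A n f k) = 0 := by
  induction k using Fin.addCases with
  | left i =>
    have h0 : Ideal.Quotient.mk (Ideal.span (Set.range f)) (f i) = 0 :=
      Ideal.Quotient.eq_zero_iff_mem.mpr (Ideal.subset_span ⟨i, rfl⟩)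
    rw [F, Fin.append_left, π_ιy, h0, TensorProduct.tmul_zero]
  | right i =>
    have h0 : Ideal.Quotient.mk (Ideal.span (Set.range f)) (f i) = 0 :=
      Ideal.Quotient.eq_zero_iff_mem.mpr (Ideal.subset_span ⟨i, rfl⟩)
    rw [F, Fin.append_right, π_ιx, h0, TensorProduct.zero_tmul]

/-- `B ⊗ B → Q/(F)` -/
noncomputable def Ψ : B ⊗[A] B →ₐ[A]
    (MvPolynomial (Fin (n + n)) A ⧸ Ideal.span (Set.range (F A n f))) :=
  Algebra.TensorProduct.productMap
    (Ideal.Quotient.liftₐ (Ideal.span (Set.range f))
      ((Ideal.Quotient.mkₐ A (Ideal.span (Set.range (F A n f)))).comp (ιx A n)) (by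
        intro a ha
        have : Ideal.span (Set.range f) ≤ RingHom.ker
            ((Ideal.Quotient.mkₐ A (Ideal.span (Set.range (F A n f)))).comp (ιx A n)) := by
          rw [Ideal.span_le]
          rintro _ ⟨i, rfl⟩
          change (Ideal.Quotient.mkₐ A _) (ιx A n (f i)) = 0
          exact Ideal.Quotient.eq_zero_iff_mem.mpr (ιx_mem_F A n f i)
        exact this ha))
    (Ideal.Quotient.liftₐ (Ideal.span (Set.range f))
      ((Ideal.Quotient.mkₐ A (Ideal.span (Set.range (F A n f)))).comp (ιy A n)) (by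
        intro a ha
        have : Ideal.span (Set.range f) ≤ RingHom.ker
            ((Ideal.Quotient.mkₐ A (Ideal.span (Set.range (F A n f)))).comp (ιy A n)) := by
          rw [Ideal.span_le]
          rintro _ ⟨i, rfl⟩
          change (Ideal.Quotient.mkₐ A _) (ιy A n (f i)) = 0
          exact Ideal.Quotient.eq_zero_iff_mem.mpr (ιy_mem_F A n f i)
        exact this ha))

theorem Ψ_π (q : MvPolynomial (Fin (n + n)) A) :
    Ψ A n f (π A n f q) = Ideal.Quotient.mk (Ideal.span (Set.range (F A n f))) q := by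
  have h : (Ψ A n f).comp (π A n f) = Ideal.Quotient.mkₐ A (Ideal.span (Set.range (F A n f))) := by
    apply MvPolynomial.algHom_ext
    intro k
    induction k using Fin.addCases with
    | left j =>
      rw [AlgHom.comp_apply, ← ιx_X, π_ιx, Ψ, Algebra.TensorProduct.productMap_apply_tmul, map_one,
        mul_one]
      rfl
    | right j =>
      rw [AlgHom.comp_apply, ← ιy_X, π_ιy, Ψ, Algebra.TensorProduct.productMap_apply_tmul, map_one,
        one_mul]
      rfl
  exact AlgHom.congr_fun h q

theorem ker_π : RingHom.ker (π A n f) = Ideal.span (Set.range (F A n f)) := by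
  apply le_antisymm
  · intro q hq
    rw [RingHom.mem_ker] at hq
    have := Ψ_π A n f q
    rw [hq, map_zero] at this
    exact Ideal.Quotient.eq_zero_iff_mem.mp this.symm
  · rw [Ideal.span_le]
    rintro _ ⟨k, rfl⟩
    exact π_F A n f k

theorem Ψ_surjective : Function.Surjective (Ψ A n f) := by
  intro y
  obtain ⟨q, rfl⟩ := Ideal.Quotient.mk_surjective y
  exact ⟨π A n f q, Ψ_π A n f q⟩

/-- `Q → B`, both sets of variables to `x̄`. -/
noncomputable def δ : MvPolynomial (Fin (n + n)) A →ₐ[A] B :=
  (Ideal.Quotient.mkₐ A (Ideal.span (Set.range f))).comp (diag A n)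

theorem δ_G (k : Fin (n + n)) : δ A n f (G A n f k) = 0 := by
  induction k using Fin.addCases with
  | left i =>
    rw [G, Fin.append_left, δ, AlgHom.comp_apply, diag_ιy]
    exact Ideal.Quotient.eq_zero_iff_mem.mpr (Ideal.subset_span ⟨i, rfl⟩)
  | right j =>
    rw [G, Fin.append_right, δ, AlgHom.comp_apply, diag_D, map_zero]

/-- `B → Q/(G)` via the `y`-variables is surjective. -/
theorem exists_surjective_G : ∃ φ : B →ₐ[A]
    (MvPolynomial (Fin (n + n)) A ⧸ Ideal.span (Set.range (G A n f))), Function.Surjective φ := by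
  let φ : B →ₐ[A] (MvPolynomial (Fin (n + n)) A ⧸ Ideal.span (Set.range (G A n f))) :=
    Ideal.Quotient.liftₐ (Ideal.span (Set.range f))
      ((Ideal.Quotient.mkₐ A (Ideal.span (Set.range (G A n f)))).comp (ιy A n)) (by
        intro a ha
        have : Ideal.span (Set.range f) ≤ RingHom.ker
            ((Ideal.Quotient.mkₐ A (Ideal.span (Set.range (G A n f)))).comp (ιy A n)) := by
          rw [Ideal.span_le]
          rintro _ ⟨i, rfl⟩
          change (Ideal.Quotient.mkₐ A _) (ιy A n (f i)) = 0
          exact Ideal.Quotient.eq_zero_iff_mem.mpr (ιy_mem_G A n f i)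
        exact this ha)
  have hφ : ∀ p, φ (Ideal.Quotient.mk _ p) = Ideal.Quotient.mk _ (ιy A n p) := fun p => rfl
  refine ⟨φ, surjective_of_X_mem_range A _ φ ?_⟩
  intro k
  induction k using Fin.addCases with
  | left j =>
    refine ⟨Ideal.Quotient.mk _ (X j), ?_⟩
    change φ (Ideal.Quotient.mk _ (X j)) = _
    rw [hφ, ιy_X]
    symm
    rw [Ideal.Quotient.eq]
    exact D_mem_G A n f j
  | right j =>
    refine ⟨Ideal.Quotient.mk _ (X j), ?_⟩
    change φ (Ideal.Quotient.mk _ (X j)) = _
    rw [hφ, ιy_X]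

end Groth.Agent.Lib.Helper94.Bezout
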