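import Mathlib
import Groth.Prelude.Def_BlowUp2

/-!
# Algebra of the affine blow-up algebra `A[I/a₀]` as a quotient of a polynomial ring (helper94)
-/

set_option autoImplicit false
universe u
open MvPolynomial

namespace Groth.Agent.Lib.Helper94.BlowAlg

attribute [local instance] MvPolynomial.algebraMvPolynomial

section Loc

variable {A : Type u} [CommRing A] (a₀ : A) (σ : Type*)

/-- clearing denominators for ideal membership in `A_{a₀}[x]`. -/
theorem exists_pow_mul_mem (J : Ideal (MvPolynomial σ A)) (g : MvPolynomial σ A)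
    (h : algebraMap (MvPolynomial σ A) (MvPolynomial σ (Localization.Away a₀)) g ∈
      J.map (algebraMap (MvPolynomial σ A) (MvPolynomial σ (Localization.Away a₀)))) :
    ∃ N : ℕ, C (a₀ ^ N) * g ∈ J := by
  set M : Submonoid A := Submonoid.powers a₀ with hM
  rw [IsLocalization.mem_map_algebraMap_iff (M.map (C (σ := σ)))] at h
  obtain ⟨⟨⟨j, hj⟩, ⟨m, hm⟩⟩, hx⟩ := h
  simp only at hx
  rw [← map_mul, IsLocalization.eq_iff_exists (M.map (C (σ := σ)))] at hx
  obtain ⟨⟨m', hm'⟩, hx⟩ := hx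
  simp only at hx
  obtain ⟨_, ⟨N, rfl⟩, rfl⟩ := hm
  obtain ⟨_, ⟨N', rfl⟩, rfl⟩ := hm'
  refine ⟨N' + N, ?_⟩
  have : C (a₀ ^ (N' + N)) * g = C (a₀ ^ N') * j := by
    rw [pow_add, C_mul, mul_assoc, ← hx]
    ring
  rw [this]
  exact J.mul_mem_left _ hj

/-- the same with `MvPolynomial.map`. -/
theorem exists_pow_mul_mem' (J : Ideal (MvPolynomial σ A)) (g : MvPolynomial σ A)
    (h : MvPolynomial.map (algebraMap A (Localization.Away a₀)) g ∈
      J.map (MvPolynomial.map (algebraMap A (Localization.Away a₀)))) :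
    ∃ N : ℕ, C (a₀ ^ N) * g ∈ J :=
  exists_pow_mul_mem a₀ σ J g h

end Loc

section Nzd

variable {R : Type*} [CommRing R] {σ : Type*}

/-- `x_i - c` is a nonzerodivisor in a polynomial ring. -/
theorem eq_zero_of_mul_X_sub_C_eq_zero (i : σ) (c : R) (h : MvPolynomial σ R)
    (hh : h * (X i - C c) = 0) : h = 0 := by
  classical
  by_contra hne
  have hsupp : h.support.Nonempty := by
    rwa [Finset.nonempty_iff_ne_empty, Ne, MvPolynomial.support_eq_empty]
  obtain ⟨m, hm, hmax⟩ := Finset.exists_max_image h.support (fun m => m i) hsupp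
  have h1 : h * X i = C c * h := by
    rw [mul_sub, sub_eq_zero] at hh
    rw [hh, mul_comm]
  have h2 := congrArg (coeff (m + Finsupp.single i 1)) h1
  rw [coeff_mul_X, coeff_C_mul] at h2
  have h3 : coeff (m + Finsupp.single i 1) h = 0 := by
    by_contra h3
    have := hmax _ (MvPolynomial.mem_support_iff.mpr h3)
    simp at this
  rw [h3, mul_zero] at h2
  exact (MvPolynomial.mem_support_iff.mp hm) h2

theorem eq_zero_of_mul_C_mul_X_sub_C_eq_zero (i : σ) (c u : R) (hu : IsUnit u)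
    (h : MvPolynomial σ R) (hh : h * (C u * (X i - C c)) = 0) : h = 0 := by
  rw [← mul_assoc] at hh
  have h1 := eq_zero_of_mul_X_sub_C_eq_zero i c _ hh
  obtain ⟨v, rfl⟩ := hu
  have h2 : h = h * C (v : R) * C ((v⁻¹ : Rˣ) : R) := by
    rw [mul_assoc, ← C_mul, Units.mul_inv, C_1, mul_one]
  rw [h2, h1, zero_mul]

end Nzd

section Unif

/-- uniform exponent for power torsion in a finitely generated ideal. -/
theorem exists_pow_mul_eq_zero_of_forall {R : Type*} [CommRing R] [IsNoetherianRing R]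
    (K : Ideal R) (r : R) (h : ∀ y ∈ K, ∃ N : ℕ, r ^ N * y = 0) :
    ∃ N : ℕ, ∀ y ∈ K, r ^ N * y = 0 := by
  classical
  obtain ⟨S, hS⟩ : K.FG := IsNoetherian.noetherian K
  have hSK : ∀ y ∈ S, y ∈ K := fun y hy => hS ▸ Ideal.subset_span hy
  choose! Nf hNf using h
  refine ⟨S.sup Nf, fun y hy => ?_⟩
  rw [← hS] at hy
  induction hy using Submodule.span_induction with
  | mem y hy =>
    have h1 : Nf y ≤ S.sup Nf := Finset.le_sup hy
    obtain ⟨d, hd⟩ := Nat.exists_eq_add_of_le h1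
    rw [hd, pow_add, mul_comm (r ^ Nf y), mul_assoc, hNf y (hSK y hy), mul_zero]
  | zero => rw [mul_zero]
  | add x y _ _ hx hy => rw [mul_add, hx, hy, add_zero]
  | smul c x _ hx => rw [smul_eq_mul, mul_left_comm, hx, mul_zero]

end Unif

section Main

variable {A : Type u} [CommRing A] {t : ℕ} (a : Fin (t + 1) → A)

/-- `A_{a₀}` -/
abbrev Lo : Type u := Localization.Away (a 0)

/-- `α = a₀ / 1` -/
noncomputable abbrev α : Lo a := algebraMap A (Lo a) (a 0)

/-- `b_j = a_{j+1} / a₀` -/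
noncomputable def b (j : Fin t) : Lo a :=
  IsLocalization.mk' _ (a j.succ) (⟨a 0, Submonoid.mem_powers _⟩ : Submonoid.powers (a 0))

/-- `f_j = a₀ x_j - a_{j+1}` -/
noncomputable def f (j : Fin t) : MvPolynomial (Fin t) A := C (a 0) * X j - C (a j.succ)

/-- `J_s = (f_j : j < s)` -/
noncomputable def J (s : ℕ) : Ideal (MvPolynomial (Fin t) A) :=
  Ideal.span (f a '' {j | (j : ℕ) < s})

/-- the base change map `A[x] → A_{a₀}[x]` -/
noncomputable abbrev ρ : MvPolynomial (Fin t) A →+* MvPolynomial (Fin t) (Lo a) :=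
  MvPolynomial.map (algebraMap A (Lo a))

/-- partial evaluation `x_j ↦ b_j` for `j < s` -/
noncomputable def ε (s : ℕ) : MvPolynomial (Fin t) (Lo a) →ₐ[Lo a] MvPolynomial (Fin t) (Lo a) :=
  aeval (fun j => if (j : ℕ) < s then C (b a j) else X j)

theorem α_mul_b (j : Fin t) : α a * b a j = algebraMap A (Lo a) (a j.succ) := by
  rw [mul_comm]
  exact IsLocalization.mk'_spec _ _ _

theorem isUnit_α : IsUnit (α a) :=
  IsLocalization.map_units (Lo a) (⟨a 0, Submonoid.mem_powers _⟩ : Submonoid.powers (a 0))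

theorem ρ_f (j : Fin t) : ρ a (f a j) = C (α a) * (X j - C (b a j)) := by
  simp only [f, ρ, map_sub, map_mul, map_C, map_X]
  rw [mul_sub, ← C_mul, α_mul_b]

theorem ε_X_of_lt {s : ℕ} {j : Fin t} (h : (j : ℕ) < s) : ε a s (X j) = C (b a j) := by
  simp [ε, h]

theorem ε_X_of_not_lt {s : ℕ} {j : Fin t} (h : ¬ (j : ℕ) < s) : ε a s (X j) = X j := by
  simp [ε, h]

theorem ε_C (s : ℕ) (c : Lo a) : ε a s (C c) = C c := by
  simp [ε]

theorem ε_ρ_f_of_lt {s : ℕ} {j : Fin t} (h : (j : ℕ) < s) : ε a s (ρ a (f a j)) = 0 := by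
  rw [ρ_f, map_mul, map_sub, ε_X_of_lt a h, ε_C, ε_C, sub_self, mul_zero]

theorem map_J_le_ker (s : ℕ) : (J a s).map (ρ a) ≤ RingHom.ker (ε a s).toRingHom := by
  rw [Ideal.map_le_iff_le_comap, J, Ideal.span_le]
  rintro _ ⟨j, hj, rfl⟩
  exact ε_ρ_f_of_lt a hj

theorem X_sub_C_mem (s : ℕ) {j : Fin t} (h : (j : ℕ) < s) :
    (X j - C (b a j) : MvPolynomial (Fin t) (Lo a)) ∈ (J a s).map (ρ a) := by
  obtain ⟨u, hu⟩ := isUnit_α a
  have h1 : ρ a (f a j) ∈ (J a s).map (ρ a) :=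
    Ideal.mem_map_of_mem _ (Ideal.subset_span ⟨j, h, rfl⟩)
  have h2 : (X j - C (b a j) : MvPolynomial (Fin t) (Lo a)) = C (↑u⁻¹ : Lo a) * ρ a (f a j) := by
    rw [ρ_f, ← mul_assoc, ← C_mul, ← hu, Units.inv_mul, C_1, one_mul]
  rw [h2]
  exact Ideal.mul_mem_left _ _ h1

theorem sub_ε_mem (s : ℕ) (h : MvPolynomial (Fin t) (Lo a)) :
    h - ε a s h ∈ (J a s).map (ρ a) := by
  induction h using MvPolynomial.induction_on with
  | C c => rw [ε_C, sub_self]; exact Ideal.zero_mem _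
  | add p q hp hq =>
    rw [map_add, add_sub_add_comm]
    exact Ideal.add_mem _ hp hq
  | mul_X p j hp =>
    rw [map_mul]
    have h1 : p * X j - ε a s p * ε a s (X j) =
        (p - ε a s p) * X j + ε a s p * (X j - ε a s (X j)) := by ring
    rw [h1]
    refine Ideal.add_mem _ (Ideal.mul_mem_right _ _ hp) (Ideal.mul_mem_left _ _ ?_)
    by_cases hj : (j : ℕ) < s
    · rw [ε_X_of_lt a hj]
      exact X_sub_C_mem a s hj
    · rw [ε_X_of_not_lt a hj, sub_self]
      exact Ideal.zero_mem _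

theorem mem_map_J_of_ε_eq_zero (s : ℕ) (h : MvPolynomial (Fin t) (Lo a)) (hε : ε a s h = 0) :
    h ∈ (J a s).map (ρ a) := by
  have := sub_ε_mem a s h
  rwa [hε, sub_zero] at this

theorem ε_ρ_eq_C_aeval (g : MvPolynomial (Fin t) A) :
    ε a t (ρ a g) = C (aeval (b a) g) := by
  have h : ((ε a t).toRingHom.comp (ρ a)) =
      (C : Lo a →+* MvPolynomial (Fin t) (Lo a)).comp (aeval (b a) : _ →ₐ[A] Lo a).toRingHom := by
    apply MvPolynomial.ringHom_ext
    · intro c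
      simp
    · intro j
      simp [ε_X_of_lt a j.isLt]
  exact congrArg (fun φ => φ g) h

/-- elementwise: the kernel of `A[x] → A_{a₀}`, `x_j ↦ a_{j+1}/a₀` is `J_t` up to `a₀`-power
torsion. -/
theorem exists_pow_mul_mem_J_of_aeval_eq_zero (g : MvPolynomial (Fin t) A)
    (hg : aeval (b a) g = 0) : ∃ N : ℕ, C (a 0 ^ N) * g ∈ J a t := by
  apply exists_pow_mul_mem' (a 0) (Fin t)
  apply mem_map_J_of_ε_eq_zero a t
  rw [ε_ρ_eq_C_aeval, hg, C_0]

/-- elementwise: `(J_s : f_s) / J_s` is `a₀`-power torsion. -/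
theorem exists_pow_mul_mem_J_of_mul_mem (s : ℕ) (hs : s < t) (g : MvPolynomial (Fin t) A)
    (hg : g * f a ⟨s, hs⟩ ∈ J a s) : ∃ N : ℕ, C (a 0 ^ N) * g ∈ J a s := by
  apply exists_pow_mul_mem' (a 0) (Fin t)
  apply mem_map_J_of_ε_eq_zero a s
  have h1 : ρ a (g * f a ⟨s, hs⟩) ∈ RingHom.ker (ε a s).toRingHom :=
    map_J_le_ker a s (Ideal.mem_map_of_mem _ hg)
  rw [RingHom.mem_ker, map_mul, ρ_f] at h1
  have h2 : ε a s (ρ a g) * (C (α a) * (X ⟨s, hs⟩ - C (b a ⟨s, hs⟩))) = 0 := by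
    have h3 : ε a s (C (α a) * (X ⟨s, hs⟩ - C (b a ⟨s, hs⟩))) =
        C (α a) * (X ⟨s, hs⟩ - C (b a ⟨s, hs⟩)) := by
      rw [map_mul, map_sub, ε_C, ε_C, ε_X_of_not_lt a (by simp)]
    rw [← h3, ← map_mul]
    exact h1
  exact eq_zero_of_mul_C_mul_X_sub_C_eq_zero _ _ _ (isUnit_α a) _ h2

end Main

end Groth.Agent.Lib.Helper94.BlowAlg
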