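import Mathlib
import Groth.Prelude.Def_DRing2
import Groth.Agent.Lib.Helper73.TorFirstVar

/-!
# Uniform annihilation of `Tor` in the first variable (helper94)

`Kills r i X` : the scalar `r` kills `Tor_i^A(X, M)` for every `A`-module `M`.
Dévissage lemmas along short exact sequences in the first variable.
-/

set_option autoImplicit false
universe u
open CategoryTheory CategoryTheory.Limits MonoidalCategory

namespace Groth.Agent.Lib.Helper94.TorKill

open Groth.Agent.Lib.Helper73 Groth.Agent.Lib.Helper73.TorFirstVar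

variable {A : Type u} [CommRing A]

section Cat

variable {N : ModuleCat.{u} A}

lemma TLmap_smul_id (X : ModuleCat.{u} A) (r : A) :
    TLmap (r • 𝟙 X) = r • 𝟙 (TL X) := by
  ext Y : 2
  change (r • 𝟙 X) ▷ Y = r • 𝟙 (X ⊗ Y)
  rw [MonoidalLinear.smul_whiskerRight, id_whiskerRight]

lemma TLmap_zero (X Y : ModuleCat.{u} A) : TLmap (0 : X ⟶ Y) = 0 := by
  ext Z : 2
  change (0 : X ⟶ Y) ▷ Z = 0
  rw [MonoidalPreadditive.zero_whiskerRight]

lemma Tmap_eq (k : ℕ) {X Y : ModuleCat.{u} A} (f : X ⟶ Y) (N : ModuleCat.{u} A) :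
    ((Tor (ModuleCat.{u} A) k).map f).app N = Tmap k f N := rfl

/-- homology of `r • φ` (copied from helper28) -/
lemma homologyMap_smul' {ι : Type*} {c : ComplexShape ι}
    {K L : HomologicalComplex (ModuleCat.{u} A) c}
    (φ : K ⟶ L) (r : A) (i : ι) :
    HomologicalComplex.homologyMap (r • φ) i = r • HomologicalComplex.homologyMap φ i := by
  have : (HomologicalComplex.shortComplexFunctor (ModuleCat.{u} A) c i).map (r • φ) =
      r • (HomologicalComplex.shortComplexFunctor (ModuleCat.{u} A) c i).map φ := by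
    ext <;> rfl
  unfold HomologicalComplex.homologyMap
  rw [this, ShortComplex.homologyMap_smul]
  rfl

lemma Tmap_smul_id (k : ℕ) (X : ModuleCat.{u} A) (r : A) (N : ModuleCat.{u} A) :
    Tmap k (r • 𝟙 X) N = r • 𝟙 (T k X N) := by
  let P := projectiveResolution N
  have h := nat_map P (r • 𝟙 X) k
  have h1 : (NatTrans.mapHomologicalComplex (TLmap (r • 𝟙 X)) (ComplexShape.down ℕ)).app P.complex
      = r • 𝟙 _ := by
    rw [TLmap_smul_id]
    ext n : 1
    simp
    rfl
  rw [h1, homologyMap_smul', HomologicalComplex.homologyMap_id] at h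
  rw [← cancel_mono (P.isoLeftDerivedObj (TL X) k).hom, h]
  erw [Linear.comp_smul, Linear.smul_comp, Category.comp_id]
  rfl

lemma Tmap_zero (k : ℕ) (X Y : ModuleCat.{u} A) (N : ModuleCat.{u} A) :
    Tmap k (0 : X ⟶ Y) N = 0 := by
  let P := projectiveResolution N
  have h := nat_map P (0 : X ⟶ Y) k
  have h1 : (NatTrans.mapHomologicalComplex (TLmap (0 : X ⟶ Y)) (ComplexShape.down ℕ)).app P.complex
      = 0 := by
    rw [TLmap_zero]
    ext n : 1
    simp
    rfl
  rw [h1, HomologicalComplex.homologyMap_zero] at h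
  rw [← cancel_mono (P.isoLeftDerivedObj (TL Y) k).hom, h, zero_comp]
  exact comp_zero

lemma isZero_T_succ_of_flat (X : ModuleCat.{u} A) [Module.Flat A X] (N : ModuleCat.{u} A)
    (j : ℕ) : IsZero (T (j + 1) X N) := by
  let P := projectiveResolution N
  refine IsZero.of_iso ?_ (P.isoLeftDerivedObj (TL X) (j + 1))
  change IsZero ((((TL X).mapHomologicalComplex _).obj P.complex).homology (j + 1))
  rw [← HomologicalComplex.exactAt_iff_isZero_homology]
  have h := P.complex_exactAt_succ j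
  rw [HomologicalComplex.exactAt_iff] at h ⊢
  exact Module.Flat.lTensor_shortComplex_exact X _ h

/-- `r` kills `Tor_i(X, N)` for every `N`. -/
def Kills (r : A) (i : ℕ) (X : ModuleCat.{u} A) : Prop :=
  ∀ (N : ModuleCat.{u} A) (z : T i X N), r • z = 0

lemma smul_eq_Tmap (i : ℕ) (X N : ModuleCat.{u} A) (r : A) (z : T i X N) :
    r • z = (Tmap i (r • 𝟙 X) N).hom z := by
  rw [Tmap_smul_id]
  rfl

lemma Tmap_comp_apply (i : ℕ) {X Y Z : ModuleCat.{u} A} (f : X ⟶ Y) (g : Y ⟶ Z)
    (N : ModuleCat.{u} A) (z : T i X N) :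
    (Tmap i (f ≫ g) N).hom z = (Tmap i g N).hom ((Tmap i f N).hom z) := by
  have h : Tmap i (f ≫ g) N = Tmap i f N ≫ Tmap i g N := by
    change ((Tor (ModuleCat.{u} A) i).map (f ≫ g)).app N = _
    rw [Functor.map_comp, NatTrans.comp_app]
    rfl
  rw [h]
  rfl

lemma Tmap_id_apply (i : ℕ) (X N : ModuleCat.{u} A) (z : T i X N) :
    (Tmap i (𝟙 X) N).hom z = z := by
  have h : Tmap i (𝟙 X) N = 𝟙 _ := by
    change ((Tor (ModuleCat.{u} A) i).map (𝟙 X)).app N = _
    rw [CategoryTheory.Functor.map_id, NatTrans.id_app]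
    rfl
  rw [h]
  rfl

lemma kills_of_smul_id_eq_zero {r : A} {X : ModuleCat.{u} A} (h : r • 𝟙 X = 0) (i : ℕ) :
    Kills r i X := by
  intro N z
  rw [smul_eq_Tmap, h, Tmap_zero]
  rfl

lemma kills_of_flat (r : A) (X : ModuleCat.{u} A) [Module.Flat A X] (j : ℕ) :
    Kills r (j + 1) X := by
  intro N z
  have hz : IsZero (T (j + 1) X N) := isZero_T_succ_of_flat X N j
  have : Subsingleton (T (j + 1) X N) := ModuleCat.subsingleton_of_isZero hz
  exact Subsingleton.elim _ _

lemma kills_of_iso {r : A} {i : ℕ} {X Y : ModuleCat.{u} A} (e : X ≅ Y) (h : Kills r i X) :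
    Kills r i Y := by
  intro N z
  have h1 := h N ((Tmap i e.inv N).hom z)
  have h2 : (Tmap i e.hom N).hom ((Tmap i e.inv N).hom z) = z := by
    rw [← Tmap_comp_apply, e.inv_hom_id, Tmap_id_apply]
  rw [← h2, ← map_smul, h1, map_zero]

lemma kills_of_factor {r x : A} {i : ℕ} {X : ModuleCat.{u} A} (ψ : X ⟶ X)
    (hψ : x • 𝟙 X = (r • 𝟙 X) ≫ ψ) (h : Kills r i X) : Kills x i X := by
  intro N z
  rw [smul_eq_Tmap, hψ, Tmap_comp_apply, ← smul_eq_Tmap, h N z, map_zero]

/-- dévissage: `0 → X₁ → X₂ → X₃ → 0`, `p` kills `Tor_{n+1}(X₂)`, `q` kills `Tor_n(X₁)`; then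
`p * q` kills `Tor_{n+1}(X₃)`. -/
lemma kills_right {S : ShortComplex (ModuleCat.{u} A)} (hS : S.ShortExact) {p q : A} {n : ℕ}
    (h₂ : Kills p (n + 1) S.X₂) (h₁ : Kills q n S.X₁) : Kills (p * q) (n + 1) S.X₃ := by
  intro N z
  obtain ⟨-, δ, w₁, w₂, hex, -⟩ := tor_les_first hS N n
  rw [ShortComplex.moduleCat_exact_iff] at hex
  have hq : δ.hom (q • z) = 0 := (LinearMap.map_smul δ.hom q z).trans (h₁ N (δ.hom z))
  obtain ⟨y, hy⟩ := hex (q • z) hq
  have hy' : (Tmap (n + 1) S.g N).hom y = q • z := hy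
  rw [mul_smul, ← hy', ← LinearMap.map_smul, h₂ N y, map_zero]

end Cat

section Mod

variable (A) in
/-- `r` kills `Tor_i^A(X, M)` for every `A`-module `M` (module-level version). -/
def KillsM (r : A) (i : ℕ) (X : Type u) [AddCommGroup X] [Module A X] : Prop :=
  Kills r i (ModuleCat.of A X)

variable {X Y X₁ X₂ X₃ : Type u} [AddCommGroup X] [Module A X] [AddCommGroup Y] [Module A Y]
  [AddCommGroup X₁] [Module A X₁] [AddCommGroup X₂] [Module A X₂] [AddCommGroup X₃] [Module A X₃]

lemma KillsM.apply {r : A} {i : ℕ} (h : KillsM A r i X) (M : Type u) [AddCommGroup M] [Module A M]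
    (z : DRing.Tor A i X M) : r • z = 0 :=
  h (ModuleCat.of A M) z

lemma killsM_of_smul_eq_zero {r : A} (h : ∀ x : X, r • x = 0) (i : ℕ) : KillsM A r i X := by
  apply kills_of_smul_id_eq_zero
  apply ModuleCat.hom_ext
  apply LinearMap.ext
  intro x
  exact h x

lemma killsM_of_flat [Module.Flat A X] (r : A) (j : ℕ) : KillsM A r (j + 1) X :=
  kills_of_flat r (ModuleCat.of A X) j

lemma killsM_of_linearEquiv {r : A} {i : ℕ} (e : X ≃ₗ[A] Y) (h : KillsM A r i X) :
    KillsM A r i Y :=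
  kills_of_iso e.toModuleIso h

lemma killsM_of_factor {r x : A} {i : ℕ} (ψ : X →ₗ[A] X) (hψ : ∀ y : X, x • y = ψ (r • y))
    (h : KillsM A r i X) : KillsM A x i X := by
  refine kills_of_factor (ModuleCat.ofHom ψ) ?_ h
  apply ModuleCat.hom_ext
  apply LinearMap.ext
  intro y
  exact hψ y

lemma killsM_right (f : X₁ →ₗ[A] X₂) (g : X₂ →ₗ[A] X₃) (hf : Function.Injective f)
    (hg : Function.Surjective g) (hfg : Function.Exact f g) {p q : A} {n : ℕ}
    (h₂ : KillsM A p (n + 1) X₂) (h₁ : KillsM A q n X₁) : KillsM A (p * q) (n + 1) X₃ := by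
  let S : ShortComplex (ModuleCat.{u} A) :=
    ShortComplex.mk (ModuleCat.ofHom f) (ModuleCat.ofHom g)
      (by
        apply ModuleCat.hom_ext
        apply LinearMap.ext
        intro z
        exact hfg.apply_apply_eq_zero z)
  have hS : S.ShortExact := ModuleCat.shortComplex_shortExact S hfg hf hg
  exact kills_right hS h₂ h₁

/-- quotient by a submodule killed by `k` -/
lemma killsM_of_surjective (g : X →ₗ[A] Y) (hg : Function.Surjective g) {p k : A} {n : ℕ}
    (hk : ∀ x ∈ LinearMap.ker g, k • x = 0) (h : KillsM A p (n + 1) X) :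
    KillsM A (p * k) (n + 1) Y := by
  refine killsM_right (LinearMap.ker g).subtype g (Submodule.injective_subtype _) hg
    (LinearMap.exact_subtype_ker_map g) h ?_
  apply killsM_of_smul_eq_zero
  intro x
  apply Subtype.ext
  exact hk x.1 x.2

/-- one dévissage step: `Y = X / μ X` where `ker μ` is killed by `k`. -/
lemma killsM_step (μ : X →ₗ[A] X) (g : X →ₗ[A] Y) (hg : Function.Surjective g)
    (hμg : Function.Exact μ g) {p k : A} {s : ℕ}
    (hk : ∀ x ∈ LinearMap.ker μ, k • x = 0)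
    (h : ∀ i, s + 1 ≤ i → KillsM A p i X) :
    ∀ i, s + 2 ≤ i → KillsM A (p * (p * k)) i Y := by
  intro i hi
  obtain ⟨n, rfl⟩ : ∃ n, i = n + 1 + 1 := ⟨i - 2, by omega⟩
  -- `range μ` is killed in degree `n + 1` by `p * k`
  have hr : KillsM A (p * k) (n + 1) (LinearMap.range μ) :=
    killsM_of_surjective μ.rangeRestrict μ.surjective_rangeRestrict
      (by
        intro x hx
        apply hk
        rw [LinearMap.mem_ker] at hx ⊢
        have := congrArg Subtype.val hx
        simpa using this)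
      (h (n + 1) (by omega))
  refine killsM_right (LinearMap.range μ).subtype g (Submodule.injective_subtype _) hg ?_
    (h (n + 1 + 1) (by omega)) hr
  intro y
  constructor
  · intro hy
    obtain ⟨x, rfl⟩ := (hμg y).mp hy
    exact ⟨⟨μ x, x, rfl⟩, rfl⟩
  · rintro ⟨⟨_, x, rfl⟩, rfl⟩
    exact (hμg (μ x)).mpr ⟨x, rfl⟩

end Mod

end Groth.Agent.Lib.Helper94.TorKill
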