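import Mathlib
import Groth.Prelude.Def_DRing2
import Groth.Prelude.Def_BlowUp2
import Groth.Agent.Lib.Helper94.TorKill
import Groth.Agent.Lib.Helper94.BlowAlg

/-!
# `Tor_i^A(A[I/a₀], M)` is killed by a power of `I` for `i > #generators - 1` (helper94)
-/

set_option autoImplicit false
universe u
open MvPolynomial

namespace Groth.Agent.Lib.Helper94.BlowTor

open Groth.Agent.Lib.Helper94.TorKill Groth.Agent.Lib.Helper94.BlowAlg

variable {A : Type u} [CommRing A] {t : ℕ} (a : Fin (t + 1) → A)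

/-- `R_s = A[x]/J_s` -/
abbrev Rs (s : ℕ) : Type u := MvPolynomial (Fin t) A ⧸ J a s

theorem J_zero : J a 0 = (⊥ : Ideal (MvPolynomial (Fin t) A)) := by
  simp [J]

theorem J_succ (s : ℕ) (hs : s < t) :
    J a (s + 1) = J a s ⊔ Ideal.span {f a ⟨s, hs⟩} := by
  have h : {j : Fin t | (j : ℕ) < s + 1} = {j : Fin t | (j : ℕ) < s} ∪ {⟨s, hs⟩} := by
    ext j
    simp only [Set.mem_ofPred_eq, Set.mem_union, Set.mem_singleton_iff, Fin.ext_iff]
    omega
  rw [J, h, Set.image_union, Ideal.span_union, Set.image_singleton]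
  rfl

theorem J_mono {s s' : ℕ} (h : s ≤ s') : J a s ≤ J a s' := by
  apply Ideal.span_mono
  apply Set.image_mono
  intro j hj
  exact lt_of_lt_of_le hj h

theorem smul_mk (s : ℕ) (r : A) (g : MvPolynomial (Fin t) A) :
    r • (Ideal.Quotient.mk (J a s) g) = Ideal.Quotient.mk (J a s) (C r * g) := by
  rw [← smul_eq_C_mul]
  rfl

/-- base case -/
theorem killsM_Rs_zero (r : A) (i : ℕ) (hi : 1 ≤ i) : KillsM A r i (Rs a 0) := by
  obtain ⟨j, rfl⟩ : ∃ j, i = j + 1 := ⟨i - 1, by omega⟩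
  have e : (MvPolynomial (Fin t) A ⧸ J a 0) ≃ₗ[A] MvPolynomial (Fin t) A :=
    (Submodule.quotEquivOfEqBot (J a 0) (J_zero a)).restrictScalars A
  exact killsM_of_linearEquiv e.symm (killsM_of_flat r j)

variable [IsNoetherianRing A]

/-- uniform torsion exponent for `(J_s : f_s)/J_s`. -/
theorem exists_pow_kills_ker (s : ℕ) (hs : s < t) :
    ∃ k : ℕ, ∀ x ∈ LinearMap.ker (LinearMap.mulLeft A
      (Ideal.Quotient.mk (J a s) (f a ⟨s, hs⟩))), (a 0 ^ k) • x = 0 := by
  let c : Rs a s := Ideal.Quotient.mk (J a s) (f a ⟨s, hs⟩)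
  let K : Ideal (Rs a s) := LinearMap.ker (LinearMap.mulLeft (Rs a s) c)
  obtain ⟨N, hN⟩ := exists_pow_mul_eq_zero_of_forall K (Ideal.Quotient.mk (J a s) (C (a 0))) (by
    intro y hy
    obtain ⟨g, rfl⟩ := Ideal.Quotient.mk_surjective y
    have h1 : c * Ideal.Quotient.mk (J a s) g = 0 := hy
    rw [← map_mul, Ideal.Quotient.eq_zero_iff_mem, mul_comm] at h1
    obtain ⟨N, hN⟩ := exists_pow_mul_mem_J_of_mul_mem a s hs g h1
    refine ⟨N, ?_⟩
    rw [← map_pow, ← map_mul, Ideal.Quotient.eq_zero_iff_mem, ← C_pow]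
    exact hN)
  refine ⟨N, fun x hx => ?_⟩
  have hxK : x ∈ K := hx
  have := hN x hxK
  obtain ⟨g, rfl⟩ := Ideal.Quotient.mk_surjective x
  rw [smul_mk, C_pow, map_mul, map_pow]
  exact this

omit [IsNoetherianRing A] in
/-- the transition map `R_s → R_{s+1}` -/
noncomputable def trans (s : ℕ) : Rs a s →ₗ[A] Rs a (s + 1) :=
  (Ideal.Quotient.liftₐ (J a s) (Ideal.Quotient.mkₐ A (J a (s + 1))) (fun x hx => by
    rw [Ideal.Quotient.mkₐ_eq_mk, Ideal.Quotient.eq_zero_iff_mem]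
    exact J_mono a (Nat.le_succ s) hx)).toLinearMap

omit [IsNoetherianRing A] in
theorem trans_mk (s : ℕ) (g : MvPolynomial (Fin t) A) :
    trans a s (Ideal.Quotient.mk (J a s) g) = Ideal.Quotient.mk (J a (s + 1)) g := rfl

omit [IsNoetherianRing A] in
theorem trans_surjective (s : ℕ) : Function.Surjective (trans a s) := by
  intro y
  obtain ⟨g, rfl⟩ := Ideal.Quotient.mk_surjective y
  exact ⟨Ideal.Quotient.mk (J a s) g, rfl⟩

omit [IsNoetherianRing A] in
theorem exact_mulLeft_trans (s : ℕ) (hs : s < t) :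
    Function.Exact (LinearMap.mulLeft A (Ideal.Quotient.mk (J a s) (f a ⟨s, hs⟩)))
      (trans a s) := by
  intro y
  obtain ⟨g, rfl⟩ := Ideal.Quotient.mk_surjective y
  rw [trans_mk, Ideal.Quotient.eq_zero_iff_mem, J_succ a s hs, Submodule.mem_sup]
  constructor
  · rintro ⟨j, hj, q, hq, hjq⟩
    obtain ⟨q', rfl⟩ := Ideal.mem_span_singleton'.mp hq
    refine ⟨Ideal.Quotient.mk (J a s) q', ?_⟩
    rw [LinearMap.mulLeft_apply, ← map_mul, ← hjq, map_add,
      Ideal.Quotient.eq_zero_iff_mem.mpr hj, zero_add, mul_comm]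
  · rintro ⟨y', hy'⟩
    obtain ⟨q', rfl⟩ := Ideal.Quotient.mk_surjective y'
    rw [LinearMap.mulLeft_apply, ← map_mul, Ideal.Quotient.eq] at hy'
    refine ⟨g - f a ⟨s, hs⟩ * q', ?_, f a ⟨s, hs⟩ * q', ?_, by ring⟩
    · have := (J a s).neg_mem hy'
      rwa [neg_sub] at this
    · exact Ideal.mul_mem_right _ _ (Ideal.subset_span rfl)

theorem exists_killsM_Rs : ∀ (s : ℕ), s ≤ t →
    ∃ c : ℕ, ∀ i, s + 1 ≤ i → KillsM A (a 0 ^ c) i (Rs a s) := by
  intro s
  induction s with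
  | zero =>
    intro _
    exact ⟨0, fun i hi => killsM_Rs_zero a _ i hi⟩
  | succ s ih =>
    intro hs
    obtain ⟨c, hc⟩ := ih (by omega)
    obtain ⟨k, hk⟩ := exists_pow_kills_ker a s (by omega)
    refine ⟨c + (c + k), fun i hi => ?_⟩
    have := killsM_step (LinearMap.mulLeft A (Ideal.Quotient.mk (J a s) (f a ⟨s, by omega⟩)))
      (trans a s) (trans_surjective a s) (exact_mulLeft_trans a s (by omega)) hk hc i (by omega)
    rwa [← pow_add, ← pow_add] at this

section Final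

omit [IsNoetherianRing A]

/-- the affine blow-up algebra -/
noncomputable abbrev Bl : Subalgebra A (Lo a) :=
  BlowUp.affineAlgebra A (Ideal.span (Set.range a)) (a 0)

/-- `e = 1 / a₀` -/
noncomputable abbrev einv : Lo a :=
  IsLocalization.mk' _ (1 : A) (⟨a 0, Submonoid.mem_powers _⟩ : Submonoid.powers (a 0))

theorem mk'_eq_smul (x : A) :
    IsLocalization.mk' (Lo a) x (⟨a 0, Submonoid.mem_powers _⟩ : Submonoid.powers (a 0)) =
      x • einv a := by
  rw [Algebra.smul_def, IsLocalization.mk'_eq_mul_mk'_one]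

theorem b_eq (j : Fin t) : b a j = a j.succ • einv a := mk'_eq_smul a _

theorem α_mul_einv : α a * einv a = 1 := by
  rw [mul_comm]
  have := IsLocalization.mk'_spec (Lo a) (1 : A)
    (⟨a 0, Submonoid.mem_powers _⟩ : Submonoid.powers (a 0))
  rw [map_one] at this
  exact this

theorem smul_einv_mem_Bl {x : A} (hx : x ∈ Ideal.span (Set.range a)) : x • einv a ∈ Bl a := by
  apply Algebra.subset_adjoin
  exact ⟨x, hx, (mk'_eq_smul a x).symm⟩

theorem aeval_b_mem_Bl (g : MvPolynomial (Fin t) A) : aeval (b a) g ∈ Bl a := by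
  have h1 : aeval (b a) g ∈ (aeval (b a) : MvPolynomial (Fin t) A →ₐ[A] Lo a).range := ⟨g, rfl⟩
  rw [← Algebra.adjoin_range_eq_range_aeval] at h1
  refine Algebra.adjoin_le ?_ h1
  rintro _ ⟨j, rfl⟩
  rw [b_eq]
  exact smul_einv_mem_Bl a (Ideal.subset_span ⟨_, rfl⟩)

theorem Bl_le_range : Bl a ≤ (aeval (b a) : MvPolynomial (Fin t) A →ₐ[A] Lo a).range := by
  apply Algebra.adjoin_le
  rintro _ ⟨x, hx, rfl⟩
  rw [mk'_eq_smul]
  -- `x ↦ x • e` lands in the range on `I`
  induction hx using Submodule.span_induction with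
  | mem x hx =>
    obtain ⟨i, rfl⟩ := hx
    refine Fin.cases ?_ (fun j => ?_) i
    · have : a 0 • einv a = 1 := by
        rw [Algebra.smul_def]; exact α_mul_einv a
      rw [this]
      exact Subalgebra.one_mem _
    · exact ⟨X j, by
        change aeval (b a) (X j) = _
        rw [aeval_X, b_eq]⟩
  | zero => rw [zero_smul]; exact Subalgebra.zero_mem _
  | add x y _ _ hx hy => rw [add_smul]; exact Subalgebra.add_mem _ hx hy
  | smul c x _ hx =>
    rw [smul_eq_mul, mul_smul]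
    exact Subalgebra.smul_mem _ hx c

/-- `A[x] → B` -/
noncomputable def φB : MvPolynomial (Fin t) A →ₐ[A] Bl a :=
  (aeval (b a) : MvPolynomial (Fin t) A →ₐ[A] Lo a).codRestrict (Bl a) (aeval_b_mem_Bl a)

theorem φB_coe (g : MvPolynomial (Fin t) A) : ((φB a g : Bl a) : Lo a) = aeval (b a) g := rfl

theorem φB_surjective : Function.Surjective (φB a) := by
  rintro ⟨y, hy⟩
  obtain ⟨g, rfl⟩ := Bl_le_range a hy
  exact ⟨g, rfl⟩

theorem aeval_b_f (j : Fin t) : aeval (b a) (f a j) = 0 := by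
  simp only [f, map_sub, map_mul, aeval_C, aeval_X]
  rw [α_mul_b, sub_self]

theorem φB_eq_zero_of_mem (g : MvPolynomial (Fin t) A) (hg : g ∈ J a t) : φB a g = 0 := by
  have h : J a t ≤ RingHom.ker (φB a).toRingHom := by
    rw [J, Ideal.span_le]
    rintro _ ⟨j, -, rfl⟩
    apply Subtype.ext
    exact aeval_b_f a j
  exact h hg

/-- `R_t → B` -/
noncomputable def φ' : Rs a t →ₗ[A] Bl a :=
  (Ideal.Quotient.liftₐ (J a t) (φB a) (φB_eq_zero_of_mem a)).toLinearMap

theorem φ'_mk (g : MvPolynomial (Fin t) A) : φ' a (Ideal.Quotient.mk (J a t) g) = φB a g := rfl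

theorem φ'_surjective : Function.Surjective (φ' a) := by
  intro y
  obtain ⟨g, rfl⟩ := φB_surjective a y
  exact ⟨Ideal.Quotient.mk (J a t) g, rfl⟩

theorem exists_pow_kills_ker_φ' [IsNoetherianRing A] :
    ∃ k : ℕ, ∀ x ∈ LinearMap.ker (φ' a), (a 0 ^ k) • x = 0 := by
  let K : Ideal (Rs a t) :=
    RingHom.ker (Ideal.Quotient.liftₐ (J a t) (φB a) (φB_eq_zero_of_mem a)).toRingHom
  obtain ⟨N, hN⟩ := exists_pow_mul_eq_zero_of_forall K (Ideal.Quotient.mk (J a t) (C (a 0))) (by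
    intro y hy
    obtain ⟨g, rfl⟩ := Ideal.Quotient.mk_surjective y
    have h1 : φB a g = 0 := hy
    have h2 : aeval (b a) g = 0 := by rw [← φB_coe, h1]; rfl
    obtain ⟨N, hN⟩ := exists_pow_mul_mem_J_of_aeval_eq_zero a g h2
    refine ⟨N, ?_⟩
    rw [← map_pow, ← map_mul, Ideal.Quotient.eq_zero_iff_mem, ← C_pow]
    exact hN)
  refine ⟨N, fun x hx => ?_⟩
  have hxK : x ∈ K := hx
  have := hN x hxK
  obtain ⟨g, rfl⟩ := Ideal.Quotient.mk_surjective x
  rw [smul_mk, C_pow, map_mul, map_pow]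
  exact this

theorem exists_killsM_Bl [IsNoetherianRing A] :
    ∃ c : ℕ, ∀ i, t + 1 ≤ i → KillsM A (a 0 ^ c) i (Bl a) := by
  obtain ⟨c, hc⟩ := exists_killsM_Rs a t le_rfl
  obtain ⟨k, hk⟩ := exists_pow_kills_ker_φ' a
  refine ⟨c + k, fun i hi => ?_⟩
  obtain ⟨n, rfl⟩ : ∃ n, i = n + 1 := ⟨i - 1, by omega⟩
  have := killsM_of_surjective (φ' a) (φ'_surjective a) hk (hc (n + 1) hi)
  rwa [← pow_add] at this

/-- elements of `I^c` are `a₀^c` times an element of the blow-up algebra -/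
theorem exists_mem_Bl_of_mem_pow (c : ℕ) {x : A} (hx : x ∈ Ideal.span (Set.range a) ^ c) :
    ∃ β : Bl a, algebraMap A (Lo a) x = α a ^ c * (β : Lo a) := by
  induction c generalizing x with
  | zero =>
    exact ⟨⟨algebraMap A (Lo a) x, Subalgebra.algebraMap_mem _ x⟩, by rw [pow_zero, one_mul]⟩
  | succ c ih =>
    rw [pow_succ] at hx
    refine Submodule.mul_induction_on hx ?_ ?_
    · intro r hr s hs
      obtain ⟨β, hβ⟩ := ih hr
      refine ⟨β * ⟨s • einv a, smul_einv_mem_Bl a hs⟩, ?_⟩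
      have h1 : algebraMap A (Lo a) s = α a * (s • einv a) := by
        rw [Algebra.smul_def, mul_left_comm, α_mul_einv, mul_one]
      rw [map_mul, hβ, h1, pow_succ]
      push_cast
      ring
    · rintro x y ⟨β₁, h₁⟩ ⟨β₂, h₂⟩
      refine ⟨β₁ + β₂, ?_⟩
      rw [map_add, h₁, h₂]
      push_cast
      ring

theorem killsM_Bl_of_mem_pow {c : ℕ} {i : ℕ} (h : KillsM A (a 0 ^ c) i (Bl a)) {x : A}
    (hx : x ∈ Ideal.span (Set.range a) ^ c) : KillsM A x i (Bl a) := by
  obtain ⟨β, hβ⟩ := exists_mem_Bl_of_mem_pow a c hx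
  refine killsM_of_factor (LinearMap.mulLeft A β) ?_ h
  intro y
  apply Subtype.ext
  rw [LinearMap.mulLeft_apply]
  change x • (y : Lo a) = (β : Lo a) * ((a 0 ^ c) • (y : Lo a))
  rw [Algebra.smul_def, Algebra.smul_def, hβ, map_pow]
  ring

end Final

/-- **Main theorem**: `Tor_i^A(A[I/a₀], M)` is killed by `I^c` for `i ≥ t + 1`. -/
theorem main (A : Type u) [CommRing A] [IsNoetherianRing A] (t : ℕ) (a : Fin (t + 1) → A) :
    ∃ c : ℕ, ∀ (M : Type u) [AddCommGroup M] [Module A M] (i : ℕ), t + 1 ≤ i →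
      ∀ x ∈ Ideal.span (Set.range a) ^ c,
        ∀ y : DRing.Tor A i (BlowUp.affineAlgebra A (Ideal.span (Set.range a)) (a 0)) M,
          x • y = 0 := by
  obtain ⟨c, hc⟩ := exists_killsM_Bl a
  refine ⟨c, fun M _ _ i hi x hx y => ?_⟩
  exact (killsM_Bl_of_mem_pow a (hc i hi) hx).apply M y

end Groth.Agent.Lib.Helper94.BlowTor
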