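import Mathlib
import Groth.Agent.Lib.Helper94.CIAsc4
import Groth.Agent.Lib.Helper73.GorenFibreComp
import Groth.Agent.Lib.Helper82.CICompl

/-!
# Complete intersection fibres and composition with a regular map (helper94)
-/

set_option autoImplicit false
set_option maxSynthPendingDepth 3
universe u

open IsLocalRing RingTheory.Sequence TensorProduct

namespace Groth.Agent.Lib.Helper94.CIAsc5

open Groth.Agent.Lib.Helper29 Groth.Agent.Lib.Helper24 Groth.Agent.Lib.Helper73

/-- All local rings of `R` are complete intersections. -/
def LocCI (R : Type u) [CommRing R] : Prop :=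
  ∀ (p : Ideal R) [p.IsPrime], Pi1.IsCompleteIntersection (Localization.AtPrime p)

theorem LocCI.of_ringEquiv {F G : Type u} [CommRing F] [CommRing G] (e : F ≃+* G)
    (h : LocCI F) : LocCI G := by
  intro p hp
  have h1 := h (p.comap e)
  exact Groth.Agent.Lib.Helper62.CITrans.isCI_of_ringEquiv (IsLocalization.ringEquivOfRingEquiv
    (Localization.AtPrime (p.comap e)) (Localization.AtPrime p) e
    (e.map_primeCompl_comap_eq p)) h1

/-- A regular local ring is a complete intersection. -/
theorem isCI_of_isRegularLocalRing (R : Type u) [CommRing R] [IsRegularLocalRing R] :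
    Pi1.IsCompleteIntersection R := by
  have hreg := Groth.Agent.Lib.Helper82.CICompl.isRegularLocalRing_completion R
  refine ⟨AdicCompletion (maximalIdeal R) R, inferInstance, hreg, [], by simp, ?_, ⟨?_⟩⟩
  · exact IsRegular.nil _ _
  · have h0 : Ideal.span {r : AdicCompletion (maximalIdeal R) R | r ∈ ([] : List _)} = ⊥ := by
      simp
    exact (RingEquiv.quotientBot _).symm.trans (Ideal.quotEquivOfEq h0.symm)

theorem LocCI.of_isRegularRing (R : Type u) [CommRing R] [IsRegularRing R] : LocCI R := by
  intro p hp
  exact isCI_of_isRegularLocalRing _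

section AtPrime

variable {R S : Type u} [CommRing R] [CommRing S] [Algebra R S] [IsNoetherianRing R]
  [IsNoetherianRing S] [Module.Flat R S]

/-- Complete intersections along the flat local map `R_p → S_q`. -/
theorem isCI_localization_of_flat (p : Ideal R) [p.IsPrime] (q : Ideal S)
    [q.IsPrime] [q.LiesOver p]
    (hp : Pi1.IsCompleteIntersection (Localization.AtPrime p))
    [IsLocalRing (Localization.AtPrime q ⧸ p.map (algebraMap R (Localization.AtPrime q)))]
    (hF : Pi1.IsCompleteIntersection
      (Localization.AtPrime q ⧸ p.map (algebraMap R (Localization.AtPrime q)))) :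
    Pi1.IsCompleteIntersection (Localization.AtPrime q) := by
  let _ := Localization.AtPrime.algebraOfLiesOver p q
  have hNp : IsNoetherianRing (Localization.AtPrime p) :=
    IsLocalization.isNoetherianRing p.primeCompl _ inferInstance
  have hNq : IsNoetherianRing (Localization.AtPrime q) :=
    IsLocalization.isNoetherianRing q.primeCompl _ inferInstance
  have hflat : Module.Flat (Localization.AtPrime p) (Localization.AtPrime q) := inferInstance
  have hloc : IsLocalHom (algebraMap (Localization.AtPrime p) (Localization.AtPrime q)) := by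
    rw [Localization.AtPrime.IsLiesOverAlgebra.algebraMap_eq]
    exact Localization.isLocalHom_localRingHom _ _ _ _
  have hmap : (maximalIdeal (Localization.AtPrime p)).map
      (algebraMap (Localization.AtPrime p) (Localization.AtPrime q)) =
      p.map (algebraMap R (Localization.AtPrime q)) := by
    rw [← Localization.AtPrime.map_eq_maximalIdeal, Ideal.map_map,
      ← IsScalarTower.algebraMap_eq]
  refine Groth.Agent.Lib.Helper94.CIAsc4.isCI_of_flat_local (R := Localization.AtPrime p) hp ?_
  exact Groth.Agent.Lib.Helper62.CITrans.isCI_of_ringEquiv (Ideal.quotEquivOfEq hmap.symm) hF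

end AtPrime

/-- Ascent: a flat map of Noetherian rings with locally complete intersection base and fibres has
locally complete intersection total ring. -/
theorem LocCI.of_flat_of_fibers {R S : Type u} [CommRing R] [CommRing S] [Algebra R S]
    [IsNoetherianRing R] [IsNoetherianRing S] [Module.Flat R S] (hR : LocCI R)
    (hfib : ∀ (p : Ideal R) [p.IsPrime], LocCI (p.Fiber S)) :
    LocCI S := by
  intro q hq
  have hlies : q.LiesOver (q.under R) := ⟨rfl⟩
  obtain ⟨q', hq', hq'q⟩ := exists_fiber_prime (q.under R) q
  have h1 := hfib (q.under R) q'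
  let e := fiberLocalizationEquiv (q.under R) q'
  have hlocF := e.isLocalRing
  have h2 := Groth.Agent.Lib.Helper62.CITrans.isCI_of_ringEquiv e h1
  have key : ∀ (r : Ideal S) (hr : r.IsPrime) (hrq : r = q)
      (hl : IsLocalRing (Localization.AtPrime r ⧸
        (q.under R).map (algebraMap R (Localization.AtPrime r)))),
      Pi1.IsCompleteIntersection (Localization.AtPrime r ⧸
        (q.under R).map (algebraMap R (Localization.AtPrime r))) →
      Pi1.IsCompleteIntersection (Localization.AtPrime q) := by
    rintro r hr rfl hl h
    exact isCI_localization_of_flat (r.under R) r (hR _) h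
  exact key _ _ hq'q hlocF h2

/-- Complete intersection fibres are preserved by composing with a regular map. -/
theorem locCI_fiber_comp_of_isRegularHom (A B C : Type u) [CommRing A] [CommRing B]
    [CommRing C] [IsNoetherianRing B] [IsNoetherianRing C]
    [Algebra A B] [Algebra B C] [Algebra A C] [IsScalarTower A B C]
    (hAB : ∀ (q : Ideal A) [q.IsPrime], LocCI (q.Fiber B))
    (hBC : CAlg.IsRegularHom B C) (q : Ideal A) [q.IsPrime] :
    LocCI (q.Fiber C) := by
  obtain ⟨hflatBC, hfibBC⟩ := hBC
  have hNB : IsNoetherianRing (q.Fiber B) := isNoetherianRing_fiber A B q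
  have hNC : IsNoetherianRing (q.Fiber C) := isNoetherianRing_fiber A C q
  let eB : q.ResidueField ⊗[q.ResidueField] q.Fiber B ≃+* q.Fiber B :=
    (Algebra.TensorProduct.lid q.ResidueField (q.Fiber B)).toRingEquiv
  let eC : q.ResidueField ⊗[q.ResidueField] q.Fiber C ≃+* q.Fiber C :=
    (Algebra.TensorProduct.lid q.ResidueField (q.Fiber C)).toRingEquiv
  have h := geomFibre_comp (fun R _ => LocCI R)
    (fun R R' _ _ e h => LocCI.of_ringEquiv e h)
    (fun R S _ _ _ _ _ _ hR hf => LocCI.of_flat_of_fibers hR hf)
    A B C
    (fun p _ k'' _ _ hfin'' => by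
      have hreg : IsRegularRing (k'' ⊗[p.ResidueField] p.Fiber C) := (hfibBC p).2 k'' hfin''
      exact LocCI.of_isRegularRing _)
    q q.ResidueField inferInstance
    (LocCI.of_ringEquiv eB.symm (hAB q))
    (isNoetherianRing_of_ringEquiv _ eB.symm)
    (isNoetherianRing_of_ringEquiv _ eC.symm)
  exact LocCI.of_ringEquiv eC h

end Groth.Agent.Lib.Helper94.CIAsc5
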