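import Mathlib
import Groth.Agent.Lib.Helper58.PrimeAvoidCoset

/-!
# Wiebe's lemma for regular sequences in Noetherian local rings (helper94)

`wiebe`: let `R` be a Noetherian local ring, `M` a finite `R`-module, `a, b : Fin n → R` two
`M`-regular sequences in the maximal ideal with `a = c · b` (as operators on `M`). Then
`(a) M :_M det c = (b) M`, i.e. `det c • m ∈ (a) M → m ∈ (b) M`.

The proof is the elementary induction on `n` (exchange of the last generator via prime avoidance,
Cramer's rule, permutability of regular sequences).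
-/

set_option autoImplicit false
universe u v

namespace Groth.Agent.Lib.Helper94.WiebeLocal

open RingTheory.Sequence IsLocalRing Pointwise Matrix

variable {R : Type u} [CommRing R] {M : Type v} [AddCommGroup M] [Module R M]

theorem ofList_ofFn {n : ℕ} (a : Fin n → R) :
    Ideal.ofList (List.ofFn a) = Ideal.span (Set.range a) := by
  unfold Ideal.ofList
  congr 1
  ext x
  simp [List.mem_ofFn]

theorem span_range_succ {n : ℕ} (a : Fin (n + 1) → R) :
    Ideal.span (Set.range a) =
      Ideal.span (Set.range (Fin.init a)) ⊔ Ideal.span {a (Fin.last n)} := by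
  rw [← Ideal.span_union]
  congr 1
  ext x
  constructor
  · rintro ⟨i, rfl⟩
    rcases Fin.eq_castSucc_or_eq_last i with ⟨j, rfl⟩ | rfl
    · exact Or.inl ⟨j, rfl⟩
    · exact Or.inr rfl
  · rintro (⟨j, rfl⟩ | h)
    · exact ⟨Fin.castSucc j, rfl⟩
    · exact ⟨Fin.last n, h.symm⟩

/-- membership in `(I ⊔ (r)) • ⊤` -/
theorem mem_sup_span_singleton_smul_top (I : Ideal R) (r : R) (x : M) :
    x ∈ (I ⊔ Ideal.span {r}) • (⊤ : Submodule R M) ↔
      ∃ y ∈ I • (⊤ : Submodule R M), ∃ z : M, x = y + r • z := by
  rw [Submodule.sup_smul, Submodule.mem_sup]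
  constructor
  · rintro ⟨y, hy, w, hw, rfl⟩
    rw [Submodule.ideal_span_singleton_smul, Submodule.mem_smul_pointwise_iff_exists] at hw
    obtain ⟨z, -, rfl⟩ := hw
    exact ⟨y, hy, z, rfl⟩
  · rintro ⟨y, hy, z, rfl⟩
    refine ⟨y, hy, r • z, ?_, rfl⟩
    rw [Submodule.ideal_span_singleton_smul]
    exact Submodule.smul_mem_pointwise_smul z r ⊤ trivial

/-- Cramer's rule on a module. -/
theorem cramer_mem {n : ℕ} (c : Matrix (Fin n) (Fin n) R) (b : Fin n → R) (S : Submodule R M)
    (m : M) (h : ∀ i, (∑ j, c i j * b j) • m ∈ S) (k : Fin n) : (c.det * b k) • m ∈ S := by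
  have h1 : c.det * b k = ∑ i, c.adjugate k i * ∑ j, c i j * b j := by
    have h2 : (c.adjugate * c).mulVec b = (c.det • (1 : Matrix (Fin n) (Fin n) R)).mulVec b := by
      rw [Matrix.adjugate_mul]
    rw [← Matrix.mulVec_mulVec, Matrix.smul_mulVec, Matrix.one_mulVec] at h2
    have h3 := congrFun h2 k
    simp only [Matrix.mulVec, dotProduct, Pi.smul_apply, smul_eq_mul] at h3
    exact h3.symm
  rw [h1, Finset.sum_smul]
  refine Submodule.sum_mem _ (fun i _ => ?_)
  rw [mul_smul]
  exact S.smul_mem _ (h i)

/-- the modified matrix -/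
noncomputable def ctil {n : ℕ} (c : Matrix (Fin (n + 1)) (Fin (n + 1)) R) (al bl : R) :
    Matrix (Fin (n + 1)) (Fin (n + 1)) R :=
  c.updateRow (Fin.last n) (bl • c (Fin.last n) + (-al) • Pi.single (Fin.last n) 1)

theorem det_ctil {n : ℕ} (c : Matrix (Fin (n + 1)) (Fin (n + 1)) R) (al bl : R) :
    (ctil c al bl).det = bl * c.det - al * c.adjugate (Fin.last n) (Fin.last n) := by
  unfold ctil
  rw [Matrix.det_updateRow_add, Matrix.det_updateRow_smul, Matrix.det_updateRow_smul,
    Matrix.updateRow_eq_self, ← Matrix.adjugate_apply]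
  ring

theorem ctil_apply_castSucc {n : ℕ} (c : Matrix (Fin (n + 1)) (Fin (n + 1)) R) (al bl : R)
    (i : Fin n) (j : Fin (n + 1)) : ctil c al bl (Fin.castSucc i) j = c (Fin.castSucc i) j := by
  unfold ctil
  rw [Matrix.updateRow_ne]
  exact (Fin.castSucc_lt_last i).ne

theorem ctil_apply_last {n : ℕ} (c : Matrix (Fin (n + 1)) (Fin (n + 1)) R) (al bl : R)
    (j : Fin (n + 1)) : ctil c al bl (Fin.last n) j =
      bl * c (Fin.last n) j - al * (Pi.single (Fin.last n) 1 : Fin (n + 1) → R) j := by
  unfold ctil
  rw [Matrix.updateRow_self]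
  simp only [Pi.add_apply, Pi.smul_apply, smul_eq_mul]
  ring

/-- The algebraic core of the induction step. -/
theorem step_core {n : ℕ} (a b : Fin (n + 1) → R) (c : Matrix (Fin (n + 1)) (Fin (n + 1)) R)
    (hc : ∀ i (m : M), a i • m = (∑ j, c i j * b j) • m)
    (hal : ∀ x : M, a (Fin.last n) • x ∈ Ideal.span (Set.range (Fin.init a)) • (⊤ : Submodule R M) →
      x ∈ Ideal.span (Set.range (Fin.init a)) • (⊤ : Submodule R M))
    (H2 : ∀ m : M, c.adjugate (Fin.last n) (Fin.last n) • m ∈
        (Ideal.span (Set.range (Fin.init a)) ⊔ Ideal.span {b (Fin.last n)}) • (⊤ : Submodule R M) →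
      m ∈ Ideal.span (Set.range b) • (⊤ : Submodule R M))
    (m : M) (hm : c.det • m ∈ Ideal.span (Set.range a) • (⊤ : Submodule R M)) :
    m ∈ Ideal.span (Set.range b) • (⊤ : Submodule R M) := by
  set al := a (Fin.last n) with hal_def
  set bl := b (Fin.last n) with hbl_def
  set Sa : Submodule R M := Ideal.span (Set.range (Fin.init a)) • (⊤ : Submodule R M) with hSa
  set Δ' := c.adjugate (Fin.last n) (Fin.last n) with hΔ'
  -- a' i • m ∈ Sa
  have haS : ∀ (i : Fin n) (x : M), a (Fin.castSucc i) • x ∈ Sa := by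
    intro i x
    exact Submodule.smul_mem_smul (Ideal.subset_span ⟨i, rfl⟩) trivial
  -- H4
  have H4 : ∀ x : M, (ctil c al bl).det • x ∈ Sa := by
    intro x
    have hk : ∀ k, ((ctil c al bl).det * b k) • x ∈ Sa := by
      apply cramer_mem
      intro i
      rcases Fin.eq_castSucc_or_eq_last i with ⟨i', rfl⟩ | rfl
      · simp_rw [ctil_apply_castSucc]
        rw [← hc]
        exact haS i' x
      · simp_rw [ctil_apply_last]
        have e1 : (∑ j, (bl * c (Fin.last n) j -
            al * (Pi.single (Fin.last n) 1 : Fin (n + 1) → R) j) * b j) =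
            bl * (∑ j, c (Fin.last n) j * b j) - al * bl := by
          simp_rw [sub_mul, Finset.sum_sub_distrib, mul_assoc, ← Finset.mul_sum]
          congr 1
          rw [Finset.sum_eq_single (Fin.last n)]
          · rw [Pi.single_eq_same, one_mul]
          · intro j _ hj
            rw [Pi.single_eq_of_ne hj, zero_mul]
          · intro h
            exact absurd (Finset.mem_univ _) h
        rw [e1, sub_smul, mul_smul, ← hc, mul_smul, smul_comm bl al x, sub_self]
        exact Sa.zero_mem
    apply hal
    have e2 : al • (ctil c al bl).det • x =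
        ∑ k, c (Fin.last n) k • (((ctil c al bl).det * b k) • x) := by
      rw [smul_comm, hc, Finset.sum_smul, Finset.smul_sum]
      refine Finset.sum_congr rfl (fun k _ => ?_)
      rw [← mul_smul, ← mul_smul]
      congr 1
      ring
    rw [e2]
    exact Submodule.sum_mem _ (fun k _ => Sa.smul_mem _ (hk k))
  -- H3
  have H3 : ∀ x : M, (al * Δ') • x ∈ (Ideal.span (Set.range (Fin.init a)) ⊔
      Ideal.span {al * bl}) • (⊤ : Submodule R M) →
      x ∈ Ideal.span (Set.range b) • (⊤ : Submodule R M) := by
    intro x hx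
    rw [mem_sup_span_singleton_smul_top] at hx
    obtain ⟨α, hα, z, hz⟩ := hx
    apply H2
    rw [mem_sup_span_singleton_smul_top]
    refine ⟨Δ' • x - bl • z, ?_, z, by abel⟩
    apply hal
    have : al • (Δ' • x - bl • z) = α := by
      rw [smul_sub, ← mul_smul, hz, ← mul_smul]
      abel
    rw [this]
    exact hα
  -- conclusion
  rw [span_range_succ, mem_sup_span_singleton_smul_top] at hm
  obtain ⟨α, hα, z, hz⟩ := hm
  apply H3
  rw [mem_sup_span_singleton_smul_top]
  refine ⟨bl • α - (ctil c al bl).det • m, Sa.sub_mem (Sa.smul_mem _ hα) (H4 m), z, ?_⟩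
  rw [det_ctil, sub_smul, mul_smul bl, hz, smul_add, ← mul_smul, ← hal_def, ← hΔ',
    mul_comm bl al]
  abel

/-- Coset prime avoidance (Davis). -/
theorem exists_add_notMem (K : Ideal R) (x : R) (s : Set (Ideal R)) (hfin : s.Finite)
    (hs : ∀ p ∈ s, p.IsPrime ∧ ¬ (K ⊔ Ideal.span {x} ≤ p)) :
    ∃ κ ∈ K, ∀ p ∈ s, x + κ ∉ p := by
  classical
  obtain ⟨κ, hκ, h⟩ := Groth.Agent.Lib.Helper58.PrimeAvoidCoset.exists_add_notMem_of_finite K
    {p ∈ s | ¬ K ≤ p} (hfin.subset (fun p hp => hp.1)) (fun p hp => ⟨(hs p hp.1).1, hp.2⟩) x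
  refine ⟨κ, hκ, fun p hp => ?_⟩
  by_cases hK : K ≤ p
  · intro hmem
    apply (hs p hp).2
    rw [sup_le_iff, Ideal.span_singleton_le_iff_mem]
    refine ⟨hK, ?_⟩
    have : x = (x + κ) - κ := by ring
    rw [this]
    exact p.sub_mem hmem (hK hκ)
  · exact h p ⟨hp, hK⟩

/-- A coset of `K` contains a regular element if `K + (x)` does. -/
theorem exists_regular_coset [IsNoetherianRing R] (N : Type v) [AddCommGroup N] [Module R N]
    [Module.Finite R N] (K : Ideal R) (x e : R) (he : e ∈ K ⊔ Ideal.span {x})
    (hreg : IsSMulRegular N e) : ∃ κ ∈ K, IsSMulRegular N (x + κ) := by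
  have hfin : (associatedPrimes R N).Finite := associatedPrimes.finite R N
  have hU := biUnion_associatedPrimes_eq_compl_regular R N
  have hnot : ∀ r : R, (∀ p ∈ associatedPrimes R N, r ∉ p) → IsSMulRegular N r := by
    intro r hr
    by_contra hcon
    have : r ∈ ({ r : R | IsSMulRegular N r }ᶜ : Set R) := hcon
    rw [← hU] at this
    simp only [Set.mem_iUnion] at this
    obtain ⟨p, hp, hrp⟩ := this
    exact hr p hp hrp
  have hmem : ∀ p ∈ associatedPrimes R N, e ∉ p := by
    intro p hp hep
    have : e ∈ ⋃ p ∈ associatedPrimes R N, (p : Set R) := by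
      simp only [Set.mem_iUnion]
      exact ⟨p, hp, hep⟩
    rw [hU] at this
    exact this hreg
  obtain ⟨κ, hκ, h⟩ := exists_add_notMem K x (associatedPrimes R N) hfin (fun p hp =>
    ⟨hp.isPrime, fun hle => hmem p hp (hle he)⟩)
  exact ⟨κ, hκ, hnot _ h⟩

omit [AddCommGroup M] [Module R M] in
/-- Change of the last generator by a combination of the previous ones. -/
theorem exists_matrix_update {n : ℕ} (b : Fin (n + 1) → R) (r : Fin n → R)
    (c : Matrix (Fin (n + 1)) (Fin (n + 1)) R) :
    ∃ c' : Matrix (Fin (n + 1)) (Fin (n + 1)) R, c'.det = c.det ∧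
      ∀ i, ∑ k, c' i k * (Function.update b (Fin.last n)
        (b (Fin.last n) + ∑ j, r j * b (Fin.castSucc j))) k = ∑ j, c i j * b j := by
  classical
  set κ := ∑ j, r j * b (Fin.castSucc j) with hκ
  set b' := Function.update b (Fin.last n) (b (Fin.last n) + κ) with hb'
  let rt : Fin (n + 1) → R := Fin.snoc r 0
  let u : Fin (n + 1) → R := Pi.single (Fin.last n) 1
  let V : Matrix (Fin (n + 1)) (Fin (n + 1)) R :=
    1 + replicateCol Unit u * replicateRow Unit (-rt)
  have hV : V.det = 1 := by
    rw [det_one_add_replicateCol_mul_replicateRow]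
    have : (-rt) ⬝ᵥ u = 0 := by
      rw [dotProduct]
      apply Finset.sum_eq_zero
      intro x _
      rcases Fin.eq_castSucc_or_eq_last x with ⟨x', rfl⟩ | rfl
      · have : u (Fin.castSucc x') = 0 := Pi.single_eq_of_ne (Fin.castSucc_lt_last x').ne _
        rw [this, mul_zero]
      · simp [rt]
    rw [this, add_zero]
  have hsum : ∑ j, rt j * b' j = κ := by
    rw [Fin.sum_univ_castSucc]
    simp only [rt, Fin.snoc_castSucc, Fin.snoc_last, zero_mul, add_zero]
    refine Finset.sum_congr rfl (fun j _ => ?_)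
    rw [hb', Function.update_of_ne (Fin.castSucc_lt_last j).ne]
  have hVij : ∀ i j, V i j = (1 : Matrix (Fin (n + 1)) (Fin (n + 1)) R) i j + u i * (-rt) j := by
    intro i j
    simp [V, Matrix.add_apply, Matrix.mul_apply]
  have hVb : V.mulVec b' = b := by
    funext i
    have e1 : V.mulVec b' i = b' i + u i * ∑ j, (-rt) j * b' j := by
      rw [Matrix.mulVec, dotProduct]
      simp_rw [hVij, add_mul, Finset.sum_add_distrib]
      congr 1
      · simp [Matrix.one_apply]
      · rw [Finset.mul_sum]
        refine Finset.sum_congr rfl (fun j _ => ?_)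
        ring
    rw [e1]
    have e2 : ∑ j, (-rt) j * b' j = -κ := by
      rw [← hsum, ← Finset.sum_neg_distrib]
      refine Finset.sum_congr rfl (fun j _ => ?_)
      simp
    rw [e2]
    rcases Fin.eq_castSucc_or_eq_last i with ⟨i', rfl⟩ | rfl
    · have : u (Fin.castSucc i') = 0 := Pi.single_eq_of_ne (Fin.castSucc_lt_last i').ne _
      rw [this, zero_mul, add_zero, hb', Function.update_of_ne (Fin.castSucc_lt_last i').ne]
    · have : u (Fin.last n) = 1 := Pi.single_eq_same _ _
      rw [this, one_mul, hb', Function.update_self]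
      ring
  refine ⟨c * V, by rw [det_mul, hV, mul_one], fun i => ?_⟩
  have h1 : (c * V).mulVec b' = c.mulVec b := by
    rw [← Matrix.mulVec_mulVec, hVb]
  have h2 := congrFun h1 i
  simpa only [Matrix.mulVec, dotProduct] using h2

/-- membership in `J • ⊤` of a quotient -/
theorem mkQ_mem_smul_top_iff (J : Ideal R) (N' : Submodule R M) (x : M) :
    N'.mkQ x ∈ J • (⊤ : Submodule R (M ⧸ N')) ↔ x ∈ J • (⊤ : Submodule R M) ⊔ N' := by
  have h1 : J • (⊤ : Submodule R (M ⧸ N')) = (J • (⊤ : Submodule R M)).map N'.mkQ := by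
    rw [Submodule.map_smul'', Submodule.map_top, Submodule.range_mkQ]
  rw [h1, ← Submodule.mem_comap, Submodule.comap_map_mkQ, sup_comm]

/-- regularity on a quotient is insensitive to adding an element of the ideal -/
theorem isSMulRegular_quot_add (J : Ideal R) (x κ : R) (hκ : κ ∈ J)
    (h : IsSMulRegular (M ⧸ J • (⊤ : Submodule R M)) x) :
    IsSMulRegular (M ⧸ J • (⊤ : Submodule R M)) (x + κ) := by
  rw [isSMulRegular_quotient_iff_mem_of_smul_mem] at h ⊢
  intro y hy
  apply h
  have : x • y = (x + κ) • y - κ • y := by rw [add_smul]; abel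
  rw [this]
  exact Submodule.sub_mem _ hy (Submodule.smul_mem_smul hκ trivial)

theorem wiebe [IsLocalRing R] [IsNoetherianRing R] (n : ℕ) :
    ∀ (M : Type v) [AddCommGroup M] [Module R M] [Module.Finite R M]
      (a b : Fin n → R) (c : Matrix (Fin n) (Fin n) R),
      (∀ i (m : M), a i • m = (∑ j, c i j * b j) • m) →
      (∀ i, a i ∈ maximalIdeal R) → (∀ j, b j ∈ maximalIdeal R) →
      IsWeaklyRegular M (List.ofFn a) → IsWeaklyRegular M (List.ofFn b) →
      ∀ m : M, c.det • m ∈ Ideal.span (Set.range a) • (⊤ : Submodule R M) →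
        m ∈ Ideal.span (Set.range b) • (⊤ : Submodule R M) := by
  induction n with
  | zero =>
    intro M _ _ _ a b c _ _ _ _ _ m hm
    have h0 : Ideal.span (Set.range a) = ⊥ := by
      rw [Ideal.span_eq_bot]
      rintro x ⟨i, -⟩
      exact i.elim0
    rw [h0, Submodule.bot_smul, Matrix.det_isEmpty, one_smul, Submodule.mem_bot] at hm
    rw [hm]
    exact Submodule.zero_mem _
  | succ n ih =>
    intro M _ _ _ a b c hc ha hb hra hrb m hm
    classical
    -- unpack regularity
    have hra' : IsWeaklyRegular M (List.ofFn (Fin.init a)) ∧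
        IsSMulRegular (M ⧸ Ideal.span (Set.range (Fin.init a)) • (⊤ : Submodule R M))
          (a (Fin.last n)) := by
      rw [List.ofFn_succ', List.concat_eq_append, isWeaklyRegular_append_iff,
        isWeaklyRegular_singleton_iff] at hra
      have h2 := hra.2
      rw [show (fun i => a (Fin.castSucc i)) = Fin.init a from rfl, ofList_ofFn] at h2
      exact ⟨hra.1, h2⟩
    have hrb' : IsWeaklyRegular M (List.ofFn (Fin.init b)) ∧
        IsSMulRegular (M ⧸ Ideal.span (Set.range (Fin.init b)) • (⊤ : Submodule R M))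
          (b (Fin.last n)) := by
      rw [List.ofFn_succ', List.concat_eq_append, isWeaklyRegular_append_iff,
        isWeaklyRegular_singleton_iff] at hrb
      have h2 := hrb.2
      rw [show (fun i => b (Fin.castSucc i)) = Fin.init b from rfl, ofList_ofFn] at h2
      exact ⟨hrb.1, h2⟩
    have hal := (isSMulRegular_quotient_iff_mem_of_smul_mem _ _).mp hra'.2
    -- prime avoidance
    set e := ∑ j, c (Fin.last n) j * b j with he
    have hereg : IsSMulRegular (M ⧸ Ideal.span (Set.range (Fin.init a)) • (⊤ : Submodule R M)) e := by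
      rw [isSMulRegular_quotient_iff_mem_of_smul_mem]
      intro x hx
      rw [← hc] at hx
      exact hal x hx
    have hemem : e ∈ Ideal.span (Set.range (Fin.init b)) ⊔ Ideal.span {b (Fin.last n)} := by
      rw [← span_range_succ]
      exact Ideal.sum_mem _ (fun j _ => Ideal.mul_mem_left _ _ (Ideal.subset_span ⟨j, rfl⟩))
    obtain ⟨κ, hκ, hκreg⟩ := exists_regular_coset
      (M ⧸ Ideal.span (Set.range (Fin.init a)) • (⊤ : Submodule R M))
      (Ideal.span (Set.range (Fin.init b))) (b (Fin.last n)) e hemem hereg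
    obtain ⟨r, hr⟩ := (Ideal.mem_span_range_iff_exists_fun).mp hκ
    have hr' : ∑ j, r j * b (Fin.castSucc j) = κ := hr
    obtain ⟨c', hdet, hc'⟩ := exists_matrix_update b r c
    rw [hr'] at hc'
    set b' := Function.update b (Fin.last n) (b (Fin.last n) + κ) with hb'def
    have hinit : Fin.init b' = Fin.init b := Fin.init_update_last _ _
    have hlast : b' (Fin.last n) = b (Fin.last n) + κ := Function.update_self _ _ _
    have hspan : Ideal.span (Set.range b') = Ideal.span (Set.range b) := by
      rw [span_range_succ, span_range_succ b, hinit, hlast]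
      apply le_antisymm
      · rw [sup_le_iff]
        refine ⟨le_sup_left, ?_⟩
        rw [Ideal.span_singleton_le_iff_mem]
        exact Ideal.add_mem _ (Ideal.mem_sup_right (Ideal.mem_span_singleton_self _))
          (Ideal.mem_sup_left hκ)
      · rw [sup_le_iff]
        refine ⟨le_sup_left, ?_⟩
        rw [Ideal.span_singleton_le_iff_mem]
        have h3 : b (Fin.last n) + κ ∈ Ideal.span (Set.range (Fin.init b)) ⊔
            Ideal.span {b (Fin.last n) + κ} :=
          Ideal.mem_sup_right (Ideal.mem_span_singleton_self _)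
        have h4 := Ideal.sub_mem _ h3 (Ideal.mem_sup_left hκ)
        rwa [add_sub_cancel_right] at h4
    have hκmax : κ ∈ maximalIdeal R := by
      have : Ideal.span (Set.range (Fin.init b)) ≤ maximalIdeal R := by
        rw [Ideal.span_le]
        rintro _ ⟨j, rfl⟩
        exact hb _
      exact this hκ
    have hb'max : ∀ j, b' j ∈ maximalIdeal R := by
      intro j
      rcases Fin.eq_castSucc_or_eq_last j with ⟨j', rfl⟩ | rfl
      · rw [hb'def, Function.update_of_ne (Fin.castSucc_lt_last j').ne]
        exact hb _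
      · rw [hlast]
        exact Ideal.add_mem _ (hb _) hκmax
    rw [← hspan]
    have hc'' : ∀ i (m : M), a i • m = (∑ k, c' i k * b' k) • m := by
      intro i m
      rw [hc' i]
      exact hc i m
    rw [← hdet] at hm
    -- regularity of b' last
    have hbl'reg : IsSMulRegular (M ⧸ Ideal.span (Set.range (Fin.init b)) • (⊤ : Submodule R M))
        (b' (Fin.last n)) := by
      rw [hlast]
      exact isSMulRegular_quot_add _ _ _ hκ hrb'.2
    have hbl'rega : IsSMulRegular (M ⧸ Ideal.span (Set.range (Fin.init a)) • (⊤ : Submodule R M))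
        (b' (Fin.last n)) := by
      rw [hlast]
      exact hκreg
    refine step_core a b' c' hc'' hal ?_ m hm
    -- H2 via the induction hypothesis
    intro x hx
    set bl := b' (Fin.last n) with hbl
    have hblmax : bl ∈ maximalIdeal R := hb'max _
    -- regular sequences on the quotient
    have hperm : ∀ l : List R, (l ++ [bl]).Perm (bl :: l) := fun l => List.perm_append_singleton bl l
    have hrega : IsWeaklyRegular (QuotSMulTop bl M) (List.ofFn (Fin.init a)) := by
      have h1 : IsWeaklyRegular M (List.ofFn (Fin.init a) ++ [bl]) := by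
        rw [isWeaklyRegular_append_iff, isWeaklyRegular_singleton_iff, ofList_ofFn]
        exact ⟨hra'.1, hbl'rega⟩
      have h2 := IsLocalRing.isWeaklyRegular_of_perm_of_subset_maximalIdeal h1 (hperm _) (by
        intro y hy
        rw [List.mem_append, List.mem_ofFn, List.mem_singleton] at hy
        rcases hy with ⟨i, rfl⟩ | rfl
        · exact ha _
        · exact hblmax)
      exact ((isWeaklyRegular_cons_iff M bl _).mp h2).2
    have hregb : IsWeaklyRegular (QuotSMulTop bl M) (List.ofFn (Fin.init b')) := by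
      rw [hinit]
      have h1 : IsWeaklyRegular M (List.ofFn (Fin.init b) ++ [bl]) := by
        rw [isWeaklyRegular_append_iff, isWeaklyRegular_singleton_iff, ofList_ofFn]
        exact ⟨hrb'.1, hbl'reg⟩
      have h2 := IsLocalRing.isWeaklyRegular_of_perm_of_subset_maximalIdeal h1 (hperm _) (by
        intro y hy
        rw [List.mem_append, List.mem_ofFn, List.mem_singleton] at hy
        rcases hy with ⟨i, rfl⟩ | rfl
        · exact hb _
        · exact hblmax)
      exact ((isWeaklyRegular_cons_iff M bl _).mp h2).2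
    -- the relation on the quotient
    have hcq : ∀ (i : Fin n) (y : QuotSMulTop bl M), (Fin.init a) i • y =
        (∑ j, (c'.submatrix Fin.castSucc Fin.castSucc) i j * (Fin.init b') j) • y := by
      intro i y
      obtain ⟨y, rfl⟩ := Submodule.mkQ_surjective _ y
      rw [← map_smul, ← map_smul]
      have h1 := hc'' (Fin.castSucc i) y
      rw [Fin.sum_univ_castSucc, add_smul] at h1
      change (bl • (⊤ : Submodule R M)).mkQ (a (Fin.castSucc i) • y) = _
      rw [h1, map_add]
      have h2 : (bl • (⊤ : Submodule R M)).mkQ ((c' (Fin.castSucc i) (Fin.last n) * bl) • y) = 0 := by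
        rw [Submodule.mkQ_apply, Submodule.Quotient.mk_eq_zero, mul_comm, mul_smul]
        exact Submodule.smul_mem_pointwise_smul _ bl ⊤ trivial
      rw [h2, add_zero]
      rfl
    have hadj : c'.adjugate (Fin.last n) (Fin.last n) =
        (c'.submatrix Fin.castSucc Fin.castSucc).det := by
      rw [Matrix.adjugate_fin_succ_eq_det_submatrix, Fin.succAbove_last]
      have : Even ((Fin.last n : ℕ) + (Fin.last n : ℕ)) := ⟨_, rfl⟩
      rw [this.neg_one_pow, one_mul]
    have hIH := ih (QuotSMulTop bl M) (Fin.init a) (Fin.init b')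
      (c'.submatrix Fin.castSucc Fin.castSucc) hcq (fun i => ha _) (fun j => hb'max _) hrega hregb
      ((bl • (⊤ : Submodule R M)).mkQ x)
    rw [← map_smul, mkQ_mem_smul_top_iff, mkQ_mem_smul_top_iff, ← hadj] at hIH
    rw [span_range_succ, Submodule.sup_smul, Submodule.ideal_span_singleton_smul]
    apply hIH
    rw [Submodule.sup_smul, Submodule.ideal_span_singleton_smul] at hx
    exact hx

end Groth.Agent.Lib.Helper94.WiebeLocal
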