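import Mathlib
import Groth.Agent.Lib.Helper94.WiebeLocal
import Groth.Agent.Lib.Helper94.Bezout
import Groth.Agent.Lib.Helper82.RelGCIReg

set_option autoImplicit false
universe u

namespace Groth.Agent.Lib.Helper94.WiebePoly

open RingTheory.Sequence IsLocalRing Pointwise Matrix MvPolynomial TensorProduct
open Groth.Agent.Lib.Helper94.WiebeLocal Groth.Agent.Lib.Helper94.Bezout

/-- ideal form of `wiebe`, with a common initial regular sequence `u` -/
theorem wiebe_ideal {R : Type u} [CommRing R] [IsLocalRing R] [IsNoetherianRing R] (n : ℕ)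
    (u a b : Fin n → R) (c : Matrix (Fin n) (Fin n) R)
    (hrel : ∀ i, a i - ∑ j, c i j * b j ∈ Ideal.span (Set.range u))
    (ha : ∀ i, a i ∈ maximalIdeal R) (hb : ∀ j, b j ∈ maximalIdeal R)
    (hua : IsWeaklyRegular R (List.ofFn u ++ List.ofFn a))
    (hub : IsWeaklyRegular R (List.ofFn u ++ List.ofFn b))
    (r : R) (hr : r * c.det ∈ Ideal.span (Set.range u) ⊔ Ideal.span (Set.range a)) :
    r ∈ Ideal.span (Set.range u) ⊔ Ideal.span (Set.range b) := by
  have hua' := ((isWeaklyRegular_append_iff R _ _).mp hua).2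
  have hub' := ((isWeaklyRegular_append_iff R _ _).mp hub).2
  set N' : Submodule R R := Ideal.ofList (List.ofFn u) • (⊤ : Submodule R R) with hN'
  have hN'eq : N' = Ideal.span (Set.range u) := by
    rw [hN', ofList_ofFn, smul_eq_mul, Ideal.mul_top]
  have hkey := wiebe (R := R) n (R ⧸ N') a b c (by
      intro i m
      obtain ⟨x, rfl⟩ := N'.mkQ_surjective m
      rw [← sub_eq_zero, ← sub_smul, ← map_smul, Submodule.mkQ_apply,
        Submodule.Quotient.mk_eq_zero, hN'eq, smul_eq_mul]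
      exact Ideal.mul_mem_right _ _ (hrel i)) ha hb hua' hub' (N'.mkQ r) (by
      rw [← map_smul, mkQ_mem_smul_top_iff, hN'eq, smul_eq_mul, smul_eq_mul, Ideal.mul_top,
        sup_comm, mul_comm]
      exact hr)
  rw [mkQ_mem_smul_top_iff, hN'eq, smul_eq_mul, Ideal.mul_top, sup_comm] at hkey
  exact hkey

/-- finite quotient of `k[x_1..x_m]` by `m` equations is a relative global complete intersection -/
theorem relGCI_of_finite (k : Type u) [Field k] (m : ℕ) (H : Fin m → MvPolynomial (Fin m) k)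
    [Module.Finite k (MvPolynomial (Fin m) k ⧸ Ideal.span (Set.range H))] :
    Synt.IsRelGCI k m m H := by
  intro p hp
  refine ⟨le_refl m, ?_⟩
  haveI : Ring.KrullDimLE 0 (p.asIdeal.Fiber (Synt.RelGCIRing k m m H)) :=
    (Module.finite_iff_krullDimLE_zero p.asIdeal.ResidueField
      (p.asIdeal.Fiber (Synt.RelGCIRing k m m H))).mp inferInstance
  rw [Nat.sub_self]
  exact ringKrullDimZero_iff_ringKrullDim_eq_zero.mp inferInstance

/-- Wiebe over a field for the Bezout matrix: `((F) : det c) ⊆ (G)` -/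
theorem app1 (k : Type u) [Field k] (n : ℕ) (f : Fin n → MvPolynomial (Fin n) k)
    [Module.Finite k (MvPolynomial (Fin n) k ⧸ Ideal.span (Set.range f))]
    (c : Matrix (Fin n) (Fin n) (MvPolynomial (Fin (n + n)) k))
    (hc : ∀ i, ιx k n (f i) - ιy k n (f i) = ∑ j, c i j * D k n j)
    (r : MvPolynomial (Fin (n + n)) k)
    (hr : r * c.det ∈ Ideal.span (Set.range (F k n f))) :
    r ∈ Ideal.span (Set.range (G k n f)) := by
  haveI hfinF : Module.Finite k
      (MvPolynomial (Fin (n + n)) k ⧸ Ideal.span (Set.range (F k n f))) :=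
    Module.Finite.of_surjective (Ψ k n f).toLinearMap (Ψ_surjective k n f)
  haveI hfinG : Module.Finite k
      (MvPolynomial (Fin (n + n)) k ⧸ Ideal.span (Set.range (G k n f))) := by
    obtain ⟨φ, hφ⟩ := exists_surjective_G k n f
    exact Module.Finite.of_surjective φ.toLinearMap hφ
  have hF := relGCI_of_finite k (n + n) (F k n f)
  have hG := relGCI_of_finite k (n + n) (G k n f)
  have hFG : Ideal.span (Set.range (F k n f)) ≤ Ideal.span (Set.range (G k n f)) := by
    rw [Ideal.span_le]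
    rintro _ ⟨i, rfl⟩
    induction i using Fin.addCases with
    | left i =>
      rw [F, Fin.append_left]
      exact ιy_mem_G k n f i
    | right i =>
      rw [F, Fin.append_right]
      have : ιx k n (f i) = ιy k n (f i) + ∑ j, c i j * D k n j := by rw [← hc]; ring
      rw [this]
      exact Ideal.add_mem _ (ιy_mem_G k n f i)
        (Ideal.sum_mem _ fun j _ => Ideal.mul_mem_left _ _ (D_mem_G k n f j))
  apply Ideal.mem_of_localization_maximal
  intro 𝔑 h𝔑
  by_cases hle : Ideal.span (Set.range (G k n f)) ≤ 𝔑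
  · haveI : IsNoetherianRing (Localization.AtPrime 𝔑) :=
      IsLocalization.isNoetherianRing 𝔑.primeCompl (Localization.AtPrime 𝔑) inferInstance
    have h1 := (Groth.Agent.Lib.Helper82.RelGCIReg.isWeaklyRegular_and_flat_localized
      k (n + n) (n + n) (F k n f) hF 𝔑 (hFG.trans hle)).1
    have h2 := (Groth.Agent.Lib.Helper82.RelGCIReg.isWeaklyRegular_and_flat_localized
      k (n + n) (n + n) (G k n f) hG 𝔑 hle).1
    rw [F, List.ofFn_fin_append, List.map_append, List.map_ofFn, List.map_ofFn] at h1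
    rw [G, List.ofFn_fin_append, List.map_append, List.map_ofFn, List.map_ofFn] at h2
    set loc := algebraMap (MvPolynomial (Fin (n + n)) k) (Localization.AtPrime 𝔑) with hloc
    have hmem : ∀ x ∈ Ideal.span (Set.range (G k n f)), loc x ∈ maximalIdeal _ := fun x hx =>
      (IsLocalization.AtPrime.to_map_mem_maximal_iff (Localization.AtPrime 𝔑) 𝔑 x).mpr (hle hx)
    have hmap : ∀ (m : ℕ) (v : Fin m → MvPolynomial (Fin (n + n)) k),
        Ideal.map loc (Ideal.span (Set.range v)) = Ideal.span (Set.range (loc ∘ v)) := by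
      intro m v
      rw [Ideal.map_span, Set.range_comp]
    have hres := wiebe_ideal n (loc ∘ fun i => ιy k n (f i)) (loc ∘ fun i => ιx k n (f i))
      (loc ∘ D k n) (c.map loc) (by
        intro i
        have h3 : (loc ∘ fun i => ιx k n (f i)) i - ∑ j, (c.map loc) i j * (loc ∘ D k n) j =
            loc (ιy k n (f i)) := by
          have : ιy k n (f i) = ιx k n (f i) - ∑ j, c i j * D k n j := by rw [← hc]; ring
          rw [this, map_sub, map_sum]
          simp only [Function.comp_apply, Matrix.map_apply, map_mul]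
        rw [h3]
        exact Ideal.subset_span ⟨i, rfl⟩)
      (fun i => hmem _ (hFG (ιx_mem_F k n f i))) (fun j => hmem _ (D_mem_G k n f j)) h1 h2
      (loc r) (by
        have h5 : (c.map loc).det = loc c.det := by
          rw [RingHom.map_det]; rfl
        rw [h5, ← map_mul, ← hmap, ← hmap, ← Ideal.map_sup, ← span_F]
        exact Ideal.mem_map_of_mem _ hr)
    rw [← hmap, ← hmap, ← Ideal.map_sup, ← span_G] at hres
    exact hres
  · obtain ⟨g, hg, hgn⟩ := SetLike.not_le_iff_exists.mp hle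
    have : Ideal.map (algebraMap (MvPolynomial (Fin (n + n)) k) (Localization.AtPrime 𝔑))
        (Ideal.span (Set.range (G k n f))) = ⊤ :=
      Ideal.eq_top_of_isUnit_mem _ (Ideal.mem_map_of_mem _ hg)
        (IsLocalization.map_units (Localization.AtPrime 𝔑) (⟨g, hgn⟩ : 𝔑.primeCompl))
    rw [this]
    trivial

section App2

variable (A : Type u) [CommRing A] (n : ℕ) (𝔭 : Ideal A)

/-- reduction mod `𝔭` on polynomial rings -/
noncomputable abbrev ρ (σ : Type) : MvPolynomial σ A →+* MvPolynomial σ (A ⧸ 𝔭) :=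
  MvPolynomial.map (Ideal.Quotient.mk 𝔭)

theorem ρ_surjective (σ : Type) : Function.Surjective (ρ A 𝔭 σ) :=
  MvPolynomial.map_surjective _ Ideal.Quotient.mk_surjective

theorem ker_ρ (σ : Type) : RingHom.ker (ρ A 𝔭 σ) = Ideal.map C 𝔭 := by
  rw [ρ, MvPolynomial.ker_map, Ideal.mk_ker]

theorem ρ_ιx (p : MvPolynomial (Fin n) A) :
    ρ A 𝔭 (Fin (n + n)) (ιx A n p) = ιx (A ⧸ 𝔭) n (ρ A 𝔭 (Fin n) p) :=
  MvPolynomial.map_rename _ _ _

theorem ρ_ιy (p : MvPolynomial (Fin n) A) :
    ρ A 𝔭 (Fin (n + n)) (ιy A n p) = ιy (A ⧸ 𝔭) n (ρ A 𝔭 (Fin n) p) :=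
  MvPolynomial.map_rename _ _ _

theorem ρ_D (j : Fin n) : ρ A 𝔭 (Fin (n + n)) (D A n j) = D (A ⧸ 𝔭) n j := by
  rw [D, D, map_sub, ρ, MvPolynomial.map_X, MvPolynomial.map_X]

variable (f : Fin n → MvPolynomial (Fin n) A)

theorem map_ρ_F : Ideal.map (ρ A 𝔭 (Fin (n + n))) (Ideal.span (Set.range (F A n f))) =
    Ideal.span (Set.range (F (A ⧸ 𝔭) n (fun i => ρ A 𝔭 (Fin n) (f i)))) := by
  rw [Ideal.map_span, ← Set.range_comp]
  congr 2
  funext k
  induction k using Fin.addCases with
  | left i => simp only [Function.comp_apply, F, Fin.append_left, ρ_ιy]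
  | right i => simp only [Function.comp_apply, F, Fin.append_right, ρ_ιx]

theorem map_ρ_G : Ideal.map (ρ A 𝔭 (Fin (n + n))) (Ideal.span (Set.range (G A n f))) =
    Ideal.span (Set.range (G (A ⧸ 𝔭) n (fun i => ρ A 𝔭 (Fin n) (f i)))) := by
  rw [Ideal.map_span, ← Set.range_comp]
  congr 2
  funext k
  induction k using Fin.addCases with
  | left i => simp only [Function.comp_apply, G, Fin.append_left, ρ_ιy]
  | right i => simp only [Function.comp_apply, G, Fin.append_right, ρ_D]

theorem finite_fibre [Module.Finite A (MvPolynomial (Fin n) A ⧸ Ideal.span (Set.range f))] :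
    Module.Finite (A ⧸ 𝔭) (MvPolynomial (Fin n) (A ⧸ 𝔭) ⧸
      Ideal.span (Set.range (fun i => ρ A 𝔭 (Fin n) (f i)))) := by
  set I' := Ideal.span (Set.range (fun i => ρ A 𝔭 (Fin n) (f i))) with hI'
  let φ : (MvPolynomial (Fin n) A ⧸ Ideal.span (Set.range f)) →+*
      (MvPolynomial (Fin n) (A ⧸ 𝔭) ⧸ I') :=
    Ideal.Quotient.lift (Ideal.span (Set.range f)) ((Ideal.Quotient.mk I').comp (ρ A 𝔭 (Fin n)))
      (by
        intro a ha
        have : Ideal.span (Set.range f) ≤
            RingHom.ker ((Ideal.Quotient.mk I').comp (ρ A 𝔭 (Fin n))) := by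
          rw [Ideal.span_le]
          rintro _ ⟨i, rfl⟩
          change (Ideal.Quotient.mk I') (ρ A 𝔭 (Fin n) (f i)) = 0
          exact Ideal.Quotient.eq_zero_iff_mem.mpr (Ideal.subset_span ⟨i, rfl⟩)
        exact this ha)
  have hφ : Function.Surjective φ := by
    intro y
    obtain ⟨q, rfl⟩ := Ideal.Quotient.mk_surjective y
    obtain ⟨p, rfl⟩ := ρ_surjective A 𝔭 (Fin n) q
    exact ⟨Ideal.Quotient.mk _ p, rfl⟩
  haveI : RingHomSurjective (Ideal.Quotient.mk 𝔭) := ⟨Ideal.Quotient.mk_surjective⟩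
  let φl : (MvPolynomial (Fin n) A ⧸ Ideal.span (Set.range f)) →ₛₗ[Ideal.Quotient.mk 𝔭]
      (MvPolynomial (Fin n) (A ⧸ 𝔭) ⧸ I') :=
    { toFun := φ
      map_add' := map_add φ
      map_smul' := by
        intro a b
        obtain ⟨p, rfl⟩ := Ideal.Quotient.mk_surjective b
        have e1 : a • (Ideal.Quotient.mk (Ideal.span (Set.range f)) p) =
            Ideal.Quotient.mk (Ideal.span (Set.range f)) (C a * p) := by
          rw [← MvPolynomial.smul_eq_C_mul]; rfl
        rw [e1]
        change Ideal.Quotient.mk I' (ρ A 𝔭 (Fin n) (C a * p)) =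
          (Ideal.Quotient.mk 𝔭 a) • Ideal.Quotient.mk I' (ρ A 𝔭 (Fin n) p)
        rw [map_mul, ρ, MvPolynomial.map_C, ← MvPolynomial.smul_eq_C_mul]
        rfl }
  exact Module.Finite.of_surjective φl hφ

theorem app2 [Module.Finite A (MvPolynomial (Fin n) A ⧸ Ideal.span (Set.range f))]
    [𝔭.IsMaximal]
    (c : Matrix (Fin n) (Fin n) (MvPolynomial (Fin (n + n)) A))
    (hc : ∀ i, ιx A n (f i) - ιy A n (f i) = ∑ j, c i j * D A n j)
    (r : MvPolynomial (Fin (n + n)) A)
    (hr : r * c.det ∈ Ideal.span (Set.range (F A n f)) ⊔ Ideal.map C 𝔭) :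
    r ∈ Ideal.span (Set.range (G A n f)) ⊔ Ideal.map C 𝔭 := by
  letI : Field (A ⧸ 𝔭) := Ideal.Quotient.field 𝔭
  haveI := finite_fibre A n 𝔭 f
  have h1 : ρ A 𝔭 (Fin (n + n)) r * (c.map (ρ A 𝔭 (Fin (n + n)))).det ∈
      Ideal.span (Set.range (F (A ⧸ 𝔭) n (fun i => ρ A 𝔭 (Fin n) (f i)))) := by
    have h5 : (c.map (ρ A 𝔭 (Fin (n + n)))).det = ρ A 𝔭 (Fin (n + n)) c.det := by
      rw [RingHom.map_det]; rfl
    rw [h5, ← map_mul, ← map_ρ_F]
    have h6 := Ideal.mem_map_of_mem (ρ A 𝔭 (Fin (n + n))) hr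
    rw [Ideal.map_sup, ← ker_ρ, (Ideal.map_eq_bot_iff_le_ker _).mpr le_rfl, sup_bot_eq] at h6
    exact h6
  have h2 := app1 (A ⧸ 𝔭) n (fun i => ρ A 𝔭 (Fin n) (f i)) (c.map (ρ A 𝔭 (Fin (n + n)))) (by
    intro i
    have := congrArg (ρ A 𝔭 (Fin (n + n))) (hc i)
    rw [map_sub, ρ_ιx, ρ_ιy, map_sum] at this
    rw [this]
    refine Finset.sum_congr rfl fun j _ => ?_
    rw [map_mul, ρ_D, Matrix.map_apply]) _ h1
  rw [← map_ρ_G, ← Ideal.mem_comap, Ideal.comap_map_of_surjective _ (ρ_surjective A 𝔭 _),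
    ← RingHom.ker_eq_comap_bot, ker_ρ] at h2
  exact h2

end App2

end Groth.Agent.Lib.Helper94.WiebePoly
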