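import Mathlib
import Groth.Agent.Lib.Helper94.WiebePoly
import Groth.Agent.S2215

set_option autoImplicit false
universe u v

namespace Groth.Agent.Lib.Helper94.JacTrace

open MvPolynomial TensorProduct
open Groth.Agent.Lib.Helper94.WiebeLocal Groth.Agent.Lib.Helper94.Bezout
open Groth.Agent.Lib.Helper94.WiebePoly

/-- in an Artinian ring every maximal ideal annihilates a nonzero element -/
theorem exists_socle_elt (C : Type u) [CommRing C] [IsArtinianRing C] (M : Ideal C)
    [hM : M.IsMaximal] : ∃ x : C, x ≠ 0 ∧ ∀ m ∈ M, m * x = 0 := by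
  haveI : Nontrivial C := ⟨⟨0, 1, fun h => hM.ne_top ((Ideal.eq_top_iff_one _).mpr (by
      have : (1 : C) = 0 := h.symm
      rw [this]; exact M.zero_mem))⟩⟩
  haveI : M.IsPrime := hM.isPrime
  have h1 : M ∈ (Module.annihilator C C).minimalPrimes := by
    rw [Ring.KrullDimLE.mem_minimalPrimes_iff_le_of_isPrime]
    rw [Module.annihilator_eq_bot.mpr inferInstance]
    exact bot_le
  have h2 := Module.associatedPrimes.minimalPrimes_annihilator_subset_associatedPrimes C C h1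
  obtain ⟨-, x, hx⟩ := isAssociatedPrime_iff.mp h2
  refine ⟨x, ?_, ?_⟩
  · rintro rfl
    apply hM.ne_top
    rw [hx, Ideal.eq_top_iff_one, Submodule.mem_colon_singleton]
    simp
  · intro m hm
    rw [hx, Submodule.mem_colon_singleton] at hm
    simpa using hm

theorem isArtinianRing_quot (A : Type u) (B : Type v) [CommRing A] [CommRing B] [Algebra A B]
    [Module.Finite A B] (𝔭 : Ideal A) [𝔭.IsMaximal] :
    IsArtinianRing (B ⧸ Ideal.map (algebraMap A B) 𝔭) := by
  letI : Field (A ⧸ 𝔭) := Ideal.Quotient.field 𝔭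
  haveI : Module.Finite (A ⧸ 𝔭) (B ⧸ Ideal.map (algebraMap A B) 𝔭) :=
    Module.Finite.of_restrictScalars_finite A _ _
  exact IsArtinianRing.of_finite (A ⧸ 𝔭) (B ⧸ Ideal.map (algebraMap A B) 𝔭)

theorem map_algebraMap_eq {A : Type u} {Q : Type v} {E : Type*} [CommRing A] [CommRing Q]
    [CommRing E] [Algebra A Q] [Algebra A E] (π : Q →ₐ[A] E) (𝔭 : Ideal A) :
    Ideal.map (algebraMap A E) 𝔭 = Ideal.map π.toRingHom (Ideal.map (algebraMap A Q) 𝔭) := by
  rw [Ideal.map_map]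
  congr 1
  ext a
  simp

section FiniteFree

open Groth.Agent.S2215

variable {A : Type u} {B : Type v} [CommRing A] [CommRing B] [Algebra A B]

/-- the `B`-linear map `ω → B` attached to `t ∈ Ann(I)` -/
noncomputable def Φ (t : B ⊗[A] B)
    (ht : t ∈ Submodule.annihilator (KaehlerDifferential.ideal A B)) :
    Disc.Omega A B →ₗ[B] B :=
  { toFun := fun ψ => θ ψ.toLinearMap t
    map_add' := fun ψ₁ ψ₂ => by simp
    map_smul' := fun c ψ => by
      have ht' := (Groth.Agent.S2197.mem_annihilator_ideal_iff t).mp ht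
      simp only [RingHom.id_apply, smul_eq_mul]
      have : (c • ψ).toLinearMap = ψ.toLinearMap ∘ₗ LinearMap.mulLeft A c := rfl
      rw [this, ← θ_left, mul_comm, ← ht' c, mul_comm, θ_right] }

theorem Φ_apply (t : B ⊗[A] B)
    (ht : t ∈ Submodule.annihilator (KaehlerDifferential.ideal A B)) (ψ : Disc.Omega A B) :
    Φ t ht ψ = θ ψ.toLinearMap t := rfl

theorem Φ_trace [Module.Finite A B] [Module.Free A B] (t : B ⊗[A] B)
    (ht : t ∈ Submodule.annihilator (KaehlerDifferential.ideal A B)) :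
    Φ t ht (Disc.Omega.trace A B) = Algebra.TensorProduct.lmul' (S := B) A t := by
  classical
  exact θ_trace (Module.Free.chooseBasis A B) t ht

theorem Φ_bijective_of_surjective [Module.Finite A B] [Module.Free A B] (t : B ⊗[A] B)
    (ht : t ∈ Submodule.annihilator (KaehlerDifferential.ideal A B))
    (h : Function.Surjective (Φ t ht)) : Function.Bijective (Φ t ht) := by
  classical
  refine ⟨?_, h⟩
  let b := Module.Free.chooseBasis A B
  let g : B →ₗ[A] B := (θ.flip t) ∘ₗ b.toDualEquiv.toLinearMap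
  have hg : Function.Surjective g := by
    intro y
    obtain ⟨ψ, hψ⟩ := h y
    obtain ⟨x, hx⟩ := b.toDualEquiv.surjective ψ.toLinearMap
    refine ⟨x, ?_⟩
    change θ (b.toDualEquiv x) t = y
    rw [hx]
    exact hψ
  have hinj := OrzechProperty.injective_of_surjective_endomorphism g hg
  intro ψ₁ ψ₂ h12
  apply Disc.Omega.ext
  obtain ⟨x₁, hx₁⟩ := b.toDualEquiv.surjective ψ₁.toLinearMap
  obtain ⟨x₂, hx₂⟩ := b.toDualEquiv.surjective ψ₂.toLinearMap
  have : g x₁ = g x₂ := by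
    change θ (b.toDualEquiv x₁) t = θ (b.toDualEquiv x₂) t
    rw [hx₁, hx₂]
    exact h12
  rw [← hx₁, ← hx₂, hinj this]

theorem mem_map_of_forall_θ [Module.Finite A B] [Module.Free A B] (𝔭 : Ideal A) (t : B ⊗[A] B)
    (h : ∀ ψ : B →ₗ[A] A, θ ψ t ∈ Ideal.map (algebraMap A B) 𝔭) :
    t ∈ Ideal.map (algebraMap A (B ⊗[A] B)) 𝔭 := by
  classical
  rw [eq_sum (Module.Free.chooseBasis A B) t]
  refine Ideal.sum_mem _ fun j _ => ?_
  have h1 : ∀ y ∈ Ideal.map (algebraMap A B) 𝔭, (1 : B) ⊗ₜ[A] y ∈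
      Ideal.map (algebraMap A (B ⊗[A] B)) 𝔭 := by
    intro y hy
    have h2 : Ideal.map (Algebra.TensorProduct.includeRight : B →ₐ[A] B ⊗[A] B).toRingHom
        (Ideal.map (algebraMap A B) 𝔭) = Ideal.map (algebraMap A (B ⊗[A] B)) 𝔭 := by
      rw [Ideal.map_map]
      congr 1
      ext a
      simp
    rw [← h2]
    exact Ideal.mem_map_of_mem
      (Algebra.TensorProduct.includeRight : B →ₐ[A] B ⊗[A] B).toRingHom hy
  have h3 : ∀ x y : B, x ⊗ₜ[A] y = (x ⊗ₜ[A] (1 : B)) * ((1 : B) ⊗ₜ[A] y) := by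
    intro x y
    rw [Algebra.TensorProduct.tmul_mul_tmul, mul_one, one_mul]
  rw [h3]
  exact Ideal.mul_mem_left _ _ (h1 _ (h _))

end FiniteFree

section Poly

open Groth.Agent.S2215

variable (A : Type u) [CommRing A] (n : ℕ) (f : Fin n → MvPolynomial (Fin n) A)

local notation "B" => MvPolynomial (Fin n) A ⧸ Ideal.span (Set.range f)
local notation "mk" => Ideal.Quotient.mk (Ideal.span (Set.range f))

theorem lmul'_π (q : MvPolynomial (Fin (n + n)) A) :
    Algebra.TensorProduct.lmul' (S := B) A (π A n f q) = mk (diag A n q) := by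
  have h : (Algebra.TensorProduct.lmul' (S := B) A).comp (π A n f) =
      (Ideal.Quotient.mkₐ A (Ideal.span (Set.range f))).comp (diag A n) := by
    apply MvPolynomial.algHom_ext
    intro k
    induction k using Fin.addCases with
    | left j =>
      rw [AlgHom.comp_apply, AlgHom.comp_apply, ← ιx_X, π_ιx, diag_ιx,
        Algebra.TensorProduct.lmul'_apply_tmul, mul_one]
      rfl
    | right j =>
      rw [AlgHom.comp_apply, AlgHom.comp_apply, ← ιy_X, π_ιy, diag_ιy,
        Algebra.TensorProduct.lmul'_apply_tmul, one_mul]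
      rfl
  exact AlgHom.congr_fun h q

theorem π_D (j : Fin n) :
    π A n f (D A n j) = (mk (X j)) ⊗ₜ[A] (1 : B) - (1 : B) ⊗ₜ[A] (mk (X j)) := by
  rw [D, map_sub, ← ιx_X, ← ιy_X, π_ιx, π_ιy]

theorem det_mul_D_mem (c : Matrix (Fin n) (Fin n) (MvPolynomial (Fin (n + n)) A))
    (hc : ∀ i, ιx A n (f i) - ιy A n (f i) = ∑ j, c i j * D A n j) (j : Fin n) :
    c.det * D A n j ∈ Ideal.span (Set.range (F A n f)) := by
  have h := cramer_mem (M := MvPolynomial (Fin (n + n)) A) c (D A n)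
    (Ideal.span (Set.range (F A n f))) 1 (by
      intro i
      rw [← hc i, smul_eq_mul, mul_one]
      exact Ideal.sub_mem _ (ιx_mem_F A n f i) (ιy_mem_F A n f i)) j
  rwa [smul_eq_mul, mul_one] at h

theorem adjoin_X_eq_top :
    Algebra.adjoin A (Set.range fun j : Fin n => (mk (X j) : B)) = ⊤ := by
  have h1 : (Set.range fun j : Fin n => (mk (X j) : B)) =
      (Ideal.Quotient.mkₐ A (Ideal.span (Set.range f))) '' (Set.range X) := by
    rw [← Set.range_comp]
    rfl
  rw [h1, ← AlgHom.map_adjoin, MvPolynomial.adjoin_range_X, Algebra.map_top,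
    AlgHom.range_eq_top]
  exact Ideal.Quotient.mkₐ_surjective A _

theorem π_det_mem_annihilator (c : Matrix (Fin n) (Fin n) (MvPolynomial (Fin (n + n)) A))
    (hc : ∀ i, ιx A n (f i) - ιy A n (f i) = ∑ j, c i j * D A n j) :
    π A n f c.det ∈ Submodule.annihilator (KaehlerDifferential.ideal A B) := by
  refine Groth.Agent.S2197.mem_annihilator_ideal_of_adjoin _ (adjoin_X_eq_top A n f) _ ?_
  rintro _ ⟨j, rfl⟩
  have h1 : π A n f (c.det * D A n j) = 0 := by
    have h2 : c.det * D A n j ∈ RingHom.ker (π A n f) := by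
      rw [ker_π]
      exact det_mul_D_mem A n f c hc j
    exact h2
  rw [map_mul, π_D] at h1
  have h3 := mul_sub (π A n f c.det) ((mk (X j)) ⊗ₜ[A] (1 : B)) ((1 : B) ⊗ₜ[A] (mk (X j)))
  have h4 : π A n f c.det * ((mk (X j)) ⊗ₜ[A] (1 : B)) -
      π A n f c.det * ((1 : B) ⊗ₜ[A] (mk (X j))) = 0 := h3.symm.trans h1
  exact (sub_eq_zero.mp h4).symm

theorem lmul'_π_det (c : Matrix (Fin n) (Fin n) (MvPolynomial (Fin (n + n)) A))
    (hc : ∀ i, ιx A n (f i) - ιy A n (f i) = ∑ j, c i j * D A n j) :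
    Algebra.TensorProduct.lmul' (S := B) A (π A n f c.det) =
      mk (Matrix.det (Matrix.of fun i j : Fin n => MvPolynomial.pderiv j (f i))) := by
  rw [lmul'_π]
  congr 1
  have h1 : diag A n c.det = ((diag A n).toRingHom.mapMatrix c).det :=
    RingHom.map_det (diag A n).toRingHom c
  rw [h1]
  congr 1
  apply Matrix.ext
  intro i j
  exact diag_bezout A n f c hc i j

theorem δ_ιy (p : MvPolynomial (Fin n) A) : δ A n f (ιy A n p) = mk p := by
  rw [δ, AlgHom.comp_apply, diag_ιy]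
  rfl

theorem δ_mem (𝔭 : Ideal A) (r : MvPolynomial (Fin (n + n)) A)
    (hr : r ∈ Ideal.span (Set.range (G A n f)) ⊔ Ideal.map C 𝔭) :
    δ A n f r ∈ Ideal.map (algebraMap A B) 𝔭 := by
  have h1 : Ideal.span (Set.range (G A n f)) ⊔ Ideal.map C 𝔭 ≤
      Ideal.comap (δ A n f).toRingHom (Ideal.map (algebraMap A B) 𝔭) := by
    rw [sup_le_iff]
    constructor
    · rw [Ideal.span_le]
      rintro _ ⟨k, rfl⟩
      change δ A n f (G A n f k) ∈ Ideal.map (algebraMap A B) 𝔭
      rw [δ_G]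
      exact Ideal.zero_mem _
    · rw [Ideal.map_le_iff_le_comap]
      intro a ha
      change δ A n f (C a) ∈ Ideal.map (algebraMap A B) 𝔭
      have : δ A n f (C a) = algebraMap A B a := (δ A n f).commutes a
      rw [this]
      exact Ideal.mem_map_of_mem _ ha
  exact h1 hr

theorem Φ_surjective [Module.Finite A B] [Module.Free A B]
    (c : Matrix (Fin n) (Fin n) (MvPolynomial (Fin (n + n)) A))
    (hc : ∀ i, ιx A n (f i) - ιy A n (f i) = ∑ j, c i j * D A n j) :
    Function.Surjective (Φ (π A n f c.det) (π_det_mem_annihilator A n f c hc)) := by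
  rw [← LinearMap.range_eq_top]
  by_contra hne
  obtain ⟨𝔪, h𝔪, hle⟩ := Ideal.exists_le_maximal
    (LinearMap.range (Φ (π A n f c.det) (π_det_mem_annihilator A n f c hc)) : Ideal B) hne
  haveI : Algebra.IsIntegral A B := Algebra.IsIntegral.of_finite A B
  set 𝔭 : Ideal A := 𝔪.comap (algebraMap A B) with h𝔭
  haveI : 𝔭.IsMaximal := Ideal.isMaximal_comap_of_isIntegral_of_isMaximal 𝔪
  set 𝔭B : Ideal B := Ideal.map (algebraMap A B) 𝔭 with h𝔭B
  have hle𝔪 : 𝔭B ≤ 𝔪 := Ideal.map_comap_le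
  haveI : IsArtinianRing (B ⧸ 𝔭B) := isArtinianRing_quot A B 𝔭
  set M : Ideal (B ⧸ 𝔭B) := Ideal.map (Ideal.Quotient.mk 𝔭B) 𝔪 with hM
  haveI : M.IsMaximal := by
    refine (Ideal.map_eq_top_or_isMaximal_of_surjective _ Ideal.Quotient.mk_surjective
      h𝔪).resolve_left ?_
    intro htop
    have h1 : (1 : B ⧸ 𝔭B) ∈ Ideal.map (Ideal.Quotient.mk 𝔭B) 𝔪 := by
      rw [htop]; trivial
    rw [Ideal.mem_map_iff_of_surjective _ Ideal.Quotient.mk_surjective] at h1
    obtain ⟨m, hm, hm1⟩ := h1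
    have h2 : m - 1 ∈ 𝔭B := by
      rw [← Ideal.Quotient.eq_zero_iff_mem, map_sub, hm1, map_one, sub_self]
    apply h𝔪.ne_top
    rw [Ideal.eq_top_iff_one]
    have : (1 : B) = m - (m - 1) := by ring
    rw [this]
    exact Ideal.sub_mem _ hm (hle𝔪 h2)
  obtain ⟨x, hx0, hx⟩ := exists_socle_elt (B ⧸ 𝔭B) M
  obtain ⟨β, rfl⟩ := Ideal.Quotient.mk_surjective x
  have hβ : β ∉ 𝔭B := fun h => hx0 (Ideal.Quotient.eq_zero_iff_mem.mpr h)
  have hβ𝔪 : ∀ m ∈ 𝔪, m * β ∈ 𝔭B := fun m hm => by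
    rw [← Ideal.Quotient.eq_zero_iff_mem, map_mul]
    exact hx _ (Ideal.mem_map_of_mem _ hm)
  obtain ⟨β', rfl⟩ := Ideal.Quotient.mk_surjective β
  have h1 : ∀ ψ : B →ₗ[A] A, θ ψ (((1 : B) ⊗ₜ[A] (mk β')) * π A n f c.det) ∈ 𝔭B := by
    intro ψ
    rw [θ_right, mul_comm]
    exact hβ𝔪 _ (hle ⟨⟨ψ⟩, rfl⟩)
  have h2 := mem_map_of_forall_θ 𝔭 _ h1
  have h3 : ((1 : B) ⊗ₜ[A] (mk β')) * π A n f c.det = π A n f (ιy A n β' * c.det) := by
    rw [map_mul, π_ιy]
  rw [h3] at h2
  rw [map_algebraMap_eq (π A n f) 𝔭, MvPolynomial.algebraMap_eq,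
    Ideal.mem_map_iff_of_surjective (π A n f).toRingHom (π_surjective A n f)] at h2
  obtain ⟨y, hy, hyeq⟩ := h2
  have h5 : ιy A n β' * c.det ∈ Ideal.span (Set.range (F A n f)) ⊔ Ideal.map C 𝔭 := by
    have h6 : ιy A n β' * c.det - y ∈ RingHom.ker (π A n f) := by
      rw [RingHom.mem_ker, map_sub]
      exact sub_eq_zero.mpr hyeq.symm
    rw [ker_π] at h6
    have e : ιy A n β' * c.det = (ιy A n β' * c.det - y) + y := by ring
    rw [e]
    exact Ideal.add_mem _ (Ideal.mem_sup_left h6) (Ideal.mem_sup_right hy)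
  have h7 := δ_mem A n f 𝔭 _ (app2 A n 𝔭 f c hc _ h5)
  rw [δ_ιy] at h7
  exact hβ h7

/-- **Main theorem**: for `B = A[x_1..x_n]/(f_1..f_n)` finite free over `A`, there is a `B`-linear
isomorphism `B ≃ ω_{B/A}` carrying the Jacobian determinant to the trace. -/
theorem main [Module.Finite A B] [Module.Free A B] :
    ∃ e : B ≃ₗ[B] Disc.Omega A B,
      e (mk (Matrix.det (Matrix.of fun i j : Fin n => MvPolynomial.pderiv j (f i)))) =
        Disc.Omega.trace A B := by
  obtain ⟨c, hc⟩ := exists_bezout A n f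
  have hbij := Φ_bijective_of_surjective (π A n f c.det) (π_det_mem_annihilator A n f c hc)
    (Φ_surjective A n f c hc)
  refine ⟨(LinearEquiv.ofBijective _ hbij).symm, ?_⟩
  rw [LinearEquiv.symm_apply_eq, LinearEquiv.ofBijective_apply, Φ_trace, lmul'_π_det A n f c hc]

end Poly

end Groth.Agent.Lib.Helper94.JacTrace
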