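import Mathlib
import Groth.Prelude.Def_Disc

/-!
# Gram determinants and generators of `ω = Hom_A(B, A)` for a finite free algebra (helper94)

For a finite free `A`-algebra `B` with basis `b` and `φ : B →ₗ[A] A`, the Gram matrix
`gram b φ = (φ (b i * b j))`.
* `bijective_of_isUnit_det`, `isUnit_det_of_bijective`: `x ↦ x • φ : B → ω` is bijective iff the Gram
  determinant is a unit.
* `nonempty_equiv_away_omega`: after inverting the Gram determinant `ω` becomes free of rank one.
* `exists_gram_notMem`: a non-zero Gram determinant on a fibre lifts to a Gram determinant outside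
  the prime.
-/

set_option autoImplicit false
universe u v

namespace Groth.Agent.Lib.Helper94.GramOmega

open Module TensorProduct

/-- A linear map `μ : R → M` of `R`-modules admitting a "quasi-inverse up to `r`" becomes an isomorphism
after inverting `r`. -/
theorem nonempty_equiv_away {R : Type u} [CommRing R] {M : Type v} [AddCommGroup M] [Module R M]
    (r : R) (μ : R →ₗ[R] M) (ν : M → R)
    (h1 : ∀ m, μ (ν m) = r • m) (h2 : ∀ x, μ x = 0 → r * x = 0) :
    Nonempty (LocalizedModule.Away r M ≃ₗ[Localization.Away r] Localization.Away r) := by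
  let S := Submonoid.powers r
  let f₁ : R →ₗ[R] Localization S := Algebra.linearMap R (Localization S)
  let g₁ : M →ₗ[R] LocalizedModule S M := LocalizedModule.mkLinearMap S M
  let F₀ : Localization S →ₗ[R] LocalizedModule S M := IsLocalizedModule.map S f₁ g₁ μ
  have hF₀ : ∀ x, F₀ (f₁ x) = g₁ (μ x) := fun x => IsLocalizedModule.map_apply S f₁ g₁ μ x
  have hinj : Function.Injective F₀ := by
    rw [injective_iff_map_eq_zero]
    intro z hz
    obtain ⟨⟨x, s⟩, hxs⟩ := IsLocalizedModule.surj S f₁ z
    have hxs' : (s.1 : R) • z = f₁ x := hxs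
    have h3 : g₁ (μ x) = 0 := by
      rw [← hF₀, ← hxs', map_smul, hz, smul_zero]
    obtain ⟨t, ht⟩ := (IsLocalizedModule.eq_zero_iff S g₁).mp h3
    have h4 : μ (t.1 * x) = 0 := by
      rw [← smul_eq_mul, map_smul]
      exact ht
    have h5 := h2 _ h4
    have h6 : f₁ x = 0 := by
      rw [IsLocalizedModule.eq_zero_iff S f₁]
      refine ⟨⟨r, Submonoid.mem_powers r⟩ * t, ?_⟩
      rw [Submonoid.smul_def, smul_eq_mul, Submonoid.coe_mul, mul_assoc]
      exact h5
    rw [h6] at hxs'
    have hu := IsLocalizedModule.map_units f₁ s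
    have := ((Module.End.isUnit_iff _).mp hu).1
    apply this
    rw [map_zero]
    exact hxs'
  have hsurj : Function.Surjective F₀ := by
    intro w
    obtain ⟨⟨m, s⟩, hms⟩ := IsLocalizedModule.surj S g₁ w
    have hu : IsUnit (algebraMap R (Localization S) (r * s.1)) :=
      IsLocalization.map_units (Localization S)
        (⟨r, Submonoid.mem_powers r⟩ * s : S)
    refine ⟨(↑hu.unit⁻¹ : Localization S) * f₁ (ν m), ?_⟩
    have hu' := IsLocalizedModule.map_units g₁ (⟨r, Submonoid.mem_powers r⟩ * s : S)
    apply ((Module.End.isUnit_iff _).mp hu').1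
    change ((⟨r, Submonoid.mem_powers r⟩ * s : S) : R) • F₀ _ = ((⟨r, Submonoid.mem_powers r⟩ * s : S) : R) • w
    rw [← map_smul, Submonoid.coe_mul]
    have e1 : (r * s.1) • ((↑hu.unit⁻¹ : Localization S) * f₁ (ν m)) = f₁ (ν m) := by
      rw [Algebra.smul_def, ← mul_assoc]
      have : algebraMap R (Localization S) (r * s.1) * (↑hu.unit⁻¹ : Localization S) = 1 :=
        IsUnit.mul_val_inv hu
      rw [this, one_mul]
    rw [e1, hF₀, h1, map_smul, mul_smul]
    congr 1
    exact hms.symm
  let F : Localization S →ₗ[Localization S] LocalizedModule S M :=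
    LinearMap.extendScalarsOfIsLocalization S (Localization S) F₀
  have hFb : Function.Bijective F := ⟨hinj, hsurj⟩
  exact ⟨(LinearEquiv.ofBijective F hFb).symm⟩


section

variable {A : Type u} {B : Type v} [CommRing A] [CommRing B] [Algebra A B]
variable {ι : Type*} [Fintype ι] [DecidableEq ι] (b : Basis ι A B)

/-- The Gram matrix of the form `(x, y) ↦ φ (x y)`. -/
noncomputable def gram (φ : B →ₗ[A] A) : Matrix ι ι A := fun i j => φ (b i * b j)

/-- `x ↦ φ (x · -)` as an `A`-linear map `B → Hom_A(B, A)`. -/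
noncomputable def mulForm (φ : B →ₗ[A] A) : B →ₗ[A] Module.Dual A B :=
  (LinearMap.mul A B).compr₂ φ

omit [Fintype ι] [DecidableEq ι] in
@[simp] theorem mulForm_apply (φ : B →ₗ[A] A) (x y : B) : mulForm φ x y = φ (x * y) := rfl

theorem toMatrix_mulForm (φ : B →ₗ[A] A) :
    LinearMap.toMatrix b b.dualBasis (mulForm φ) = gram b φ := by
  ext i j
  rw [LinearMap.toMatrix_apply, Basis.dualBasis_repr, mulForm_apply, gram, mul_comm]

omit [Fintype ι] [DecidableEq ι] in
theorem smul_toLinearMap (φ : B →ₗ[A] A) (x : B) :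
    (x • (⟨φ⟩ : Disc.Omega A B)).toLinearMap = mulForm φ x := by
  apply LinearMap.ext
  intro y
  rfl

/-- If the Gram determinant is a unit, `φ` generates `ω` freely. -/
theorem bijective_of_isUnit_det (φ : B →ₗ[A] A) (h : IsUnit (gram b φ).det) :
    Function.Bijective (fun x : B => x • (⟨φ⟩ : Disc.Omega A B)) := by
  rw [← toMatrix_mulForm] at h
  have e := LinearEquiv.ofIsUnitDet h
  have he : ∀ x, (LinearEquiv.ofIsUnitDet h) x = mulForm φ x := fun x => by
    rw [LinearEquiv.ofIsUnitDet_apply]
  constructor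
  · intro x y hxy
    apply (LinearEquiv.ofIsUnitDet h).injective
    rw [he, he, ← smul_toLinearMap, ← smul_toLinearMap]
    exact congrArg Disc.Omega.toLinearMap hxy
  · intro ψ
    obtain ⟨x, hx⟩ := (LinearEquiv.ofIsUnitDet h).surjective ψ.toLinearMap
    refine ⟨x, ?_⟩
    apply Disc.Omega.ext
    rw [smul_toLinearMap, ← he, hx]

/-- If `φ` generates `ω` freely, the Gram determinant is a unit. -/
theorem isUnit_det_of_bijective (φ : B →ₗ[A] A)
    (h : Function.Bijective (fun x : B => x • (⟨φ⟩ : Disc.Omega A B))) :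
    IsUnit (gram b φ).det := by
  have hb : Function.Bijective (mulForm φ) := by
    constructor
    · intro x y hxy
      apply h.1
      apply Disc.Omega.ext
      rw [smul_toLinearMap, smul_toLinearMap, hxy]
    · intro χ
      obtain ⟨x, hx⟩ := h.2 ⟨χ⟩
      refine ⟨x, ?_⟩
      rw [← smul_toLinearMap]
      exact congrArg Disc.Omega.toLinearMap hx
  rw [← toMatrix_mulForm]
  exact LinearEquiv.isUnit_det (LinearEquiv.ofBijective (mulForm φ) hb) b b.dualBasis

/-- The adjugate map. -/
noncomputable def adjForm (φ : B →ₗ[A] A) : Module.Dual A B →ₗ[A] B :=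
  Matrix.toLin b.dualBasis b (gram b φ).adjugate

theorem mulForm_adjForm (φ : B →ₗ[A] A) (χ : Module.Dual A B) :
    mulForm φ (adjForm b φ χ) = (gram b φ).det • χ := by
  have h1 : mulForm φ ∘ₗ adjForm b φ = (gram b φ).det • LinearMap.id := by
    rw [adjForm, ← Matrix.toLin_toMatrix b b.dualBasis (mulForm φ), ← Matrix.toLin_mul,
      toMatrix_mulForm, Matrix.mul_adjugate, map_smul, Matrix.toLin_one]
  exact LinearMap.congr_fun h1 χ

theorem adjForm_mulForm (φ : B →ₗ[A] A) (x : B) :
    adjForm b φ (mulForm φ x) = (gram b φ).det • x := by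
  have h1 : adjForm b φ ∘ₗ mulForm φ = (gram b φ).det • LinearMap.id := by
    rw [adjForm, ← Matrix.toLin_toMatrix b b.dualBasis (mulForm φ), ← Matrix.toLin_mul,
      toMatrix_mulForm, Matrix.adjugate_mul, map_smul, Matrix.toLin_one]
  exact LinearMap.congr_fun h1 x


theorem algebraMap_smul_toLinearMap (a : A) (ψ : Disc.Omega A B) :
    (algebraMap A B a • ψ).toLinearMap = a • ψ.toLinearMap := by
  apply LinearMap.ext
  intro x
  rw [Disc.Omega.smul_toLinearMap_apply, ← Algebra.smul_def, map_smul]
  rfl

/-- After inverting the Gram determinant, `ω` is free of rank one. -/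
theorem nonempty_equiv_away_omega (φ : B →ₗ[A] A) :
    Nonempty (LocalizedModule.Away (algebraMap A B (gram b φ).det) (Disc.Omega A B) ≃ₗ[
      Localization.Away (algebraMap A B (gram b φ).det)]
      Localization.Away (algebraMap A B (gram b φ).det)) := by
  refine nonempty_equiv_away (algebraMap A B (gram b φ).det)
    (LinearMap.toSpanSingleton B (Disc.Omega A B) ⟨φ⟩)
    (fun ψ => adjForm b φ ψ.toLinearMap) ?_ ?_
  · intro ψ
    apply Disc.Omega.ext
    rw [LinearMap.toSpanSingleton_apply, smul_toLinearMap, mulForm_adjForm,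
      algebraMap_smul_toLinearMap]
  · intro x hx
    rw [LinearMap.toSpanSingleton_apply] at hx
    have h1 : mulForm φ x = 0 := by
      rw [← smul_toLinearMap, hx]
      rfl
    have h2 := adjForm_mulForm b φ x
    rw [h1, map_zero] at h2
    rw [← Algebra.smul_def]
    exact h2.symm

/-- Gram determinants on a fibre come from Gram determinants on `B`. -/
theorem exists_gram_notMem (p : Ideal A) [p.IsPrime] (ψ : p.Fiber B →ₗ[p.ResidueField] p.ResidueField)
    (hψ : (gram (Algebra.TensorProduct.basis p.ResidueField b) ψ).det ≠ 0) :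
    ∃ φ : B →ₗ[A] A, (gram b φ).det ∉ p := by
  classical
  let κ := p.ResidueField
  let bC := Algebra.TensorProduct.basis κ b
  obtain ⟨sb, hsb⟩ := IsLocalization.exist_integer_multiples_of_finite
    (nonZeroDivisors (A ⧸ p)) (fun i : ι => ψ (bC i))
  obtain ⟨s, hs⟩ := Ideal.Quotient.mk_surjective sb.1
  have hsp : algebraMap A κ s ≠ 0 := by
    rw [Ne, Ideal.algebraMap_residueField_eq_zero]
    intro hsp
    have : sb.1 = 0 := by rw [← hs]; exact Ideal.Quotient.eq_zero_iff_mem.mpr hsp
    exact nonZeroDivisors.coe_ne_zero sb this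
  have ha : ∀ i : ι, ∃ a : A, algebraMap A κ a = algebraMap A κ s * ψ (bC i) := by
    intro i
    obtain ⟨ab, hab⟩ := hsb i
    obtain ⟨a, rfl⟩ := Ideal.Quotient.mk_surjective ab
    refine ⟨a, ?_⟩
    rw [Algebra.smul_def, ← hs] at hab
    rw [IsScalarTower.algebraMap_apply A (A ⧸ p) κ, IsScalarTower.algebraMap_apply A (A ⧸ p) κ]
    exact hab
  choose a ha using ha
  let φ : B →ₗ[A] A := b.constr A a
  have hφ : ∀ x : B, algebraMap A κ (φ x) = algebraMap A κ s * ψ ((1 : κ) ⊗ₜ[A] x) := by
    intro x
    have h1 : (Algebra.linearMap A κ) ∘ₗ φ =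
        (algebraMap A κ s) • ((ψ.restrictScalars A) ∘ₗ (TensorProduct.mk A κ B 1)) := by
      apply b.ext
      intro i
      simp only [LinearMap.comp_apply, Algebra.linearMap_apply, LinearMap.smul_apply,
        LinearMap.restrictScalars_apply, TensorProduct.mk_apply, smul_eq_mul]
      rw [show φ (b i) = a i from b.constr_basis A a i, ha i]
      congr 2
      exact Algebra.TensorProduct.basis_apply b i
    exact LinearMap.congr_fun h1 x
  refine ⟨φ, ?_⟩
  have hmat : (gram b φ).map (algebraMap A κ) = algebraMap A κ s • gram bC ψ := by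
    ext i j
    simp only [Matrix.map_apply, gram, Matrix.smul_apply, smul_eq_mul]
    rw [hφ]
    congr 2
    rw [Algebra.TensorProduct.basis_apply, Algebra.TensorProduct.basis_apply,
      Algebra.TensorProduct.tmul_mul_tmul, mul_one]
  have hdet : algebraMap A κ (gram b φ).det =
      algebraMap A κ s ^ Fintype.card ι * (gram bC ψ).det := by
    rw [RingHom.map_det, RingHom.mapMatrix_apply, hmat, Matrix.det_smul]
  intro hmem
  have h0 : algebraMap A κ (gram b φ).det = 0 :=
    Ideal.algebraMap_residueField_eq_zero.mpr hmem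
  rw [hdet] at h0
  rcases mul_eq_zero.mp h0 with h | h
  · exact hsp (pow_eq_zero_iff (M₀ := κ) (by
      intro hc
      rw [hc, pow_zero] at h
      exact one_ne_zero h) |>.mp h)
  · exact hψ h

end

end Groth.Agent.Lib.Helper94.GramOmega
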