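import Mathlib
import Groth.Agent.Lib.Helper94.LciMain
import Groth.Agent.Lib.Helper94.LocGen

/-!
# Helper94: finite syntomic algebras over a local ring have square presentations (tools)
-/

set_option autoImplicit false
universe u
open TensorProduct Function MvPolynomial

namespace Groth.Agent.Lib.Helper94.FinSyntSquare

section SemilocalSpan

theorem sub_mem_smul_top_of_tmul_eq {R M : Type*} [CommRing R] [AddCommGroup M] [Module R M]
    (P : Ideal R) (x y : M)
    (h1 : (1 : R ⧸ P) ⊗ₜ[R] x = (1 : R ⧸ P) ⊗ₜ[R] y) : x - y ∈ P • (⊤ : Submodule R M) := by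
  have h2 : (Submodule.Quotient.mk x : M ⧸ P • (⊤ : Submodule R M)) =
      Submodule.Quotient.mk y := by
    have := congrArg (TensorProduct.quotTensorEquivQuotSMul M P) h1
    rwa [TensorProduct.quotTensorEquivQuotSMul_mk_one_tmul,
        TensorProduct.quotTensorEquivQuotSMul_mk_one_tmul] at this
  exact (Submodule.Quotient.eq (P • (⊤ : Submodule R M))).mp h2

/-- A finite module over a semilocal ring which is generated by `n` elements modulo each maximal
ideal is generated by `n` elements. -/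
theorem exists_span_eq_top_of_forall_maximal {R M : Type*} [CommRing R]
    [Finite (MaximalSpectrum R)] [AddCommGroup M] [Module R M] [Module.Finite R M] (n : ℕ)
    (h : ∀ P : MaximalSpectrum R, ∃ v : Fin n → M,
      Submodule.span R (Set.range v) ⊔ P.asIdeal • (⊤ : Submodule R M) = ⊤) :
    ∃ v : Fin n → M, Submodule.span R (Set.range v) = ⊤ := by
  classical
  choose v hv using h
  have hcop : Pairwise (IsCoprime on fun P : MaximalSpectrum R => P.asIdeal) :=
    fun _ _ ne => Ideal.isCoprime_of_isMaximal (MaximalSpectrum.ext_iff.ne.mp ne)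
  choose b hb using fun i : Fin n =>
    Ideal.pi_tensorProductMk_quotient_surjective M (fun P : MaximalSpectrum R => P.asIdeal) hcop
      (fun P => (1 : R ⧸ P.asIdeal) ⊗ₜ[R] v P i)
  have hbv : ∀ (P : MaximalSpectrum R) (i : Fin n),
      b i - v P i ∈ P.asIdeal • (⊤ : Submodule R M) := by
    intro P i
    have h1 := congrFun (hb i) P
    exact sub_mem_smul_top_of_tmul_eq P.asIdeal (b i) (v P i) h1
  refine ⟨b, ?_⟩
  set N : Submodule R M := Submodule.span R (Set.range b) with hN
  -- `N ⊔ P • ⊤ = ⊤` for all maximal `P`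
  have hNP : ∀ P : MaximalSpectrum R, N ⊔ P.asIdeal • (⊤ : Submodule R M) = ⊤ := by
    intro P
    refine top_le_iff.mp ((hv P).ge.trans (sup_le ?_ le_sup_right))
    rw [Submodule.span_le]
    rintro _ ⟨i, rfl⟩
    have h1 : v P i = b i - (b i - v P i) := by abel
    rw [h1]
    exact Submodule.sub_mem _ (Submodule.mem_sup_left (Submodule.subset_span ⟨i, rfl⟩))
      (Submodule.mem_sup_right (hbv P i))
  -- Nakayama
  by_contra hne
  -- the annihilator of `M ⧸ N` is proper
  have hQ : ¬ Subsingleton (M ⧸ N) := by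
    rw [Submodule.Quotient.subsingleton_iff]
    exact hne
  have hann : Module.annihilator R (M ⧸ N) ≠ ⊤ := by
    intro h1
    apply hQ
    rw [← Module.annihilator_eq_top_iff (R := R)]
    exact h1
  obtain ⟨P, hPmax, hP⟩ := Ideal.exists_le_maximal _ hann
  have hQP : (⊤ : Submodule R (M ⧸ N)) ≤ P • ⊤ := by
    intro x _
    obtain ⟨m, rfl⟩ := Submodule.Quotient.mk_surjective N x
    have hm : m ∈ N ⊔ P • (⊤ : Submodule R M) := by
      rw [hNP ⟨P, hPmax⟩]; trivial
    obtain ⟨a, ha, c, hc, rfl⟩ := Submodule.mem_sup.mp hm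
    rw [Submodule.Quotient.mk_add, (Submodule.Quotient.mk_eq_zero N).mpr ha, zero_add]
    have : (Submodule.Quotient.mk c : M ⧸ N) ∈ (P • (⊤ : Submodule R M)).map N.mkQ :=
      ⟨c, hc, rfl⟩
    rw [Submodule.map_smul''] at this
    exact (smul_mono_right P (le_top : Submodule.map N.mkQ ⊤ ≤ ⊤) : _ ≤ _) this
  obtain ⟨r, hr1, hr2⟩ := Submodule.exists_sub_one_mem_and_smul_eq_zero_of_fg_of_le_smul P
    (⊤ : Submodule R (M ⧸ N)) (Module.Finite.fg_top) hQP
  have hrann : r ∈ Module.annihilator R (M ⧸ N) := by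
    rw [Module.mem_annihilator]
    exact fun x => hr2 x trivial
  have hrP : r ∈ P := hP hrann
  have : (1 : R) ∈ P := by
    have := P.sub_mem hrP hr1
    rwa [sub_sub_cancel] at this
  exact hPmax.ne_top ((Ideal.eq_top_iff_one _).mpr this)

end SemilocalSpan

section Nakayama

/-- Nakayama: if `I = L + I²` with `L ≤ I` and `I` finitely generated, some `g ≡ 1 mod I`
multiplies `I` into `L`. -/
theorem exists_mul_mem_of_le_sup_sq {P : Type*} [CommRing P] (I L : Ideal P) (hI : I.FG)
    (h : I ≤ L ⊔ I * I) :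
    ∃ g : P, g - 1 ∈ I ∧ ∀ y ∈ I, g * y ∈ L := by
  let N : Submodule P (P ⧸ L) := Submodule.map L.mkQ I
  have hN : N.FG := Submodule.FG.map _ hI
  have hle : N ≤ I • N := by
    have h1 : N ≤ Submodule.map L.mkQ (L ⊔ I * I) := Submodule.map_mono h
    refine h1.trans ?_
    rw [Submodule.map_sup, ← smul_eq_mul, Submodule.map_smul'']
    have h2 : Submodule.map L.mkQ L = ⊥ := Submodule.mkQ_map_self L
    rw [h2, bot_sup_eq]
  obtain ⟨r, hr1, hr2⟩ :=
    Submodule.exists_sub_one_mem_and_smul_eq_zero_of_fg_of_le_smul I N hN hle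
  refine ⟨r, hr1, fun y hy => ?_⟩
  have h1 : r • (L.mkQ y) = 0 := hr2 _ ⟨y, hy, rfl⟩
  rw [← map_smul, smul_eq_mul] at h1
  exact (Submodule.Quotient.mk_eq_zero L).mp h1

end Nakayama

section Semilocal

/-- A finite algebra over a local ring is semilocal. -/
theorem finite_maximalSpectrum_of_finite (A B : Type*) [CommRing A] [IsLocalRing A] [CommRing B]
    [Algebra A B] [Module.Finite A B] : Finite (MaximalSpectrum B) := by
  classical
  let m := IsLocalRing.maximalIdeal A
  let J : Ideal B := m.map (algebraMap A B)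
  letI : Field (A ⧸ m) := Ideal.Quotient.field m
  haveI : Module.Finite A (B ⧸ J) :=
    Module.Finite.of_surjective (Ideal.Quotient.mkₐ A J).toLinearMap Ideal.Quotient.mk_surjective
  haveI : Module.Finite (A ⧸ m) (B ⧸ J) := Module.Finite.of_restrictScalars_finite A _ _
  haveI : IsArtinianRing (B ⧸ J) := IsArtinianRing.of_finite (A ⧸ m) (B ⧸ J)
  haveI : Algebra.IsIntegral A B := Algebra.IsIntegral.of_finite A B
  have hJ : ∀ 𝔫 : MaximalSpectrum B, J ≤ 𝔫.asIdeal := by
    intro 𝔫
    rw [Ideal.map_le_iff_le_comap]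
    haveI := 𝔫.isMaximal
    haveI : (𝔫.asIdeal.comap (algebraMap A B)).IsMaximal :=
      Ideal.isMaximal_comap_of_isIntegral_of_isMaximal 𝔫.asIdeal
    exact (IsLocalRing.eq_maximalIdeal this).ge
  have hker : RingHom.ker (Ideal.Quotient.mk J) = J := Ideal.mk_ker
  let F : MaximalSpectrum B → MaximalSpectrum (B ⧸ J) := fun 𝔫 =>
    ⟨𝔫.asIdeal.map (Ideal.Quotient.mk J),
      haveI := 𝔫.isMaximal
      Ideal.IsMaximal.map_of_surjective_of_ker_le Ideal.Quotient.mk_surjective
        (hker.le.trans (hJ 𝔫))⟩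
  refine Finite.of_injective F ?_
  intro 𝔫 𝔫' h
  have h1 : 𝔫.asIdeal.map (Ideal.Quotient.mk J) = 𝔫'.asIdeal.map (Ideal.Quotient.mk J) :=
    congrArg MaximalSpectrum.asIdeal h
  have h2 := congrArg (Ideal.comap (Ideal.Quotient.mk J)) h1
  rw [Ideal.comap_map_of_surjective _ Ideal.Quotient.mk_surjective,
    Ideal.comap_map_of_surjective _ Ideal.Quotient.mk_surjective, ← RingHom.ker_eq_comap_bot,
    hker, sup_of_le_left (hJ 𝔫), sup_of_le_left (hJ 𝔫')] at h2
  exact MaximalSpectrum.ext h2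

end Semilocal

section Square

variable {A B : Type u} [CommRing A] [CommRing B] [Algebra A B]

/-- If the kernel `I` of `A[x_1..x_n] → B` is generated by `f_1..f_n` up to an element `g ≡ 1 mod I`,
then `B ≅ A[x_0..x_n]/(x_0 g - 1, f_1, …, f_n)`. -/
theorem exists_algEquiv_square (n : ℕ)
    (φ : MvPolynomial (Fin n) A →ₐ[A] B) (hφ : Function.Surjective φ)
    (f : Fin n → MvPolynomial (Fin n) A) (hf : ∀ i, φ (f i) = 0)
    (g : MvPolynomial (Fin n) A) (hg1 : φ g = 1)
    (hg : ∀ y, φ y = 0 → g * y ∈ Ideal.span (Set.range f)) :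
    ∃ F : Fin (n + 1) → MvPolynomial (Fin (n + 1)) A,
      Nonempty (B ≃ₐ[A] MvPolynomial (Fin (n + 1)) A ⧸ Ideal.span (Set.range F)) := by
  classical
  let ι : MvPolynomial (Fin n) A →ₐ[A] MvPolynomial (Fin (n + 1)) A := rename Fin.succ
  let F : Fin (n + 1) → MvPolynomial (Fin (n + 1)) A :=
    Fin.cons (X 0 * ι g - 1) (fun i => ι (f i))
  let J : Ideal (MvPolynomial (Fin (n + 1)) A) := Ideal.span (Set.range F)
  let ψ : MvPolynomial (Fin (n + 1)) A →ₐ[A] B :=
    aeval (Fin.cons (1 : B) (fun i => φ (X i)) : Fin (n + 1) → B)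
  let θ : MvPolynomial (Fin (n + 1)) A →ₐ[A] MvPolynomial (Fin n) A :=
    aeval (Fin.cons (1 : MvPolynomial (Fin n) A) (fun i => X i) :
      Fin (n + 1) → MvPolynomial (Fin n) A)
  let π : MvPolynomial (Fin (n + 1)) A →ₐ[A] MvPolynomial (Fin (n + 1)) A ⧸ J :=
    Ideal.Quotient.mkₐ A J
  have hψθ : ψ = φ.comp θ := by
    apply MvPolynomial.algHom_ext
    intro i
    refine Fin.cases ?_ (fun j => ?_) i
    · simp [ψ, θ]
    · simp [ψ, θ]
  have hψι : ∀ p, ψ (ι p) = φ p := by
    intro p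
    have : ψ.comp ι = φ := by
      apply MvPolynomial.algHom_ext
      intro i
      simp [ψ, ι]
    exact DFunLike.congr_fun this p
  have hψsurj : Function.Surjective ψ := by
    intro b
    obtain ⟨p, rfl⟩ := hφ b
    exact ⟨ι p, hψι p⟩
  have hFJ : ∀ i, F i ∈ J := fun i => Ideal.subset_span ⟨i, rfl⟩
  have hπ0 : π (X 0) * π (ι g) = 1 := by
    have h1 : π (X 0 * ι g - 1) = 0 := by
      have := hFJ 0
      simp only [F, Fin.cons_zero] at this
      exact Ideal.Quotient.eq_zero_iff_mem.mpr this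
    rw [map_sub, map_mul, map_one, sub_eq_zero] at h1
    exact h1
  have hπf : ∀ y ∈ Ideal.span (Set.range f), π (ι y) = 0 := by
    intro y hy
    induction hy using Submodule.span_induction with
    | mem x hx =>
      obtain ⟨i, rfl⟩ := hx
      have := hFJ i.succ
      simp only [F, Fin.cons_succ] at this
      exact Ideal.Quotient.eq_zero_iff_mem.mpr this
    | zero => simp
    | add x y _ _ hx hy => rw [map_add, map_add, hx, hy, add_zero]
    | smul a x _ hx => rw [smul_eq_mul, map_mul, map_mul, hx, mul_zero]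
  have claim1 : ∀ a, φ a = 0 → π (ι a) = 0 := by
    intro a ha
    have h1 : π (ι g) * π (ι a) = 0 := by
      rw [← map_mul, ← map_mul]
      exact hπf _ (hg a ha)
    calc π (ι a) = (π (X 0) * π (ι g)) * π (ι a) := by rw [hπ0, one_mul]
      _ = π (X 0) * (π (ι g) * π (ι a)) := by ring
      _ = 0 := by rw [h1, mul_zero]
  have claim2 : π (X 0) = 1 := by
    have h1 : π (ι g) = 1 := by
      have h2 : π (ι (g - 1)) = 0 := claim1 _ (by rw [map_sub, hg1, map_one, sub_self])
      rw [map_sub, map_sub, map_one, map_one, sub_eq_zero] at h2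
      exact h2
    rw [h1, mul_one] at hπ0
    exact hπ0
  have hπθ : π = (π.comp ι).comp θ := by
    apply MvPolynomial.algHom_ext
    intro i
    refine Fin.cases ?_ (fun j => ?_) i
    · simp [θ, claim2]
    · simp [θ, ι]
  have hker : RingHom.ker ψ.toRingHom = J := by
    apply le_antisymm
    · intro h hh
      have h1 : φ (θ h) = 0 := by
        have : ψ h = 0 := hh
        rwa [hψθ] at this
      have h2 : π h = 0 := by
        rw [hπθ]
        exact claim1 _ h1
      exact Ideal.Quotient.eq_zero_iff_mem.mp h2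
    · rw [Ideal.span_le]
      rintro _ ⟨i, rfl⟩
      show ψ (F i) = 0
      refine Fin.cases ?_ (fun j => ?_) i
      · simp only [F, Fin.cons_zero]
        rw [map_sub, map_mul, map_one, hψι, hg1]
        simp [ψ]
      · simp only [F, Fin.cons_succ]
        rw [hψι, hf]
  refine ⟨F, ⟨?_⟩⟩
  exact ((Ideal.quotientKerAlgEquivOfSurjective hψsurj).symm.trans
    (Ideal.quotientEquivAlgOfEq A hker))

end Square

section LocalGens

open RingTheory.Sequence

variable (A : Type u) [CommRing A] (n : ℕ)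

local notation "P" => MvPolynomial (Fin n) A

theorem ringKrullDim_fibLocRing_le (𝔮 : Ideal P) [𝔮.IsPrime] :
    ringKrullDim (EGA4.FibLocRing A P 𝔮) ≤ (n : WithBot ℕ∞) := by
  obtain ⟨q', hq', ⟨e⟩⟩ :=
    Groth.Agent.Lib.Helper29.exists_fiber_prime_equiv_fibLocRing A P 𝔮
  rw [← ringKrullDim_eq_of_ringEquiv e,
    IsLocalization.AtPrime.ringKrullDim_eq_height q' (Localization.AtPrime q')]
  refine (Ideal.height_le_ringKrullDim_of_ne_top hq'.ne_top).trans ?_
  rw [ringKrullDim_eq_of_ringEquiv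
    (MvPolynomial.algebraTensorAlgEquiv A (𝔮.under A).ResidueField (σ := Fin n)).toRingEquiv,
    MvPolynomial.ringKrullDim_of_isNoetherianRing, ringKrullDim_eq_zero_of_field]
  simp

/-- Near any prime `𝔮 ⊇ I`, an ideal `I ⊆ A[x_1..x_n]` with flat quotient and flat conormal module
is generated by `n` elements. -/
theorem exists_local_generators (I : Ideal P) (hI : I.FG) (𝔮 : Ideal P) [𝔮.IsPrime] (hIq : I ≤ 𝔮)
    [Module.Flat A (P ⧸ I)] [Module.Flat (P ⧸ I) I.Cotangent] :
    ∃ G : Fin n → P, (∀ i, G i ∈ I) ∧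
      ∃ g : P, g ∉ 𝔮 ∧ ∀ y ∈ I, g * y ∈ Ideal.span (Set.range G) := by
  classical
  haveI := Groth.Agent.Lib.Helper94.LciMain.isRegularLocalRing_fibLocRing A n 𝔮
  obtain ⟨c, G, hGI, hreg, g, hg, hgI⟩ :=
    Groth.Agent.Lib.Helper94.LocGen.exists_fibrewise_regular_generators (A := A) 𝔮 I hI hIq
  have hdim := ringKrullDim_add_length_eq_ringKrullDim_of_isRegular _ hreg
  have hcn : c ≤ n := by
    have h1 := ringKrullDim_fibLocRing_le A n 𝔮
    rw [← hdim] at h1
    simp only [List.length_map, List.length_ofFn] at h1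
    haveI : Nontrivial (EGA4.FibLocRing A P 𝔮 ⧸ Ideal.ofList
        ((List.ofFn G).map (algebraMap P (EGA4.FibLocRing A P 𝔮)))) := by
      rw [Ideal.Quotient.nontrivial_iff]
      intro h
      apply hreg.2
      rw [h]
      simp
    have h2 : (0 : WithBot ℕ∞) ≤ ringKrullDim (EGA4.FibLocRing A P 𝔮 ⧸ Ideal.ofList
        ((List.ofFn G).map (algebraMap P (EGA4.FibLocRing A P 𝔮)))) :=
      ringKrullDim_nonneg_of_nontrivial
    have h3 : ((c : ℕ) : WithBot ℕ∞) ≤ (n : WithBot ℕ∞) := by
      calc ((c : ℕ) : WithBot ℕ∞) = 0 + (c : WithBot ℕ∞) := by rw [zero_add]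
        _ ≤ _ := add_le_add_left h2 _
        _ ≤ _ := h1
    exact_mod_cast h3
  refine ⟨fun i => if h : (i : ℕ) < c then G ⟨i, h⟩ else 0, ?_, g, hg, ?_⟩
  · intro i
    by_cases h : (i : ℕ) < c
    · simp only [dif_pos h]; exact hGI _
    · simp only [dif_neg h]; exact I.zero_mem
  · intro y hy
    refine Ideal.span_mono ?_ (hgI y hy)
    rintro _ ⟨j, rfl⟩
    refine ⟨⟨j, lt_of_lt_of_le j.2 hcn⟩, ?_⟩
    simp only [dif_pos j.2]

end LocalGens

end Groth.Agent.Lib.Helper94.FinSyntSquare
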