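import Mathlib
import Groth.Prelude.Def_Disc
import Groth.Prelude.Def_CAlg
import Groth.Agent.Lib.Helper24.GorenArtin
import Groth.Agent.Lib.Helper24.GorenType
import Groth.Agent.Lib.Helper94.FinSyntSquare

/-!
# Finite-dimensional algebras over a field: Gorenstein iff `ω = Hom_k(C, k)` is free of rank one
(helper94)

* `SocSimple 𝔪`: the annihilator of `𝔪` is non-zero and generated by each of its non-zero elements.
* `isGorensteinLocalRing_localization_iff`: for an Artinian ring `C` and a maximal ideal `𝔪`,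
  `C_𝔪` is Gorenstein iff `SocSimple 𝔪`.
* `exists_generator`, `socSimple_of_generator`: for a finite-dimensional `k`-algebra `C`, all socles
  are simple iff `ω_{C/k}` is generated by one element `φ₀` with `c ↦ c • φ₀` bijective.
* `isGorensteinRing_iff_omega`: `C` Gorenstein iff `ω_{C/k} ≃ C`.
-/

set_option autoImplicit false
universe u

namespace Groth.Agent.Lib.Helper94.OmegaGor

open IsLocalRing

section Socle

variable {C : Type u} [CommRing C]

/-- The socle condition at an ideal `𝔪`: the annihilator of `𝔪` is non-zero and every non-zero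
element of it generates it. -/
def SocSimple (𝔪 : Ideal C) : Prop :=
  (∃ t : C, t ≠ 0 ∧ ∀ m ∈ 𝔪, m * t = 0) ∧
  ∀ c t : C, c ≠ 0 → (∀ m ∈ 𝔪, m * c = 0) → (∀ m ∈ 𝔪, m * t = 0) → ∃ x, x * c = t

/-- A zero-dimensional Noetherian local ring is Gorenstein iff its socle is simple. -/
theorem isGorensteinLocalRing_iff_socSimple (R : Type u) [CommRing R] [IsLocalRing R]
    [IsNoetherianRing R] (hdim : ringKrullDim R = 0) :
    LocCoh.IsGorensteinLocalRing R ↔ SocSimple (maximalIdeal R) := by
  rw [Groth.Agent.Lib.Helper24.isGorensteinLocalRing_iff_length_hom_of_dim_zero R hdim]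
  have e := Groth.Agent.Lib.Helper24.homQuotEquivTorsionBySet (maximalIdeal R) R
  have h1 : Module.length R (ResidueField R →ₗ[R] R) =
      Module.length R (Submodule.torsionBySet R R (maximalIdeal R : Set R)) := e.length_eq
  rw [h1, Module.length_eq_one_iff, isSimpleModule_iff_toSpanSingleton_surjective]
  have hmem : ∀ x : R, x ∈ Submodule.torsionBySet R R (maximalIdeal R : Set R) ↔
      ∀ m ∈ maximalIdeal R, m * x = 0 := by
    intro x
    rw [Submodule.mem_torsionBySet_iff]
    constructor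
    · intro h m hm
      exact h ⟨m, hm⟩
    · intro h a
      exact h a.1 a.2
  constructor
  · rintro ⟨hnt, hs⟩
    refine ⟨?_, ?_⟩
    · obtain ⟨t, ht⟩ := exists_ne (0 : Submodule.torsionBySet R R (maximalIdeal R : Set R))
      refine ⟨t.1, fun h => ht (Subtype.ext h), (hmem t.1).mp t.2⟩
    · intro c t hc hcT htT
      have hc' : (⟨c, (hmem c).mpr hcT⟩ :
          Submodule.torsionBySet R R (maximalIdeal R : Set R)) ≠ 0 := by
        intro h
        exact hc (congrArg Subtype.val h)
      obtain ⟨x, hx⟩ := hs _ hc' ⟨t, (hmem t).mpr htT⟩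
      refine ⟨x, ?_⟩
      have := congrArg Subtype.val hx
      simpa using this
  · rintro ⟨⟨t, ht0, htT⟩, hs⟩
    refine ⟨⟨⟨⟨t, (hmem t).mpr htT⟩, 0, fun h => ht0 (congrArg Subtype.val h)⟩⟩, ?_⟩
    intro c hc t
    have hc0 : c.1 ≠ 0 := fun h => hc (Subtype.ext h)
    obtain ⟨x, hx⟩ := hs c.1 t.1 hc0 ((hmem c.1).mp c.2) ((hmem t.1).mp t.2)
    refine ⟨x, ?_⟩
    apply Subtype.ext
    simpa using hx

/-- A finitely generated ideal killed by the localization map is killed by a single element of
the submonoid. -/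
theorem exists_mul_eq_zero_of_fg (S : Submonoid C) (R : Type*) [CommRing R] [Algebra C R]
    [IsLocalization S R] (K : Ideal C) (hK : K.FG) (h : ∀ x ∈ K, algebraMap C R x = 0) :
    ∃ s ∈ S, ∀ x ∈ K, s * x = 0 := by
  classical
  obtain ⟨G, hG⟩ := hK
  have h1 : ∀ g : C, ∃ u : C, g ∈ G → u ∈ S ∧ u * g = 0 := by
    intro g
    by_cases hg : g ∈ G
    · have hgK : g ∈ K := hG ▸ Submodule.subset_span hg
      obtain ⟨s, hs⟩ := (IsLocalization.map_eq_zero_iff S R g).mp (h g hgK)
      exact ⟨s.1, fun _ => ⟨s.2, hs⟩⟩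
    · exact ⟨1, fun h => absurd h hg⟩
  choose u hu using h1
  refine ⟨∏ g ∈ G, u g, Submonoid.prod_mem S (fun g hg => (hu g hg).1), ?_⟩
  intro x hx
  rw [← hG] at hx
  induction hx using Submodule.span_induction with
  | mem g hg =>
    obtain ⟨w, hw⟩ := Finset.dvd_prod_of_mem u hg
    rw [hw, mul_comm (u g) w, mul_assoc, (hu g hg).2, mul_zero]
  | zero => rw [mul_zero]
  | add x y _ _ hx hy => rw [mul_add, hx, hy, add_zero]
  | smul a x _ hx => rw [smul_eq_mul, mul_left_comm, hx, mul_zero]

variable [IsArtinianRing C] (𝔪 : Ideal C) [𝔪.IsMaximal]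

theorem socSimple_localization_iff :
    SocSimple (maximalIdeal (Localization.AtPrime 𝔪)) ↔ SocSimple 𝔪 := by
  set R := Localization.AtPrime 𝔪
  have ha : Function.Surjective (algebraMap C R) :=
    IsArtinianRing.localization_surjective 𝔪.primeCompl R
  have hmem : ∀ x : C, algebraMap C R x ∈ maximalIdeal R ↔ x ∈ 𝔪 :=
    fun x => IsLocalization.AtPrime.to_map_mem_maximal_iff R 𝔪 x
  -- (i)
  have hi : ∀ c : C, (∀ m ∈ 𝔪, m * c = 0) →
      ∀ y ∈ maximalIdeal R, y * algebraMap C R c = 0 := by
    intro c hc y hy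
    obtain ⟨m, rfl⟩ := ha y
    rw [← map_mul, hc m ((hmem m).mp hy), map_zero]
  -- (ii)
  have hii : ∀ c : C, (∀ m ∈ 𝔪, m * c = 0) → algebraMap C R c = 0 → c = 0 := by
    intro c hc h0
    obtain ⟨s, hs⟩ := (IsLocalization.map_eq_zero_iff 𝔪.primeCompl R c).mp h0
    obtain ⟨y, m, hm, hym⟩ := Ideal.IsMaximal.exists_inv (I := 𝔪) inferInstance s.2
    calc c = (y * s + m) * c := by rw [hym, one_mul]
      _ = y * (s * c) + m * c := by ring
      _ = 0 := by rw [hs, hc m hm, mul_zero, add_zero]
  -- uniform killer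
  obtain ⟨s₀, hs₀, hs₀K⟩ := exists_mul_eq_zero_of_fg 𝔪.primeCompl R (RingHom.ker (algebraMap C R))
    (IsNoetherian.noetherian _) (fun x hx => hx)
  -- (iii)
  have hiii : ∀ r : R, (∀ y ∈ maximalIdeal R, y * r = 0) →
      ∃ c : C, (∀ m ∈ 𝔪, m * c = 0) ∧ algebraMap C R c = r := by
    intro r hr
    obtain ⟨c₀, rfl⟩ := ha r
    have hu : IsUnit (algebraMap C R s₀) := IsLocalization.map_units R ⟨s₀, hs₀⟩
    obtain ⟨y, hy⟩ := ha (↑hu.unit⁻¹ : R)
    refine ⟨y * (s₀ * c₀), ?_, ?_⟩
    · intro m hm
      have h1 : algebraMap C R (m * c₀) = 0 := by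
        rw [map_mul]
        exact hr _ ((hmem m).mpr hm)
      have h2 := hs₀K (m * c₀) h1
      calc m * (y * (s₀ * c₀)) = y * (s₀ * (m * c₀)) := by ring
        _ = 0 := by rw [h2, mul_zero]
    · rw [map_mul, map_mul, hy, ← mul_assoc, IsUnit.val_inv_mul, one_mul]
  constructor
  · rintro ⟨⟨t', ht'0, ht'T⟩, hs⟩
    refine ⟨?_, ?_⟩
    · obtain ⟨t, htT, rfl⟩ := hiii t' ht'T
      exact ⟨t, fun h => ht'0 (by rw [h, map_zero]), htT⟩
    · intro c t hc hcT htT
      have hc' : algebraMap C R c ≠ 0 := fun h => hc (hii c hcT h)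
      obtain ⟨y, hy⟩ := hs _ _ hc' (hi c hcT) (hi t htT)
      obtain ⟨x, rfl⟩ := ha y
      refine ⟨x, ?_⟩
      have h0 : algebraMap C R (x * c - t) = 0 := by
        rw [map_sub, map_mul, hy, sub_self]
      have hT : ∀ m ∈ 𝔪, m * (x * c - t) = 0 := by
        intro m hm
        calc m * (x * c - t) = x * (m * c) - m * t := by ring
          _ = 0 := by rw [hcT m hm, htT m hm, mul_zero, sub_zero]
      exact sub_eq_zero.mp (hii _ hT h0)
  · rintro ⟨⟨t, ht0, htT⟩, hs⟩
    refine ⟨⟨algebraMap C R t, fun h => ht0 (hii t htT h), hi t htT⟩, ?_⟩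
    intro c' t' hc' hc'T ht'T
    obtain ⟨c, hcT, rfl⟩ := hiii c' hc'T
    obtain ⟨t, htT, rfl⟩ := hiii t' ht'T
    have hc0 : c ≠ 0 := fun h => hc' (by rw [h, map_zero])
    obtain ⟨x, hx⟩ := hs c t hc0 hcT htT
    exact ⟨algebraMap C R x, by rw [← map_mul, hx]⟩


/-- For an Artinian ring, the localization at a maximal ideal is Gorenstein iff the socle at that
ideal is simple. -/
theorem isGorensteinLocalRing_localization_iff :
    LocCoh.IsGorensteinLocalRing (Localization.AtPrime 𝔪) ↔ SocSimple 𝔪 := by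
  have hdim : ringKrullDim (Localization.AtPrime 𝔪) = 0 :=
    ringKrullDimZero_iff_ringKrullDim_eq_zero.mp inferInstance
  rw [isGorensteinLocalRing_iff_socSimple _ hdim, socSimple_localization_iff]

end Socle

section Field

variable (k : Type u) [Field k] (C : Type u) [CommRing C] [Algebra k C]

theorem algebraMap_smul_toLinearMap (a : k) (φ : Disc.Omega k C) :
    (algebraMap k C a • φ).toLinearMap = a • φ.toLinearMap := by
  apply LinearMap.ext
  intro x
  rw [Disc.Omega.smul_toLinearMap_apply, ← Algebra.smul_def, map_smul]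
  rfl

/-- the `k`-module structure on `ω` by restriction of scalars -/
@[instance_reducible]
noncomputable def omegaModule : Module k (Disc.Omega k C) :=
  Module.compHom (Disc.Omega k C) (algebraMap k C)

attribute [local instance] omegaModule

instance omegaTower : IsScalarTower k C (Disc.Omega k C) :=
  ⟨fun a c φ => by
    change (a • c) • φ = algebraMap k C a • c • φ
    rw [Algebra.smul_def, mul_smul]⟩

/-- `ω ≃ Dual` as `k`-modules. -/
noncomputable def omegaEquivDual : Disc.Omega k C ≃ₗ[k] Module.Dual k C where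
  toFun φ := φ.toLinearMap
  invFun χ := ⟨χ⟩
  map_add' _ _ := rfl
  map_smul' a φ := algebraMap_smul_toLinearMap k C a φ
  left_inv _ := rfl
  right_inv _ := rfl

variable [Module.Finite k C]

theorem finite_omega : Module.Finite C (Disc.Omega k C) := by
  haveI : Module.Finite k (Disc.Omega k C) :=
    Module.Finite.equiv (omegaEquivDual k C).symm
  exact Module.Finite.of_restrictScalars_finite k C _

/-- the `k`-subspace of the dual attached to a `C`-submodule of `ω` -/
noncomputable def toSub (N : Submodule C (Disc.Omega k C)) : Submodule k (Module.Dual k C) where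
  carrier := {χ | (⟨χ⟩ : Disc.Omega k C) ∈ N}
  add_mem' := fun {a b} ha hb => N.add_mem ha hb
  zero_mem' := N.zero_mem
  smul_mem' := fun a χ hχ => by
    have h1 : (⟨a • χ⟩ : Disc.Omega k C) = algebraMap k C a • ⟨χ⟩ := by
      apply Disc.Omega.ext
      rw [algebraMap_smul_toLinearMap]
    change (⟨a • χ⟩ : Disc.Omega k C) ∈ N
    rw [h1]
    exact N.smul_mem _ hχ

/-- A proper `C`-submodule of `ω` is killed by a non-zero element of `C`. -/
theorem exists_ne_zero_of_ne_top (N : Submodule C (Disc.Omega k C)) (hN : N ≠ ⊤) :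
    ∃ c : C, c ≠ 0 ∧ ∀ φ ∈ N, φ.toLinearMap c = 0 := by
  have hW : toSub k C N ≠ ⊤ := by
    intro h
    apply hN
    rw [eq_top_iff]
    intro φ _
    have : φ.toLinearMap ∈ toSub k C N := by rw [h]; trivial
    exact this
  have hco : (toSub k C N).dualCoannihilator ≠ ⊥ := by
    intro h
    apply hW
    have h2 := Subspace.dualCoannihilator_dualAnnihilator_eq (W := toSub k C N)
    rw [h, Submodule.dualAnnihilator_bot] at h2
    exact h2.symm
  obtain ⟨c, hc, hc0⟩ := Submodule.exists_mem_ne_zero_of_ne_bot hco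
  refine ⟨c, hc0, fun φ hφ => ?_⟩
  rw [Submodule.mem_dualCoannihilator] at hc
  exact hc φ.toLinearMap hφ

/-- If all socles are simple, `ω` is free of rank one. -/
theorem exists_generator (h : ∀ 𝔪 : Ideal C, 𝔪.IsMaximal → SocSimple 𝔪) :
    ∃ φ₀ : Disc.Omega k C, Function.Bijective (fun c : C => c • φ₀) := by
  haveI : IsArtinianRing C := IsArtinianRing.of_finite k C
  haveI : Module.Finite C (Disc.Omega k C) := finite_omega k C
  have hloc : ∀ P : MaximalSpectrum C, ∃ v : Fin 1 → Disc.Omega k C,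
      Submodule.span C (Set.range v) ⊔ P.asIdeal • (⊤ : Submodule C (Disc.Omega k C)) = ⊤ := by
    intro P
    obtain ⟨⟨t, ht0, htT⟩, hS⟩ := h P.asIdeal P.isMaximal
    obtain ⟨ψ, hψ⟩ : ∃ ψ : Module.Dual k C, ψ t ≠ 0 := by
      by_contra hne
      push Not at hne
      exact ht0 ((Module.forall_dual_apply_eq_zero_iff k t).mp hne)
    refine ⟨fun _ => ⟨ψ⟩, ?_⟩
    by_contra hN
    obtain ⟨c, hc0, hc⟩ := exists_ne_zero_of_ne_top k C _ hN
    have hcT : ∀ m ∈ P.asIdeal, m * c = 0 := by
      intro m hm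
      apply (Module.forall_dual_apply_eq_zero_iff k (m * c)).mp
      intro χ
      have h1 : m • (⟨χ⟩ : Disc.Omega k C) ∈
          Submodule.span C (Set.range fun _ : Fin 1 => (⟨ψ⟩ : Disc.Omega k C)) ⊔
            P.asIdeal • (⊤ : Submodule C (Disc.Omega k C)) :=
        Submodule.mem_sup_right (Submodule.smul_mem_smul hm trivial)
      exact hc _ h1
    obtain ⟨x, hx⟩ := hS c t hc0 hcT htT
    have h2 : x • (⟨ψ⟩ : Disc.Omega k C) ∈
        Submodule.span C (Set.range fun _ : Fin 1 => (⟨ψ⟩ : Disc.Omega k C)) ⊔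
          P.asIdeal • (⊤ : Submodule C (Disc.Omega k C)) :=
      Submodule.mem_sup_left (Submodule.smul_mem _ _ (Submodule.subset_span ⟨0, rfl⟩))
    have h3 := hc _ h2
    rw [Disc.Omega.smul_toLinearMap_apply, hx] at h3
    exact hψ h3
  obtain ⟨v, hv⟩ := Groth.Agent.Lib.Helper94.FinSyntSquare.exists_span_eq_top_of_forall_maximal
    1 hloc
  refine ⟨v 0, ?_⟩
  have hsurj : Function.Surjective (fun c : C => c • v 0) := by
    intro φ
    have h1 : φ ∈ Submodule.span C (Set.range v) := by rw [hv]; trivial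
    have h2 : Set.range v = {v 0} := by
      ext y
      constructor
      · rintro ⟨i, rfl⟩
        rw [Subsingleton.elim i 0]
        rfl
      · rintro rfl
        exact ⟨0, rfl⟩
    rw [h2, Submodule.mem_span_singleton] at h1
    exact h1
  refine ⟨?_, hsurj⟩
  let L : C →ₗ[k] Module.Dual k C :=
    { toFun := fun c => (c • v 0).toLinearMap
      map_add' := fun a b => by rw [add_smul]; rfl
      map_smul' := fun a c => by
        rw [RingHom.id_apply, Algebra.smul_def, mul_smul, algebraMap_smul_toLinearMap] }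
  have hL : Function.Surjective L := by
    intro χ
    obtain ⟨c, hc⟩ := hsurj ⟨χ⟩
    exact ⟨c, congrArg Disc.Omega.toLinearMap hc⟩
  have hLi : Function.Injective L :=
    (LinearMap.injective_iff_surjective_of_finrank_eq_finrank
      (Subspace.dual_finrank_eq (K := k) (V := C)).symm).mpr hL
  intro a b hab
  exact hLi (congrArg Disc.Omega.toLinearMap hab)

omit [Module.Finite k C] in
/-- If `ω` is free of rank one, all socles are simple. -/
theorem socSimple_of_generator (φ₀ : Disc.Omega k C)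
    (hφ₀ : Function.Bijective (fun c : C => c • φ₀)) (𝔪 : Ideal C) [h𝔪 : 𝔪.IsMaximal] :
    SocSimple 𝔪 := by
  -- (a)
  have ha : ∀ ψ : Module.Dual k C, ∃ x : C, ∀ y, ψ y = φ₀.toLinearMap (x * y) := by
    intro ψ
    obtain ⟨x, hx⟩ := hφ₀.2 ⟨ψ⟩
    refine ⟨x, fun y => ?_⟩
    have := congrArg (fun φ : Disc.Omega k C => φ.toLinearMap y) hx
    simpa using this.symm
  -- (b)
  have hb : ∀ x : C, (∀ z, φ₀.toLinearMap (x * z) = 0) → x = 0 := by
    intro x hx
    apply hφ₀.1
    change x • φ₀ = (0 : C) • φ₀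
    rw [zero_smul]
    apply Disc.Omega.ext
    apply LinearMap.ext
    intro z
    rw [Disc.Omega.smul_toLinearMap_apply, hx z]
    rfl
  refine ⟨?_, ?_⟩
  · have hlt : (𝔪.restrictScalars k) < ⊤ := by
      rw [lt_top_iff_ne_top]
      intro h
      apply h𝔪.ne_top
      rw [eq_top_iff]
      intro x _
      have : x ∈ 𝔪.restrictScalars k := by rw [h]; trivial
      exact this
    obtain ⟨ψ, hψ0, hψ⟩ := Submodule.exists_le_ker_of_lt_top _ hlt
    obtain ⟨x, hx⟩ := ha ψ
    refine ⟨x, ?_, ?_⟩
    · rintro rfl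
      apply hψ0
      apply LinearMap.ext
      intro y
      rw [hx y, zero_mul, map_zero]
      rfl
    · intro m hm
      apply hb
      intro z
      have h1 : m * z ∈ 𝔪.restrictScalars k := 𝔪.mul_mem_right z hm
      have h2 : ψ (m * z) = 0 := hψ h1
      rw [hx] at h2
      rw [← h2]
      congr 1
      ring
  · intro c t hc hcT htT
    by_contra hne
    have ht : t ∉ (Ideal.span {c}).restrictScalars k := by
      intro h
      apply hne
      obtain ⟨x, hx⟩ := Ideal.mem_span_singleton'.mp h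
      exact ⟨x, hx⟩
    obtain ⟨ψ, hψt, hψ⟩ := Submodule.exists_le_ker_of_notMem ht
    obtain ⟨x, hx⟩ := ha ψ
    have hxc : x * c = 0 := by
      apply hb
      intro z
      have h1 : z * c ∈ (Ideal.span {c}).restrictScalars k :=
        Ideal.mem_span_singleton'.mpr ⟨z, rfl⟩
      have h2 : ψ (z * c) = 0 := hψ h1
      rw [hx] at h2
      rw [← h2]
      congr 1
      ring
    -- the annihilator of `c` is `𝔪`
    let J : Ideal C := Ideal.span {c} |>.annihilator
    have hJ : ∀ y : C, y ∈ J ↔ y * c = 0 := by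
      intro y
      rw [Submodule.mem_annihilator_span_singleton]
      rfl
    have hle : 𝔪 ≤ J := fun m hm => (hJ m).mpr (hcT m hm)
    have hJtop : J ≠ ⊤ := by
      intro h
      have : (1 : C) ∈ J := by rw [h]; trivial
      rw [hJ, one_mul] at this
      exact hc this
    have hJm : 𝔪 = J := h𝔪.eq_of_le hJtop hle
    have hxm : x ∈ 𝔪 := by rw [hJm, hJ]; exact hxc
    apply hψt
    rw [hx, htT x hxm, map_zero]


/-- A finite-dimensional algebra over a field is Gorenstein iff `ω = Hom_k(C, k)` is free of rank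
one. -/
theorem isGorensteinRing_iff_omega :
    LocCoh.IsGorensteinRing C ↔ Nonempty (Disc.Omega k C ≃ₗ[C] C) := by
  haveI : IsArtinianRing C := IsArtinianRing.of_finite k C
  constructor
  · intro hG
    have h : ∀ 𝔪 : Ideal C, 𝔪.IsMaximal → SocSimple 𝔪 := by
      intro 𝔪 h𝔪
      haveI := h𝔪
      exact (isGorensteinLocalRing_localization_iff 𝔪).mp
        (hG.isGorensteinLocalRing_localization 𝔪)
    obtain ⟨φ₀, hφ₀⟩ := exists_generator k C h
    exact ⟨(LinearEquiv.ofBijective (LinearMap.toSpanSingleton C (Disc.Omega k C) φ₀) hφ₀).symm⟩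
  · rintro ⟨e⟩
    have hφ₀ : Function.Bijective (fun c : C => c • e.symm 1) := by
      have : (fun c : C => c • e.symm 1) = e.symm := by
        funext c
        rw [← map_smul, smul_eq_mul, mul_one]
      rw [this]
      exact e.symm.bijective
    refine { isGorensteinLocalRing_localization := ?_ }
    intro p hp
    haveI : p.IsMaximal := IsArtinianRing.isMaximal_of_isPrime p
    exact (isGorensteinLocalRing_localization_iff p).mpr
      (socSimple_of_generator k C _ hφ₀ p)

end Field

end Groth.Agent.Lib.Helper94.OmegaGor
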