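import Mathlib
import Groth.Agent.Lib.Helper35.NLPerf
import Groth.Agent.Lib.Helper35.TwoTermFlat
import Groth.Agent.Lib.Helper94.LciMain

/-!
# Helper94: tor amplitude `[-1,0]` of the naive cotangent complex ⇒ local complete intersection
-/

set_option autoImplicit false
universe u
open CategoryTheory CategoryTheory.Limits TensorProduct
attribute [local instance] HasDerivedCategory.standard

namespace Groth.Agent.Lib.Helper94.LciTAmp

open Groth.Agent.Lib.Helper35.TT Groth.Agent.Lib.Helper35.NLC Groth.Agent.Lib.Helper35.NLP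
  Groth.Agent.Lib.Helper35.TA Algebra

variable {A B : Type u} [CommRing A] [CommRing B] [Algebra A B]

/-- If the naive cotangent complex has tor amplitude in `[-1, 0]`, then the conormal module of
any finite presentation is flat. -/
theorem flat_cotangent_of_TAmp {n : ℕ} (f : MvPolynomial (Fin n) A →ₐ[A] B)
    (hf : Function.Surjective f)
    (h : DRing.HasTorAmplitudeIn B (-1) 0 (LCI.NL A B)) :
    Module.Flat B (Ef f hf).Cotangent := by
  obtain ⟨e⟩ := nonempty_NL_iso (Generators.ofAlgHom f hf)
  have hT : TAmp (-1) 0 (DRing.toD (nlCx (Ef f hf))) := TAmp.of_iso h e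
  have hv : DRing.VanishesOutside (nlCx (Ef f hf)) (-1) 0 := fun k hk =>
    isZero_dbl_X _ k (by omega) (by omega)
  have h0 : Module.Flat B ((nlCx (Ef f hf)).X 0) :=
    Module.Flat.of_linearEquiv (iso₀ (ModuleCat.ofHom (Ef f hf).cotangentComplex)).toLinearEquiv
  have h1 := flat_of_twoTerm_TAmp (nlCx (Ef f hf)) hv h0 hT
  exact Module.Flat.of_linearEquiv
    (iso₁ (ModuleCat.ofHom (Ef f hf).cotangentComplex)).symm.toLinearEquiv

/-- flatness of the conormal module of an extension, in terms of the kernel ideal. -/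
theorem flat_ker_cotangent (E : Algebra.Extension.{u} A B) [Module.Flat B E.Cotangent] :
    Module.Flat (E.Ring ⧸ E.ker) E.ker.Cotangent := by
  let e : (E.Ring ⧸ E.ker) ≃+* B :=
    RingHom.quotientKerEquivOfSurjective (f := algebraMap E.Ring B) E.algebraMap_surjective
  letI : Algebra (E.Ring ⧸ E.ker) B := e.toRingHom.toAlgebra
  haveI : Module.Flat (E.Ring ⧸ E.ker) B := RingHom.Flat.of_bijective e.bijective
  haveI : Module.Flat (E.Ring ⧸ E.ker) E.Cotangent :=
    Module.Flat.trans (E.Ring ⧸ E.ker) B E.Cotangent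
  let g : E.Cotangent ≃ₗ[E.Ring ⧸ E.ker] E.ker.Cotangent :=
    { toFun := Algebra.Extension.Cotangent.val
      invFun := Algebra.Extension.Cotangent.of
      map_add' := fun x y => rfl
      map_smul' := by
        intro r x
        obtain ⟨p, rfl⟩ := Ideal.Quotient.mk_surjective r
        have h1 : (Ideal.Quotient.mk E.ker p) • x = p • x := by
          show algebraMap (E.Ring ⧸ E.ker) B (Ideal.Quotient.mk E.ker p) • x =
            algebraMap E.Ring B p • x
          congr 1
        rw [h1, Algebra.Extension.Cotangent.val_smul', RingHom.id_apply,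
          ← Ideal.Quotient.algebraMap_eq, algebraMap_smul]
      left_inv := fun x => rfl
      right_inv := fun x => rfl }
  exact Module.Flat.of_linearEquiv g.symm

/-- **Tor amplitude `[-1,0]` ⇒ lci** for flat, finitely presented ring maps. -/
theorem isLCI_of_TAmp [Module.Flat A B] [Algebra.FinitePresentation A B]
    (h : DRing.HasTorAmplitudeIn B (-1) 0 (LCI.NL A B)) : LCI.IsLCI A B := by
  refine ⟨inferInstance, ?_⟩
  obtain ⟨n, f, hf⟩ := Algebra.FiniteType.iff_quotient_mvPolynomial''.mp
    (inferInstance : Algebra.FiniteType A B)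
  refine ⟨n, f, hf, ?_⟩
  have hfg : (RingHom.ker f.toRingHom).FG := Algebra.FinitePresentation.ker_fG_of_surjective f hf
  haveI := flat_cotangent_of_TAmp f hf h
  have hflat := flat_ker_cotangent (Ef f hf)
  have key : ∀ (I : Ideal (MvPolynomial (Fin n) A)), (Ef f hf).ker = I →
      Module.Flat (MvPolynomial (Fin n) A ⧸ I) I.Cotangent := by
    intro I hI
    subst hI
    exact hflat
  haveI := key _ (ker_Ef f hf)
  haveI : Module.Flat A (MvPolynomial (Fin n) A ⧸ RingHom.ker f.toRingHom) :=
    Module.Flat.of_linearEquiv (Ideal.quotientKerAlgEquivOfSurjective hf).toLinearEquiv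
  exact Groth.Agent.Lib.Helper94.LciMain.isKoszulRegularIdeal_of_flat_cotangent A n _ hfg

end Groth.Agent.Lib.Helper94.LciTAmp
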