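import Mathlib
import Groth.Agent.S9287
import Groth.Agent.S2234
import Groth.Agent.Lib.Helper82.RelGCIFlat
import Groth.Agent.Lib.Helper82.SyntLocal
import Groth.Agent.Lib.Helper94.LciTAmp
import Groth.Agent.Lib.Helper94.FinSyntSquare

/-!
# Helper94: a finite algebra over a local ring is syntomic iff it has a square presentation
`A[x_1..x_n]/(f_1..f_n)`.
-/

set_option autoImplicit false
universe u
open TensorProduct Function MvPolynomial
attribute [local instance] HasDerivedCategory.standard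

namespace Groth.Agent.Lib.Helper94.FinSyntMain

open Groth.Agent.Lib.Helper94.FinSyntSquare Groth.Agent.Lib.Helper94.LciTAmp
  Groth.Agent.Lib.Helper35.NLP

/-- the kernel-ideal form of the flatness of the conormal module -/
theorem flat_setup {A B : Type u} [CommRing A] [CommRing B] [Algebra A B]
    (h : Synt.IsSyntomic A B) (n : ℕ) (φ : MvPolynomial (Fin n) A →ₐ[A] B)
    (hφ : Function.Surjective φ) :
    (RingHom.ker φ.toRingHom).FG ∧
    Module.Flat A (MvPolynomial (Fin n) A ⧸ RingHom.ker φ.toRingHom) ∧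
    Module.Flat (MvPolynomial (Fin n) A ⧸ RingHom.ker φ.toRingHom)
      (RingHom.ker φ.toRingHom).Cotangent := by
  obtain ⟨hflat, hlci⟩ := (Groth.Agent.S9287.result A B).mp h
  haveI := hflat
  haveI : Algebra.FinitePresentation A B := h.2.1
  have hT : DRing.HasTorAmplitudeIn B (-1) 0 (LCI.NL A B) := Groth.Agent.S2234.result.mpr hlci
  have hfg : (RingHom.ker φ.toRingHom).FG :=
    Algebra.FinitePresentation.ker_fG_of_surjective φ hφ
  haveI := flat_cotangent_of_TAmp φ hφ hT
  have hflat' := flat_ker_cotangent (Ef φ hφ)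
  have key : ∀ (I : Ideal (MvPolynomial (Fin n) A)), (Ef φ hφ).ker = I →
      Module.Flat (MvPolynomial (Fin n) A ⧸ I) I.Cotangent := by
    intro I hI
    subst hI
    exact hflat'
  refine ⟨hfg, ?_, key _ (ker_Ef φ hφ)⟩
  exact Module.Flat.of_linearEquiv (Ideal.quotientKerAlgEquivOfSurjective hφ).toLinearEquiv

theorem forward (A B : Type u) [CommRing A] [IsLocalRing A] [CommRing B] [Algebra A B]
    [Module.Finite A B] (h : Synt.IsSyntomic A B) :
    ∃ (n : ℕ) (F : Fin n → MvPolynomial (Fin n) A),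
      Nonempty (B ≃ₐ[A] Synt.RelGCIRing A n n F) := by
  classical
  obtain ⟨n, φ, hφ⟩ := Algebra.FiniteType.iff_quotient_mvPolynomial''.mp
    (inferInstance : Algebra.FiniteType A B)
  obtain ⟨hfg, hfl1, hfl2⟩ := flat_setup h n φ hφ
  set I : Ideal (MvPolynomial (Fin n) A) := RingHom.ker φ.toRingHom with hIdef
  haveI := hfl1
  haveI := hfl2
  have hmemI : ∀ y, y ∈ I ↔ φ y = 0 := fun y => Iff.rfl
  -- `P ⧸ I` is semilocal
  haveI : Module.Finite A (MvPolynomial (Fin n) A ⧸ I) :=
    Module.Finite.equiv (Ideal.quotientKerAlgEquivOfSurjective hφ).toLinearEquiv.symm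
  haveI : Finite (MaximalSpectrum (MvPolynomial (Fin n) A ⧸ I)) :=
    finite_maximalSpectrum_of_finite A _
  haveI : Module.Finite (MvPolynomial (Fin n) A) I.Cotangent :=
    haveI : Module.Finite (MvPolynomial (Fin n) A) I := Module.Finite.iff_fg.mpr hfg
    Module.Finite.of_surjective I.toCotangent I.toCotangent_surjective
  haveI : Module.Finite (MvPolynomial (Fin n) A ⧸ I) I.Cotangent :=
    Module.Finite.of_restrictScalars_finite (MvPolynomial (Fin n) A) _ _
  -- generation of the conormal module by `n` elements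
  have hspan : ∃ v : Fin n → I.Cotangent,
      Submodule.span (MvPolynomial (Fin n) A ⧸ I) (Set.range v) = ⊤ := by
    apply exists_span_eq_top_of_forall_maximal
    intro 𝔫
    haveI := 𝔫.isMaximal
    set 𝔮 : Ideal (MvPolynomial (Fin n) A) := 𝔫.asIdeal.comap (Ideal.Quotient.mk I) with h𝔮
    haveI h𝔮max : 𝔮.IsMaximal :=
      Ideal.comap_isMaximal_of_surjective _ Ideal.Quotient.mk_surjective
    have hI𝔮 : I ≤ 𝔮 := by
      intro y hy
      show Ideal.Quotient.mk I y ∈ 𝔫.asIdeal
      rw [Ideal.Quotient.eq_zero_iff_mem.mpr hy]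
      exact 𝔫.asIdeal.zero_mem
    obtain ⟨G, hGI, g, hg, hgI⟩ := exists_local_generators A n I hfg 𝔮 hI𝔮
    obtain ⟨t, i, hi, hti⟩ := h𝔮max.exists_inv hg
    refine ⟨fun j => I.toCotangent ⟨G j, hGI j⟩, ?_⟩
    rw [eq_top_iff]
    intro x _
    obtain ⟨⟨y, hy⟩, rfl⟩ := I.toCotangent_surjective x
    -- `y = t * (g * y) + i * y`
    have hgy : g * y ∈ Ideal.span (Set.range G) := hgI y hy
    obtain ⟨c, hc⟩ := Ideal.mem_span_range_iff_exists_fun.mp hgy
    have hy1 : (⟨y, hy⟩ : I) = (∑ j, (t * c j) • (⟨G j, hGI j⟩ : I)) + i • (⟨y, hy⟩ : I) := by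
      apply Subtype.ext
      simp only [Submodule.coe_add, Submodule.coe_sum, Submodule.coe_smul, smul_eq_mul]
      have : ∑ j, t * c j * G j = t * (g * y) := by
        rw [← hc, Finset.mul_sum]
        exact Finset.sum_congr rfl fun j _ => by ring
      rw [this]
      calc y = (t * g + i) * y := by rw [hti, one_mul]
        _ = _ := by ring
    rw [hy1, map_add, map_sum]
    refine Submodule.add_mem_sup (Submodule.sum_mem _ fun j _ => ?_) ?_
    · rw [map_smul, ← algebraMap_smul (MvPolynomial (Fin n) A ⧸ I) (t * c j)]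
      exact Submodule.smul_mem _ _ (Submodule.subset_span ⟨j, rfl⟩)
    · rw [map_smul, ← algebraMap_smul (MvPolynomial (Fin n) A ⧸ I) i]
      exact Submodule.smul_mem_smul hi Submodule.mem_top
  obtain ⟨v, hv⟩ := hspan
  choose f hf using fun j => I.toCotangent_surjective (v j)
  -- `I = (f) + I²`
  have hle : I ≤ Ideal.span (Set.range fun j => (f j : MvPolynomial (Fin n) A)) ⊔ I * I := by
    intro y hy
    have h1 : I.toCotangent ⟨y, hy⟩ ∈
        Submodule.span (MvPolynomial (Fin n) A ⧸ I) (Set.range v) := by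
      rw [hv]; trivial
    obtain ⟨c, hc⟩ := (Submodule.mem_span_range_iff_exists_fun _).mp h1
    choose a ha using fun j => Ideal.Quotient.mk_surjective (c j)
    have h2 : I.toCotangent (⟨y, hy⟩ - ∑ j, a j • f j) = 0 := by
      rw [map_sub, map_sum, sub_eq_zero, ← hc]
      refine Finset.sum_congr rfl fun j _ => ?_
      rw [map_smul, hf j, ← ha j, ← algebraMap_smul (MvPolynomial (Fin n) A ⧸ I) (a j)]
      rfl
    rw [Ideal.toCotangent_eq_zero, pow_two] at h2
    have h3 : y = (∑ j, a j * (f j : MvPolynomial (Fin n) A)) +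
        ((⟨y, hy⟩ - ∑ j, a j • f j : I) : MvPolynomial (Fin n) A) := by
      simp only [Submodule.coe_sub, Submodule.coe_sum, Submodule.coe_smul, smul_eq_mul]
      ring
    rw [h3]
    refine Submodule.add_mem_sup (Submodule.sum_mem _ fun j _ => ?_) h2
    exact Ideal.mul_mem_left _ _ (Ideal.subset_span ⟨j, rfl⟩)
  obtain ⟨g, hg1, hg⟩ := exists_mul_mem_of_le_sup_sq I _ hfg hle
  obtain ⟨F, ⟨e⟩⟩ := exists_algEquiv_square n φ hφ (fun j => (f j : MvPolynomial (Fin n) A))
    (fun j => (hmemI _).mp (f j).2) g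
    (by
      have := (hmemI _).mp hg1
      rwa [map_sub, map_one, sub_eq_zero] at this)
    (fun y hy => hg y ((hmemI y).mpr hy))
  exact ⟨n + 1, F, ⟨e⟩⟩

theorem backward (A B : Type u) [CommRing A] [CommRing B] [Algebra A B]
    [Module.Finite A B] (n : ℕ) (F : Fin n → MvPolynomial (Fin n) A)
    (e : B ≃ₐ[A] Synt.RelGCIRing A n n F) : Synt.IsSyntomic A B := by
  haveI : Module.Finite A (Synt.RelGCIRing A n n F) := Module.Finite.equiv e.toLinearEquiv
  have hgci : Synt.IsRelGCI A n n F := by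
    intro p hnt
    refine ⟨le_refl n, ?_⟩
    rw [Nat.sub_self]
    haveI : IsArtinianRing (p.asIdeal.Fiber (Synt.RelGCIRing A n n F)) :=
      IsArtinianRing.of_finite p.asIdeal.ResidueField
        (p.asIdeal.Fiber (Synt.RelGCIRing A n n F))
    have h1 := (isArtinianRing_iff_isNoetherianRing_krullDimLE_zero
      (R := p.asIdeal.Fiber (Synt.RelGCIRing A n n F))).mp inferInstance
    have h2 := ringKrullDimZero_iff_ringKrullDim_eq_zero.mp h1.2
    rw [h2]
    rfl
  exact Groth.Agent.Lib.Helper82.SyntLocal.isSyntomic_of_algEquiv A e.symm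
    (Groth.Agent.Lib.Helper82.RelGCIFlat.isSyntomic_of_isRelGCI A n n F hgci)

theorem main (A B : Type u) [CommRing A] [IsLocalRing A] [CommRing B] [Algebra A B]
    [Module.Finite A B] :
    Synt.IsSyntomic A B ↔ ∃ (n : ℕ) (F : Fin n → MvPolynomial (Fin n) A),
      Nonempty (B ≃ₐ[A] Synt.RelGCIRing A n n F) :=
  ⟨forward A B, fun ⟨n, F, ⟨e⟩⟩ => backward A B n F e⟩

end Groth.Agent.Lib.Helper94.FinSyntMain

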