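import Mathlib
import Groth.Agent.Lib.Helper94.JacTrace
import Groth.Agent.Lib.Helper10.Fitting
import Groth.Agent.Lib.Helper10.SyntBC
import Groth.Agent.S8931
import Groth.Agent.S8954
import Groth.Agent.S2197
import Groth.Agent.S2215
import Groth.Agent.S2217
import Groth.Agent.S1830
import Groth.Agent.S9287
import Groth.Agent.Lib.Helper24.GorenFibre

set_option autoImplicit false
universe u

namespace Groth.Agent.Lib.Helper94.DiffFitt

open MvPolynomial TensorProduct
open Groth.Agent.Lib.Helper10.Fitting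

section Poly

variable (A : Type u) [CommRing A] (n : ℕ) (f : Fin n → MvPolynomial (Fin n) A)

local notation "B₀" => MvPolynomial (Fin n) A ⧸ Ideal.span (Set.range f)
local notation "mk" => Ideal.Quotient.mk (Ideal.span (Set.range f))

theorem noetherDifferent_eq_span [IsNoetherianRing A] [Module.Finite A B₀] [Module.Free A B₀] :
    Disc.noetherDifferent A B₀ =
      Ideal.span {mk (Matrix.det (Matrix.of fun i j : Fin n => MvPolynomial.pderiv j (f i)))} := by
  obtain ⟨e, he⟩ := Groth.Agent.Lib.Helper94.JacTrace.main A n f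
  apply SetLike.coe_injective
  rw [Groth.Agent.S2215.result]
  ext x
  rw [SetLike.mem_coe, Ideal.mem_span_singleton']
  constructor
  · rintro ⟨φ, rfl⟩
    refine ⟨φ (e 1), ?_⟩
    change _ = φ _
    rw [← he]
    have h1 : e (mk (Matrix.det (Matrix.of fun i j : Fin n => MvPolynomial.pderiv j (f i)))) =
        (mk (Matrix.det (Matrix.of fun i j : Fin n => MvPolynomial.pderiv j (f i)))) • e 1 := by
      rw [← map_smul, smul_eq_mul, mul_one]
    rw [h1, map_smul, smul_eq_mul, mul_comm]
  · rintro ⟨a, rfl⟩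
    refine ⟨(LinearMap.lsmul B₀ B₀ a) ∘ₗ e.symm.toLinearMap, ?_⟩
    change (LinearMap.lsmul B₀ B₀ a) (e.symm (Disc.Omega.trace A B₀)) = _
    rw [← he, LinearEquiv.symm_apply_apply]
    rfl

theorem fitt_eq_span : Fitt.ideal B₀ (Ω[B₀⁄A]) 0 =
    Ideal.span {mk (Matrix.det (Matrix.of fun i j : Fin n => MvPolynomial.pderiv j (f i)))} := by
  apply Groth.Agent.S8931.main (Ideal.Quotient.mkₐ A (Ideal.span (Set.range f)))
    (Ideal.Quotient.mkₐ_surjective A _) f
  exact Ideal.Quotient.mkₐ_ker A _

theorem noetherDifferent_eq_fitt_poly [IsNoetherianRing A] [Module.Finite A B₀]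
    [Module.Free A B₀] : Disc.noetherDifferent A B₀ = Fitt.ideal B₀ (Ω[B₀⁄A]) 0 := by
  rw [noetherDifferent_eq_span, fitt_eq_span]

end Poly

/-- base change of the Kähler different -/
theorem fitt_kaehler_isPushout {A B A' B' : Type u} [CommRing A] [CommRing B] [CommRing A']
    [CommRing B']
    [Algebra A B] [Algebra A A'] [Algebra A B'] [Algebra B B'] [Algebra A' B']
    [IsScalarTower A B B'] [IsScalarTower A A' B'] [Algebra.IsPushout A B A' B']
    [Algebra.FiniteType A B] :
    Fitt.ideal B' (Ω[B'⁄A']) 0 = (Fitt.ideal B (Ω[B⁄A]) 0).map (algebraMap B B') := by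
  haveI : Algebra.IsPushout A A' B B' := Algebra.IsPushout.symm inferInstance
  rw [← fitt_congr (KaehlerDifferential.tensorKaehlerEquiv A A' B B') 0, fitt_baseChange]

/-- base change of the equality "Noether different = Kähler different" -/
theorem eq_of_isPushout {A B A' B' : Type u} [CommRing A] [CommRing B] [CommRing A'] [CommRing B']
    [Algebra A B] [Algebra A A'] [Algebra A B'] [Algebra B B'] [Algebra A' B']
    [IsScalarTower A B B'] [IsScalarTower A A' B'] [Algebra.IsPushout A B A' B']
    [Algebra.FiniteType A B] [Module.Flat A A']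
    (h : Disc.noetherDifferent A B = Fitt.ideal B (Ω[B⁄A]) 0) :
    Disc.noetherDifferent A' B' = Fitt.ideal B' (Ω[B'⁄A']) 0 := by
  rw [Groth.Agent.S2197.result (A := A) (B := B) (A' := A') (B' := B'), h]
  haveI : Algebra.IsPushout A A' B B' := Algebra.IsPushout.symm inferInstance
  rw [← fitt_congr (KaehlerDifferential.tensorKaehlerEquiv A A' B B') 0, fitt_baseChange]

/-- local case -/
theorem noetherDifferent_eq_fitt_local (A B : Type u) [CommRing A] [CommRing B] [Algebra A B]
    [IsLocalRing A] [IsNoetherianRing A] [Module.Finite A B] [Module.Free A B]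
    (h : Synt.IsSyntomic A B) : Disc.noetherDifferent A B = Fitt.ideal B (Ω[B⁄A]) 0 := by
  obtain ⟨n, F, ⟨e⟩⟩ := (Groth.Agent.S8954.result A B).mp h
  haveI : Module.Finite A (MvPolynomial (Fin n) A ⧸ Ideal.span (Set.range F)) :=
    Module.Finite.equiv e.toLinearEquiv
  haveI : Module.Free A (MvPolynomial (Fin n) A ⧸ Ideal.span (Set.range F)) :=
    Module.Free.of_equiv e.toLinearEquiv
  have h0 := noetherDifferent_eq_fitt_poly A n F
  letI : Algebra (MvPolynomial (Fin n) A ⧸ Ideal.span (Set.range F)) B :=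
    e.symm.toRingHom.toAlgebra
  haveI : IsScalarTower A (MvPolynomial (Fin n) A ⧸ Ideal.span (Set.range F)) B :=
    ⟨fun a b c => by
      change e.symm (a • b) * c = a • (e.symm b * c)
      rw [map_smul, smul_mul_assoc]⟩
  haveI : Algebra.IsPushout A (MvPolynomial (Fin n) A ⧸ Ideal.span (Set.range F)) A B :=
    Algebra.IsPushout.of_bijective_right _ B e.symm.bijective
  exact eq_of_isPushout (A := A) (B := MvPolynomial (Fin n) A ⧸ Ideal.span (Set.range F))
    (A' := A) (B' := B) h0

attribute [local instance] Algebra.TensorProduct.rightAlgebra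

theorem ideal_le_of_localization_base {A B : Type u} [CommRing A] [CommRing B] [Algebra A B]
    (I J : Ideal B)
    (h : ∀ (𝔭 : Ideal A) [𝔭.IsMaximal],
      I.map (algebraMap B (Localization.AtPrime 𝔭 ⊗[A] B)) ≤
        J.map (algebraMap B (Localization.AtPrime 𝔭 ⊗[A] B))) : I ≤ J := by
  intro x hx
  by_contra hxJ
  let K : Ideal A := (J.restrictScalars A).comap (LinearMap.toSpanSingleton A B x)
  have hK : K ≠ ⊤ := by
    intro htop
    apply hxJ
    have h1 : (1 : A) ∈ K := by rw [htop]; trivial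
    simpa [K] using h1
  obtain ⟨𝔭, h𝔭, hle⟩ := Ideal.exists_le_maximal K hK
  haveI := h𝔭
  haveI hloc : IsLocalization (Algebra.algebraMapSubmonoid B 𝔭.primeCompl)
      (Localization.AtPrime 𝔭 ⊗[A] B) :=
    (Algebra.isLocalization_iff_isPushout 𝔭.primeCompl (Localization.AtPrime 𝔭)).mpr inferInstance
  have h1 : algebraMap B (Localization.AtPrime 𝔭 ⊗[A] B) x ∈
      J.map (algebraMap B (Localization.AtPrime 𝔭 ⊗[A] B)) := h 𝔭 (Ideal.mem_map_of_mem _ hx)
  rw [IsLocalization.mem_map_algebraMap_iff (Algebra.algebraMapSubmonoid B 𝔭.primeCompl)] at h1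
  obtain ⟨⟨⟨j, hj⟩, ⟨s, a, ha, rfl⟩⟩, heq⟩ := h1
  rw [← map_mul, IsLocalization.eq_iff_exists (Algebra.algebraMapSubmonoid B 𝔭.primeCompl)] at heq
  obtain ⟨⟨t, b, hb, rfl⟩, ht⟩ := heq
  apply 𝔭.primeCompl.mul_mem hb ha
  apply hle
  change (b * a) • x ∈ J
  simp only at ht
  rw [Algebra.smul_def, map_mul, mul_assoc, mul_comm (algebraMap A B a) x, ht]
  exact J.mul_mem_left _ hj

theorem ideal_eq_of_localization_base {A B : Type u} [CommRing A] [CommRing B] [Algebra A B]
    (I J : Ideal B)
    (h : ∀ (𝔭 : Ideal A) [𝔭.IsMaximal],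
      I.map (algebraMap B (Localization.AtPrime 𝔭 ⊗[A] B)) =
        J.map (algebraMap B (Localization.AtPrime 𝔭 ⊗[A] B))) : I = J :=
  le_antisymm (ideal_le_of_localization_base I J fun 𝔭 _ => (h 𝔭).le)
    (ideal_le_of_localization_base J I fun 𝔭 _ => (h 𝔭).ge)

/-- global case: Noether different = Kähler different for finite free syntomic algebras -/
theorem noetherDifferent_eq_fitt (A B : Type u) [CommRing A] [CommRing B] [Algebra A B]
    [IsNoetherianRing A] [Module.Finite A B] [Module.Free A B]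
    (h : Synt.IsSyntomic A B) : Disc.noetherDifferent A B = Fitt.ideal B (Ω[B⁄A]) 0 := by
  apply ideal_eq_of_localization_base (A := A)
  intro 𝔭 _
  have hloc := noetherDifferent_eq_fitt_local (Localization.AtPrime 𝔭)
    (Localization.AtPrime 𝔭 ⊗[A] B)
    (Groth.Agent.Lib.Helper10.SyntBC.isSyntomic_tensor (S := Localization.AtPrime 𝔭) h)
  rw [← Groth.Agent.S2197.result (A := A) (B := B) (A' := Localization.AtPrime 𝔭)
    (B' := Localization.AtPrime 𝔭 ⊗[A] B), hloc,
    fitt_kaehler_isPushout (A := A) (B := B) (A' := Localization.AtPrime 𝔭)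
    (B' := Localization.AtPrime 𝔭 ⊗[A] B)]

/-- the dualizing module of a finite free syntomic algebra is invertible -/
theorem invertible_omega (A B : Type u) [CommRing A] [CommRing B] [Algebra A B]
    [IsNoetherianRing A] [Module.Finite A B] [Module.Free A B]
    (h : Synt.IsSyntomic A B) : Module.Invertible B (Disc.Omega A B) := by
  rw [← Groth.Agent.S2217.result]
  intro p _
  obtain ⟨hflat, hlci⟩ := (Groth.Agent.S9287.result A B).mp h
  haveI := hflat
  have hG := Groth.Agent.S1830.result A B hlci ⟨p, inferInstance⟩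
  exact Groth.Agent.Lib.Helper24.isGorensteinRing_of_ringEquiv
    (Algebra.TensorProduct.comm A B p.ResidueField).toRingEquiv hG

end Groth.Agent.Lib.Helper94.DiffFitt
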