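import Mathlib
import Groth.Agent.S10955

set_option autoImplicit false
universe u
open Polynomial TensorProduct

namespace Groth.Agent.Lib.Helper94.Deform

section Dstruct

variable {k : Type u} [Field k] {n : ℕ} {D : Type u} [CommRing D] [Algebra k D] {τ : D}

/-- the presentation data: a surjection `k[X] → D`, `X ↦ τ`, with kernel `(X^(n+1))`. -/
theorem exists_q (e : (k[X] ⧸ Ideal.span {(X : k[X]) ^ (n + 1)}) ≃ₐ[k] D)
    (he : e (Ideal.Quotient.mk (Ideal.span {(X : k[X]) ^ (n + 1)}) X) = τ) :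
    ∃ q : k[X] →ₐ[k] D, Function.Surjective q ∧ q X = τ ∧ ∀ p, q p = 0 ↔ X ^ (n + 1) ∣ p := by
  refine ⟨e.toAlgHom.comp (Ideal.Quotient.mkₐ k (Ideal.span {(X : k[X]) ^ (n + 1)})), ?_, he, ?_⟩
  · exact e.surjective.comp (Ideal.Quotient.mkₐ_surjective k _)
  · intro p
    show e (Ideal.Quotient.mk _ p) = 0 ↔ _
    rw [EmbeddingLike.map_eq_zero_iff, Ideal.Quotient.eq_zero_iff_mem, Ideal.mem_span_singleton]

variable (q : k[X] →ₐ[k] D) (hq : Function.Surjective q) (hX : q X = τ)
  (hker : ∀ p, q p = 0 ↔ X ^ (n + 1) ∣ p)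

include hX in
theorem q_eq_aeval : q = aeval τ := by
  apply Polynomial.algHom_ext
  rw [hX, aeval_X]

include hX hker in
theorem tau_pow_succ : τ ^ (n + 1) = 0 := by
  rw [← hX, ← map_pow, hker]

include hq hX in
theorem exists_const_add (d : D) : ∃ (c : k) (d' : D), d = algebraMap k D c + τ * d' := by
  obtain ⟨p, rfl⟩ := hq d
  refine ⟨p.coeff 0, q p.divX, ?_⟩
  conv_lhs => rw [← Polynomial.X_mul_divX_add p]
  rw [map_add, map_mul, hX, add_comm]
  congr 1
  rw [← Polynomial.algebraMap_eq, AlgHom.commutes]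

include hq hX hker in
theorem exists_eq_mul_of_pow_mul_eq_zero (hn : 1 ≤ n) (d : D) (h : τ ^ (n - 1) * d = 0) :
    ∃ d', d = τ * d' := by
  obtain ⟨p, rfl⟩ := hq d
  rw [← hX, ← map_pow, ← map_mul, hker] at h
  have h2 : (X : k[X]) ^ (n + 1) = X ^ (n - 1) * X ^ 2 := by
    rw [← pow_add]; congr 1; omega
  rw [h2] at h
  have h3 : (X : k[X]) ^ 2 ∣ p := (mul_dvd_mul_iff_left (pow_ne_zero _ X_ne_zero)).mp h
  obtain ⟨g, rfl⟩ := h3
  refine ⟨q (X * g), ?_⟩
  rw [← hX, ← map_mul]
  congr 1
  ring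

include hq hX in
theorem span_D_tau : Submodule.span D {KaehlerDifferential.D k D τ} = ⊤ := by
  rw [eq_top_iff, ← KaehlerDifferential.span_range_derivation k D, Submodule.span_le]
  rintro _ ⟨d, rfl⟩
  obtain ⟨p, rfl⟩ := hq d
  rw [q_eq_aeval q hX, Derivation.map_aeval]
  exact Submodule.smul_mem _ _ (Submodule.mem_span_singleton_self _)


section Deriv

variable {M : Type*} [AddCommGroup M] [Module k M] [Module D M] [IsScalarTower k D M]

/-- the `k`-linear map `k[X] → M`, `p ↦ q(p') • m₀`. -/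
noncomputable def Lmap (m₀ : M) : k[X] →ₗ[k] M where
  toFun p := q (derivative p) • m₀
  map_add' p₁ p₂ := by rw [derivative_add, map_add, add_smul]
  map_smul' c p := by
    rw [derivative_smul, map_smul, RingHom.id_apply, smul_assoc]

include hX hker in
theorem Lmap_eq_zero (m₀ : M) (h : τ ^ n • m₀ = 0) (p : k[X]) (hp : q p = 0) :
    Lmap q m₀ p = 0 := by
  obtain ⟨g, rfl⟩ := (hker p).mp hp
  show q (derivative _) • m₀ = 0
  rw [derivative_mul, derivative_X_pow, map_add, map_mul, map_mul, map_mul, map_pow, map_pow, hX,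
    tau_pow_succ q hX hker, zero_mul, add_zero, add_tsub_cancel_right, mul_assoc, mul_comm, mul_assoc,
    mul_smul, mul_smul, smul_comm (τ ^ n), smul_comm (τ ^ n), h, smul_zero, smul_zero]

include hX hker in
theorem Lmap_congr (m₀ : M) (h : τ ^ n • m₀ = 0) (p₁ p₂ : k[X]) (hp : q p₁ = q p₂) :
    Lmap q m₀ p₁ = Lmap q m₀ p₂ := by
  rw [← sub_eq_zero, ← map_sub]
  exact Lmap_eq_zero q hX hker m₀ h _ (by rw [map_sub, hp, sub_self])

include hq hX hker in
/-- the `k`-derivation `D → M` with `τ ↦ m₀`, for `m₀` killed by `τ^n`. -/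
theorem exists_derivation (m₀ : M) (h : τ ^ n • m₀ = 0) :
    ∃ δ : Derivation k D M, δ τ = m₀ := by
  have key : ∀ p, Lmap q m₀ (Function.surjInv hq (q p)) = Lmap q m₀ p := fun p =>
    Lmap_congr q hX hker m₀ h _ _ (Function.surjInv_eq hq _)
  let δl : D →ₗ[k] M :=
    { toFun := fun d => Lmap q m₀ (Function.surjInv hq d)
      map_add' := by
        intro d₁ d₂
        obtain ⟨p₁, rfl⟩ := hq d₁
        obtain ⟨p₂, rfl⟩ := hq d₂
        rw [← map_add, key, key, key, map_add]
      map_smul' := by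
        intro c d
        obtain ⟨p, rfl⟩ := hq d
        rw [← map_smul, key, key, map_smul, RingHom.id_apply] }
  have hδl : ∀ p, δl (q p) = q (derivative p) • m₀ := fun p => key p
  refine ⟨Derivation.mk' δl ?_, ?_⟩
  · intro d₁ d₂
    obtain ⟨p₁, rfl⟩ := hq d₁
    obtain ⟨p₂, rfl⟩ := hq d₂
    rw [← map_mul, hδl, hδl, hδl, derivative_mul, map_add, map_mul, map_mul, add_smul, mul_smul,
      mul_smul, add_comm]
    congr 1
    rw [smul_comm]
  · show δl τ = m₀
    rw [← hX, hδl, derivative_X, map_one, one_smul]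

end Deriv


section Blevel

variable {B : Type u} [CommRing B] [Algebra k B] [Algebra D B] [IsScalarTower k D B]

include hq hX in
theorem mapBaseChange_mem_span (x : B ⊗[D] Ω[D⁄k]) :
    KaehlerDifferential.mapBaseChange k D B x ∈
      Submodule.span B {KaehlerDifferential.D k B (algebraMap D B τ)} := by
  induction x using TensorProduct.induction_on with
  | zero => rw [map_zero]; exact Submodule.zero_mem _
  | add x y hx hy => rw [map_add]; exact Submodule.add_mem _ hx hy
  | tmul b ω =>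
    have hω : ω ∈ Submodule.span D {KaehlerDifferential.D k D τ} := by
      rw [span_D_tau q hq hX]; trivial
    obtain ⟨d, rfl⟩ := Submodule.mem_span_singleton.mp hω
    rw [KaehlerDifferential.mapBaseChange_tmul, map_smul, KaehlerDifferential.map_D,
      algebra_compatible_smul B d, smul_smul]
    exact Submodule.smul_mem _ _ (Submodule.mem_span_singleton_self _)

include hq hX in
theorem map_eq_zero_iff (ω : Ω[B⁄k]) :
    KaehlerDifferential.map k D B B ω = 0 ↔
      ∃ b : B, ω = b • KaehlerDifferential.D k B (algebraMap D B τ) := by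
  constructor
  · intro h
    obtain ⟨x, rfl⟩ := (KaehlerDifferential.exact_mapBaseChange_map k D B ω).mp h
    obtain ⟨b, hb⟩ := Submodule.mem_span_singleton.mp (mapBaseChange_mem_span q hq hX x)
    exact ⟨b, hb.symm⟩
  · rintro ⟨b, rfl⟩
    rw [map_smul, KaehlerDifferential.map_D, Algebra.algebraMap_self, RingHom.id_apply,
      Derivation.map_algebraMap, smul_zero]

include hX hker in
theorem pow_smul_D_eq_zero [CharZero k] :
    (algebraMap D B τ) ^ n • KaehlerDifferential.D k B (algebraMap D B τ) = 0 := by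
  have h1 : KaehlerDifferential.D k B ((algebraMap D B τ) ^ (n + 1)) = 0 := by
    rw [← map_pow, tau_pow_succ q hX hker, map_zero, map_zero]
  rw [Derivation.leibniz_pow, add_tsub_cancel_right, ← Nat.cast_smul_eq_nsmul k] at h1
  exact (smul_eq_zero.mp h1).resolve_left (Nat.cast_ne_zero.mpr (Nat.succ_ne_zero n))

end Blevel


section Flat

variable {B : Type u} [CommRing B] [Algebra k B] [Algebra D B] [IsScalarTower k D B]

include hq hX hker in
theorem exists_eq_mul_of_pow_mul_eq_zero_flat [Module.Flat D B] (hn : 1 ≤ n) (x : B)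
    (h : (algebraMap D B τ) ^ (n - 1) * x = 0) : ∃ y, x = algebraMap D B τ * y := by
  have h1 : ∑ i : Unit, (fun _ : Unit => τ ^ (n - 1)) i • (fun _ : Unit => x) i = 0 := by
    rw [Fintype.sum_unique, Algebra.smul_def, map_pow]
    exact h
  obtain ⟨m, a, y, hxy, hay⟩ := Module.Flat.isTrivialRelation_of_sum_smul_eq_zero (R := D) (M := B)
    (f := fun _ : Unit => τ ^ (n - 1)) (x := fun _ => x) h1
  have h2 : ∀ j, ∃ d', a () j = τ * d' := by
    intro j
    have := hay j
    rw [Fintype.sum_unique] at this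
    exact exists_eq_mul_of_pow_mul_eq_zero q hq hX hker hn _ this
  choose d' hd' using h2
  refine ⟨∑ j, d' j • y j, ?_⟩
  have hx : x = ∑ j, a () j • y j := hxy ()
  rw [hx, Finset.mul_sum]
  refine Finset.sum_congr rfl fun j _ => ?_
  rw [hd' j, mul_smul, Algebra.smul_def τ]

end Flat


section Smooth

variable {B : Type u} [CommRing B] [Algebra k B] [Algebra D B] [IsScalarTower k D B]

include hq hX hker in
theorem formallySmooth_fiber
    (hsm : Algebra.FormallySmooth k (B ⧸ Ideal.span {algebraMap D B τ}))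
    (I : Ideal D) [I.IsPrime] : Algebra.FormallySmooth I.ResidueField (I.Fiber B) := by
  apply Algebra.FormallySmooth.of_comp_surjective
  intro C _ _ J hJ ψ
  letI instDC : Algebra D C :=
    ((algebraMap I.ResidueField C).comp (algebraMap D I.ResidueField)).toAlgebra
  haveI : IsScalarTower D I.ResidueField C := IsScalarTower.of_algebraMap_eq fun _ => rfl
  letI instkC : Algebra k C := ((algebraMap D C).comp (algebraMap k D)).toAlgebra
  haveI : IsScalarTower k D C := IsScalarTower.of_algebraMap_eq fun _ => rfl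
  have hτκ : algebraMap D I.ResidueField τ = 0 := by
    have : (algebraMap D I.ResidueField τ) ^ (n + 1) = 0 := by
      rw [← map_pow, tau_pow_succ q hX hker, map_zero]
    exact (pow_eq_zero_iff n.succ_ne_zero).mp this
  have hτC : algebraMap D C τ = 0 := by
    rw [IsScalarTower.algebraMap_apply D I.ResidueField C, hτκ, map_zero]
  let φ : B →ₐ[D] C ⧸ J := (ψ.restrictScalars D).comp Algebra.TensorProduct.includeRight
  have hφt : ∀ a ∈ Ideal.span {algebraMap D B τ}, (φ.restrictScalars k) a = 0 := by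
    intro a ha
    obtain ⟨b, rfl⟩ := Ideal.mem_span_singleton'.mp ha
    show φ (b * algebraMap D B τ) = 0
    rw [map_mul, AlgHom.commutes, IsScalarTower.algebraMap_apply D C (C ⧸ J), hτC, map_zero,
      mul_zero]
  let φ₀ : B ⧸ Ideal.span {algebraMap D B τ} →ₐ[k] C ⧸ J :=
    Ideal.Quotient.liftₐ _ (φ.restrictScalars k) hφt
  obtain ⟨φ₁, hφ₁⟩ := Algebra.FormallySmooth.comp_surjective k
    (B ⧸ Ideal.span {algebraMap D B τ}) J hJ φ₀
  let φ₂ : B →ₐ[k] C := φ₁.comp (Ideal.Quotient.mkₐ k (Ideal.span {algebraMap D B τ}))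
  have hφ₂t : φ₂ (algebraMap D B τ) = 0 := by
    show φ₁ (Ideal.Quotient.mk _ (algebraMap D B τ)) = 0
    rw [Ideal.Quotient.eq_zero_iff_mem.mpr (Ideal.mem_span_singleton_self _), map_zero]
  let φ₃ : B →ₐ[D] C :=
    { φ₂.toRingHom with
      commutes' := by
        intro d
        obtain ⟨c, d', rfl⟩ := exists_const_add q hq hX d
        show φ₂ (algebraMap D B _) = algebraMap D C _
        rw [map_add, map_add, map_mul, map_mul, map_add, map_mul, hφ₂t, hτC, zero_mul, zero_mul,
          add_zero, add_zero, ← IsScalarTower.algebraMap_apply, ← IsScalarTower.algebraMap_apply,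
          AlgHom.commutes] }
  let Ψ : I.Fiber B →ₐ[I.ResidueField] C :=
    Algebra.TensorProduct.lift (Algebra.ofId I.ResidueField C) φ₃ (fun _ _ => Commute.all _ _)
  have hΨ : ∀ b : B, Ψ ((1 : I.ResidueField) ⊗ₜ[D] b) = φ₃ b := fun b => by
    simp only [Ψ, Algebra.TensorProduct.lift_tmul, map_one, one_mul]
  refine ⟨Ψ, ?_⟩
  apply Algebra.TensorProduct.ext'
  intro a b
  have hab : a ⊗ₜ[D] b = a • ((1 : I.ResidueField) ⊗ₜ[D] b) := by
    rw [TensorProduct.smul_tmul', smul_eq_mul, mul_one]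
  rw [hab, map_smul, map_smul]
  congr 1
  show Ideal.Quotient.mk J (Ψ (1 ⊗ₜ[D] b)) = _
  rw [hΨ]
  show Ideal.Quotient.mk J (φ₁ (Ideal.Quotient.mk _ b)) = _
  have := congrArg (fun f => f (Ideal.Quotient.mk _ b)) hφ₁
  exact this

end Smooth


section Smooth2

variable {B : Type u} [CommRing B] [Algebra k B] [Algebra D B] [IsScalarTower k D B]

include hq hX hker in
theorem smooth_of_flat [Algebra.FiniteType k B] [Module.Flat D B]
    (hsm : Algebra.Smooth k (B ⧸ Ideal.span {algebraMap D B τ})) : Algebra.Smooth D B := by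
  haveI : IsNoetherianRing D := isNoetherianRing_of_surjective k[X] D q.toRingHom hq
  haveI : Algebra.FiniteType D B := Algebra.FiniteType.of_restrictScalars_finiteType k D B
  haveI : Algebra.FinitePresentation D B :=
    Algebra.FinitePresentation.of_finiteType.mp inferInstance
  exact Algebra.Smooth.of_formallySmooth_fiber fun I _ =>
    formallySmooth_fiber q hq hX hker hsm.formallySmooth I

include hq hX hker in
theorem exists_functional [Algebra.FormallySmooth D B] :
    ∃ l : Ω[B⁄k] →ₗ[B] B ⧸ Ideal.span {(algebraMap D B τ) ^ n},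
      l (KaehlerDifferential.D k B (algebraMap D B τ)) = 1 := by
  obtain ⟨r, hr⟩ := Groth.Agent.S10955.exists_retraction_of_formallySmooth k D B
  have h0 : τ ^ n • (1 : B ⧸ Ideal.span {(algebraMap D B τ) ^ n}) = 0 := by
    rw [Algebra.smul_def, mul_one]
    show Ideal.Quotient.mk _ (algebraMap D B (τ ^ n)) = 0
    rw [map_pow]
    exact Ideal.Quotient.eq_zero_iff_mem.mpr (Ideal.mem_span_singleton_self _)
  obtain ⟨δ, hδ⟩ := exists_derivation q hq hX hker
    (M := B ⧸ Ideal.span {(algebraMap D B τ) ^ n}) 1 h0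
  refine ⟨(LinearMap.liftBaseChange B δ.liftKaehlerDifferential) ∘ₗ r, ?_⟩
  have h1 : KaehlerDifferential.D k B (algebraMap D B τ) =
      KaehlerDifferential.mapBaseChange k D B (1 ⊗ₜ KaehlerDifferential.D k D τ) := by
    rw [KaehlerDifferential.mapBaseChange_tmul, one_smul, KaehlerDifferential.map_D]
  rw [LinearMap.comp_apply, h1, ← LinearMap.comp_apply r, hr, LinearMap.id_apply,
    LinearMap.liftBaseChange_tmul, one_smul, Derivation.liftKaehlerDifferential_comp_D, hδ]

end Smooth2

end Dstruct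


section Conormal

variable {k B : Type u} [CommRing k] [CommRing B] [Algebra k B]

theorem exists_of_mapBaseChange_eq_zero (I : Ideal B) (β : (B ⧸ I) ⊗[B] Ω[B⁄k])
    (h : KaehlerDifferential.mapBaseChange k B (B ⧸ I) β = 0) :
    ∃ x ∈ I, β = (1 : B ⧸ I) ⊗ₜ[B] KaehlerDifferential.D k B x := by
  have hs : Function.Surjective (algebraMap B (B ⧸ I)) := Ideal.Quotient.mk_surjective
  obtain ⟨y, rfl⟩ :=
    (KaehlerDifferential.exact_kerCotangentToTensor_mapBaseChange k B (B ⧸ I) hs β).mp h
  obtain ⟨x, rfl⟩ := Ideal.toCotangent_surjective _ y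
  refine ⟨x, ?_, ?_⟩
  · have := x.2
    exact Ideal.Quotient.eq_zero_iff_mem.mp (RingHom.mem_ker.mp this)
  · rw [KaehlerDifferential.kerCotangentToTensor_toCotangent]

/-- `1 ⊗ d(c t^n) = (n c t^(n-1)) • (1 ⊗ dt)` in `B/(t^n) ⊗ Ω`. -/
theorem one_tmul_D_mul_pow (t c : B) (n : ℕ) :
    (1 : B ⧸ Ideal.span {t ^ n}) ⊗ₜ[B] KaehlerDifferential.D k B (c * t ^ n) =
      Ideal.Quotient.mk (Ideal.span {t ^ n}) (n * c * t ^ (n - 1)) •
        ((1 : B ⧸ Ideal.span {t ^ n}) ⊗ₜ[B] KaehlerDifferential.D k B t) := by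
  have h0 : Ideal.Quotient.mk (Ideal.span {t ^ n}) (t ^ n) = 0 :=
    Ideal.Quotient.eq_zero_iff_mem.mpr (Ideal.mem_span_singleton_self _)
  have h1 : t ^ n • ((1 : B ⧸ Ideal.span {t ^ n}) ⊗ₜ[B] KaehlerDifferential.D k B c) = 0 := by
    rw [TensorProduct.smul_tmul', Algebra.smul_def, mul_one, Ideal.Quotient.algebraMap_eq, h0,
      TensorProduct.zero_tmul]
  rw [Derivation.leibniz, Derivation.leibniz_pow, ← Nat.cast_smul_eq_nsmul B, smul_smul, smul_smul,
    TensorProduct.tmul_add, TensorProduct.tmul_smul, TensorProduct.tmul_smul, h1, add_zero,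
    TensorProduct.smul_tmul', TensorProduct.smul_tmul', Algebra.smul_def, mul_one,
    Ideal.Quotient.algebraMap_eq, smul_eq_mul, mul_one]
  congr 2
  ring

end Conormal

end Groth.Agent.Lib.Helper94.Deform
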