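import Mathlib

/-!
# Flatness of `P/(f)` when `f` is a nonzerodivisor modulo every ideal of the base (helper94)
-/

set_option autoImplicit false
universe u
open TensorProduct

namespace Groth.Agent.Lib.Helper94.FlatQuot

section General

variable {R P : Type*} [CommRing R] [CommRing P] [Algebra R P]

/-- the multiplication map `𝔞 ⊗ M → M` -/
noncomputable abbrev mm (𝔞 : Ideal R) (M : Type*) [AddCommGroup M] [Module R M] : 𝔞 ⊗[R] M →ₗ[R] M :=
  TensorProduct.lift ((LinearMap.lsmul R M).comp 𝔞.subtype)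

lemma mm_tmul (𝔞 : Ideal R) (M : Type*) [AddCommGroup M] [Module R M] (a : 𝔞) (x : M) :
    mm 𝔞 M (a ⊗ₜ x) = (a : R) • x := by
  simp [mm]

lemma mm_lTensor (𝔞 : Ideal R) {M M' : Type*} [AddCommGroup M] [Module R M] [AddCommGroup M']
    [Module R M'] (h : M →ₗ[R] M') (y : 𝔞 ⊗[R] M) :
    mm 𝔞 M' (LinearMap.lTensor 𝔞 h y) = h (mm 𝔞 M y) := by
  induction y using TensorProduct.induction_on with
  | zero => simp
  | tmul a x => simp
  | add x y hx hy => simp only [map_add, hx, hy]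

lemma mm_mem_map (𝔞 : Ideal R) (y : 𝔞 ⊗[R] P) : mm 𝔞 P y ∈ 𝔞.map (algebraMap R P) := by
  induction y using TensorProduct.induction_on with
  | zero => simp
  | tmul a x =>
    rw [mm_tmul, Algebra.smul_def]
    exact Ideal.mul_mem_right _ _ (Ideal.mem_map_of_mem _ a.2)
  | add x y hx hy =>
    rw [map_add]
    exact Ideal.add_mem _ hx hy

lemma exists_mm_eq (𝔞 : Ideal R) {p : P} (hp : p ∈ 𝔞.map (algebraMap R P)) :
    ∃ q : 𝔞 ⊗[R] P, mm 𝔞 P q = p := by
  rw [Ideal.map] at hp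
  induction hp using Submodule.span_induction with
  | mem x hx =>
    obtain ⟨a, ha, rfl⟩ := hx
    refine ⟨(⟨a, ha⟩ : 𝔞) ⊗ₜ (1 : P), ?_⟩
    rw [mm_tmul, Algebra.smul_def, mul_one]
  | zero => exact ⟨0, map_zero _⟩
  | add x y _ _ hx hy =>
    obtain ⟨q₁, h₁⟩ := hx
    obtain ⟨q₂, h₂⟩ := hy
    exact ⟨q₁ + q₂, by rw [map_add, h₁, h₂]⟩
  | smul c x _ hx =>
    obtain ⟨q, hq⟩ := hx
    refine ⟨LinearMap.lTensor 𝔞 (LinearMap.mulLeft R c) q, ?_⟩
    rw [mm_lTensor, hq, LinearMap.mulLeft_apply, smul_eq_mul]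

/-- `P` flat over `R`, `f` a nonzerodivisor on `P/𝔞P` for all ideals `𝔞`: then `P/(f)` is flat. -/
theorem flat_quot_of_regular [Module.Flat R P] (f : P)
    (hf : ∀ (𝔞 : Ideal R) (p : P), f * p ∈ 𝔞.map (algebraMap R P) → p ∈ 𝔞.map (algebraMap R P)) :
    Module.Flat R (P ⧸ Ideal.span {f}) := by
  rw [Module.Flat.iff_lift_lsmul_comp_subtype_injective]
  intro 𝔞 h𝔞
  have hP : Function.Injective (mm 𝔞 P) :=
    (Module.Flat.iff_lift_lsmul_comp_subtype_injective.mp inferInstance) h𝔞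
  rw [injective_iff_map_eq_zero]
  intro z hz
  let πl : P →ₗ[R] (P ⧸ Ideal.span {f}) := (Ideal.Quotient.mkₐ R (Ideal.span {f})).toLinearMap
  have hπ : Function.Surjective πl := Ideal.Quotient.mk_surjective
  obtain ⟨y, rfl⟩ := LinearMap.lTensor_surjective 𝔞 hπ z
  have h1 : πl (mm 𝔞 P y) = 0 := by
    rw [← mm_lTensor]
    exact hz
  have h2 : mm 𝔞 P y ∈ Ideal.span {f} := Ideal.Quotient.eq_zero_iff_mem.mp h1
  obtain ⟨p, hp⟩ := Ideal.mem_span_singleton'.mp h2
  have h3 : p ∈ 𝔞.map (algebraMap R P) := by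
    apply hf
    rw [mul_comm, hp]
    exact mm_mem_map 𝔞 y
  obtain ⟨q, hq⟩ := exists_mm_eq 𝔞 h3
  have h4 : y = LinearMap.lTensor 𝔞 (LinearMap.mulLeft R f) q := by
    apply hP
    rw [mm_lTensor, hq, LinearMap.mulLeft_apply, ← hp, mul_comm]
  rw [h4, ← LinearMap.comp_apply, ← LinearMap.lTensor_comp]
  have h5 : πl ∘ₗ LinearMap.mulLeft R f = 0 := by
    ext x
    simp only [LinearMap.comp_apply, LinearMap.mulLeft_apply, LinearMap.zero_apply]
    exact Ideal.Quotient.eq_zero_iff_mem.mpr (Ideal.mul_mem_right _ _ (Ideal.subset_span rfl))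
  rw [h5, LinearMap.lTensor_zero, LinearMap.zero_apply]

end General

section Nzd

open MvPolynomial

variable {S : Type*} [CommRing S] {σ : Type*}

/-- `u x_i - c` is a nonzerodivisor when `u` is. -/
theorem eq_zero_of_mul_C_mul_X_sub_C_eq_zero (i : σ) (u c : S) (hu : ∀ s : S, u * s = 0 → s = 0)
    (h : MvPolynomial σ S) (hh : h * (C u * X i - C c) = 0) : h = 0 := by
  classical
  by_contra hne
  have hsupp : h.support.Nonempty := by
    rwa [Finset.nonempty_iff_ne_empty, Ne, MvPolynomial.support_eq_empty]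
  obtain ⟨m, hm, hmax⟩ := Finset.exists_max_image h.support (fun m => m i) hsupp
  have h1 : (C u * h) * X i = C c * h := by
    rw [mul_sub, sub_eq_zero] at hh
    rw [mul_comm (C c), ← hh]; ring
  have h2 := congrArg (coeff (m + Finsupp.single i 1)) h1
  rw [coeff_mul_X, coeff_C_mul, coeff_C_mul] at h2
  have h3 : coeff (m + Finsupp.single i 1) h = 0 := by
    by_contra h3
    have := hmax _ (MvPolynomial.mem_support_iff.mpr h3)
    simp at this
  rw [h3, mul_zero] at h2
  exact (MvPolynomial.mem_support_iff.mp hm) (hu _ h2)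

end Nzd

section Univ

open MvPolynomial

variable {R : Type*} [CommRing R] {σ : Type*}

/-- `u x_i - g` (with `u` the variable of `R[u]`) is a nonzerodivisor modulo every ideal of `R`. -/
theorem mem_map_of_mul_mem (𝔞 : Ideal R) (g : R) (i : σ) (p : MvPolynomial σ (Polynomial R))
    (h : (C (Polynomial.X : Polynomial R) * X i - C (Polynomial.C g)) * p ∈
      𝔞.map (algebraMap R (MvPolynomial σ (Polynomial R)))) :
    p ∈ 𝔞.map (algebraMap R (MvPolynomial σ (Polynomial R))) := by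
  let κ : MvPolynomial σ (Polynomial R) →+* MvPolynomial σ (Polynomial (R ⧸ 𝔞)) :=
    MvPolynomial.map (Polynomial.mapRingHom (Ideal.Quotient.mk 𝔞))
  have hker : RingHom.ker κ = 𝔞.map (algebraMap R (MvPolynomial σ (Polynomial R))) := by
    rw [MvPolynomial.ker_map, Polynomial.ker_mapRingHom, Ideal.mk_ker, Ideal.map_map]
    rfl
  rw [← hker, RingHom.mem_ker] at h ⊢
  rw [map_mul] at h
  have hκf : κ (C (Polynomial.X : Polynomial R) * X i - C (Polynomial.C g)) =
      C (Polynomial.X : Polynomial (R ⧸ 𝔞)) * X i - C (Polynomial.C (Ideal.Quotient.mk 𝔞 g)) := by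
    simp [κ]
  rw [hκf, mul_comm] at h
  refine eq_zero_of_mul_C_mul_X_sub_C_eq_zero i _ _ ?_ _ h
  intro s hs
  exact (Polynomial.isRegular_X (R := R ⧸ 𝔞)).left (by simpa using hs)

end Univ

end Groth.Agent.Lib.Helper94.FlatQuot
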