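import Mathlib
import Groth.Prelude.Def_DRing2
import Groth.Agent.Lib.Helper94.TorKill

/-!
# Vanishing of maps on `Tor` in the first variable, with algebra actions (helper94)

`ZeroT i f` : `Tor_i(f, N) = 0` for every `N`.  Dévissage along morphisms of short exact sequences
(using naturality of the connecting map), and a version `KillsE A r i X` where `r` lives in an
`A`-algebra `Λ` acting on `X`.
-/

set_option autoImplicit false
universe u
open CategoryTheory CategoryTheory.Limits MonoidalCategory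

namespace Groth.Agent.Lib.Helper94.TorKillE

open Groth.Agent.Lib.Helper73 Groth.Agent.Lib.Helper73.TorFirstVar Groth.Agent.Lib.Helper94.TorKill

variable {A : Type u} [CommRing A]

section Cat

section Nat

lemma conj_nat {C : Type*} [Category C] {X₃ Y₃ X₁ Y₁ X₃' Y₃' X₁' Y₁' : C}
    (i₃ : X₃ ≅ Y₃) (i₁ : X₁ ≅ Y₁) (i₃' : X₃' ≅ Y₃') (i₁' : X₁' ≅ Y₁')
    (d : Y₃ ⟶ Y₁) (d' : Y₃' ⟶ Y₁') (t₁ : X₁ ⟶ X₁') (t₃ : X₃ ⟶ X₃') (H₁ : Y₁ ⟶ Y₁') (H₃ : Y₃ ⟶ Y₃')
    (h1 : t₁ ≫ i₁'.hom = i₁.hom ≫ H₁) (h3 : t₃ ≫ i₃'.hom = i₃.hom ≫ H₃)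
    (hd : d ≫ H₁ = H₃ ≫ d') :
    (i₃.hom ≫ d ≫ i₁.inv) ≫ t₁ = t₃ ≫ (i₃'.hom ≫ d' ≫ i₁'.inv) := by
  rw [← cancel_mono i₁'.hom]
  simp only [Category.assoc, Iso.inv_hom_id, Category.comp_id]
  rw [h1, Iso.inv_hom_id_assoc, hd, ← Category.assoc t₃, h3, Category.assoc]

variable {S S' : ShortComplex (ModuleCat.{u} A)} (hS : S.ShortExact) (hS' : S'.ShortExact)
  (φ : S ⟶ S')
variable {N : ModuleCat.{u} A} (P : ProjectiveResolution N)

/-- the morphism of short complexes of complexes induced by `φ` -/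
noncomputable def tensSCMap : tensSC (S := S) P ⟶ tensSC (S := S') P where
  τ₁ := (NatTrans.mapHomologicalComplex (TLmap φ.τ₁) _).app P.complex
  τ₂ := (NatTrans.mapHomologicalComplex (TLmap φ.τ₂) _).app P.complex
  τ₃ := (NatTrans.mapHomologicalComplex (TLmap φ.τ₃) _).app P.complex
  comm₁₂ := by
    refine HomologicalComplex.hom_ext _ _ (fun n => ?_)
    change (φ.τ₁ ▷ (P.complex.X n)) ≫ (S'.f ▷ (P.complex.X n)) =
      (S.f ▷ (P.complex.X n)) ≫ (φ.τ₂ ▷ (P.complex.X n))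
    rw [← comp_whiskerRight, ← comp_whiskerRight, φ.comm₁₂]
  comm₂₃ := by
    refine HomologicalComplex.hom_ext _ _ (fun n => ?_)
    change (φ.τ₂ ▷ (P.complex.X n)) ≫ (S'.g ▷ (P.complex.X n)) =
      (S.g ▷ (P.complex.X n)) ≫ (φ.τ₃ ▷ (P.complex.X n))
    rw [← comp_whiskerRight, ← comp_whiskerRight, φ.comm₂₃]

/-- naturality of the connecting map in the first variable -/
lemma δ_nat (n : ℕ) :
    δ hS P n ≫ Tmap n φ.τ₁ N = Tmap (n + 1) φ.τ₃ N ≫ δ hS' P n := by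
  have h1 := nat_map P φ.τ₁ n
  have h3 := nat_map P φ.τ₃ (n + 1)
  have hδ := HomologicalComplex.HomologySequence.δ_naturality (tensSCMap φ P)
    (tensSC_shortExact hS P) (tensSC_shortExact hS' P) (n + 1) n rfl
  exact conj_nat _ _ _ _ _ _ _ _ _ _ h1 h3 hδ

end Nat

/-- `Tor_i(f, N) = 0` for all `N`. -/
def ZeroT (i : ℕ) {X Y : ModuleCat.{u} A} (f : X ⟶ Y) : Prop :=
  ∀ N : ModuleCat.{u} A, Tmap i f N = 0

lemma zeroT_zero (i : ℕ) (X Y : ModuleCat.{u} A) : ZeroT i (0 : X ⟶ Y) :=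
  fun N => Tmap_zero i X Y N

lemma Tmap_comp (i : ℕ) {X Y Z : ModuleCat.{u} A} (f : X ⟶ Y) (g : Y ⟶ Z)
    (N : ModuleCat.{u} A) : Tmap i (f ≫ g) N = Tmap i f N ≫ Tmap i g N := by
  change ((Tor (ModuleCat.{u} A) i).map (f ≫ g)).app N = _
  rw [Functor.map_comp, NatTrans.comp_app]
  rfl

lemma zeroT_comp_of_left {i : ℕ} {X Y Z : ModuleCat.{u} A} {f : X ⟶ Y} (h : ZeroT i f)
    (g : Y ⟶ Z) : ZeroT i (f ≫ g) := by
  intro N
  rw [Tmap_comp, h N, zero_comp]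

lemma zeroT_comp_of_right {i : ℕ} {X Y Z : ModuleCat.{u} A} (f : X ⟶ Y) {g : Y ⟶ Z}
    (h : ZeroT i g) : ZeroT i (f ≫ g) := by
  intro N
  rw [Tmap_comp, h N, comp_zero]

lemma zeroT_of_flat_source {X Y : ModuleCat.{u} A} [Module.Flat A X] (f : X ⟶ Y) (j : ℕ) :
    ZeroT (j + 1) f := by
  intro N
  exact (isZero_T_succ_of_flat X N j).eq_of_src _ _

lemma zeroT_of_flat_target {X Y : ModuleCat.{u} A} [Module.Flat A Y] (f : X ⟶ Y) (j : ℕ) :
    ZeroT (j + 1) f := by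
  intro N
  exact (isZero_T_succ_of_flat Y N j).eq_of_tgt _ _

/-- **dévissage along morphisms of short exact sequences.** -/
lemma zeroT_right {S S' : ShortComplex (ModuleCat.{u} A)} (hS : S.ShortExact)
    (hS' : S'.ShortExact) (φ : S ⟶ S') {Z₂ Z₃ : ModuleCat.{u} A} (g'' : Z₂ ⟶ Z₃)
    (ψ₂ : S'.X₂ ⟶ Z₂) (ψ₃ : S'.X₃ ⟶ Z₃) (comm : S'.g ≫ ψ₃ = ψ₂ ≫ g'') {n : ℕ}
    (h₁ : ZeroT n φ.τ₁) (h₂ : ZeroT (n + 1) ψ₂) : ZeroT (n + 1) (φ.τ₃ ≫ ψ₃) := by
  intro N
  let P := projectiveResolution N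
  apply ModuleCat.hom_ext
  apply LinearMap.ext
  intro z
  rw [Tmap_comp]
  change (Tmap (n + 1) ψ₃ N).hom ((Tmap (n + 1) φ.τ₃ N).hom z) = 0
  set w := (Tmap (n + 1) φ.τ₃ N).hom z with hw
  have hδw : (δ hS' P n).hom w = 0 := by
    have h := δ_nat hS hS' φ P n
    have h' := congrArg (fun k => k.hom z) h
    simp only [ModuleCat.hom_comp, LinearMap.comp_apply] at h'
    rw [hw, ← h', h₁ N]
    rfl
  have hex := exact₃ hS' P n
  rw [ShortComplex.moduleCat_exact_iff] at hex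
  obtain ⟨y, hy⟩ := hex w hδw
  have hy' : (Tmap (n + 1) S'.g N).hom y = w := hy
  rw [← hy']
  have h3 : Tmap (n + 1) S'.g N ≫ Tmap (n + 1) ψ₃ N =
      Tmap (n + 1) ψ₂ N ≫ Tmap (n + 1) g'' N := by
    rw [← Tmap_comp, ← Tmap_comp, comm]
  have h3' := congrArg (fun k => k.hom y) h3
  simp only [ModuleCat.hom_comp, LinearMap.comp_apply] at h3'
  rw [h3', h₂ N]
  simp

end Cat

section Mod

variable {X Y Z : Type u} [AddCommGroup X] [Module A X] [AddCommGroup Y] [Module A Y]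
  [AddCommGroup Z] [Module A Z]

/-- `Tor_i(f, N) = 0` for all `N` (module-level). -/
def ZeroTM (i : ℕ) (f : X →ₗ[A] Y) : Prop := ZeroT i (ModuleCat.ofHom f)

lemma zeroTM_zero (i : ℕ) : ZeroTM i (0 : X →ₗ[A] Y) := by
  have : ModuleCat.ofHom (0 : X →ₗ[A] Y) = 0 := rfl
  rw [ZeroTM, this]
  exact zeroT_zero i _ _

lemma zeroTM_comp_of_left {i : ℕ} {f : X →ₗ[A] Y} (h : ZeroTM i f) (g : Y →ₗ[A] Z) :
    ZeroTM i (g ∘ₗ f) := by
  have : ModuleCat.ofHom (g ∘ₗ f) = ModuleCat.ofHom f ≫ ModuleCat.ofHom g := rfl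
  rw [ZeroTM, this]
  exact zeroT_comp_of_left h _

lemma zeroTM_comp_of_right {i : ℕ} (f : X →ₗ[A] Y) {g : Y →ₗ[A] Z} (h : ZeroTM i g) :
    ZeroTM i (g ∘ₗ f) := by
  have : ModuleCat.ofHom (g ∘ₗ f) = ModuleCat.ofHom f ≫ ModuleCat.ofHom g := rfl
  rw [ZeroTM, this]
  exact zeroT_comp_of_right _ h

lemma zeroTM_of_flat_source [Module.Flat A X] (f : X →ₗ[A] Y) (j : ℕ) : ZeroTM (j + 1) f :=
  zeroT_of_flat_source (X := ModuleCat.of A X) (ModuleCat.ofHom f) j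

lemma zeroTM_of_flat_target [Module.Flat A Y] (f : X →ₗ[A] Y) (j : ℕ) : ZeroTM (j + 1) f :=
  zeroT_of_flat_target (Y := ModuleCat.of A Y) (ModuleCat.ofHom f) j

variable {X₁ X₂ X₃ Y₁ Y₂ Y₃ Z₂ Z₃ : Type u}
  [AddCommGroup X₁] [Module A X₁] [AddCommGroup X₂] [Module A X₂] [AddCommGroup X₃] [Module A X₃]
  [AddCommGroup Y₁] [Module A Y₁] [AddCommGroup Y₂] [Module A Y₂] [AddCommGroup Y₃] [Module A Y₃]
  [AddCommGroup Z₂] [Module A Z₂] [AddCommGroup Z₃] [Module A Z₃]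

/-- module-level dévissage along a morphism of short exact sequences -/
lemma zeroTM_right (f : X₁ →ₗ[A] X₂) (g : X₂ →ₗ[A] X₃) (hf : Function.Injective f)
    (hg : Function.Surjective g) (hfg : Function.Exact f g)
    (f' : Y₁ →ₗ[A] Y₂) (g' : Y₂ →ₗ[A] Y₃) (hf' : Function.Injective f')
    (hg' : Function.Surjective g') (hfg' : Function.Exact f' g')
    (φ₁ : X₁ →ₗ[A] Y₁) (φ₂ : X₂ →ₗ[A] Y₂) (φ₃ : X₃ →ₗ[A] Y₃)
    (c₁ : f' ∘ₗ φ₁ = φ₂ ∘ₗ f) (c₂ : g' ∘ₗ φ₂ = φ₃ ∘ₗ g)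
    (g'' : Z₂ →ₗ[A] Z₃) (ψ₂ : Y₂ →ₗ[A] Z₂) (ψ₃ : Y₃ →ₗ[A] Z₃) (c₃ : ψ₃ ∘ₗ g' = g'' ∘ₗ ψ₂)
    {n : ℕ} (h₁ : ZeroTM n φ₁) (h₂ : ZeroTM (n + 1) ψ₂) : ZeroTM (n + 1) (ψ₃ ∘ₗ φ₃) := by
  let S : ShortComplex (ModuleCat.{u} A) :=
    ShortComplex.mk (ModuleCat.ofHom f) (ModuleCat.ofHom g)
      (by
        apply ModuleCat.hom_ext
        apply LinearMap.ext
        intro z
        exact hfg.apply_apply_eq_zero z)
  let S' : ShortComplex (ModuleCat.{u} A) :=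
    ShortComplex.mk (ModuleCat.ofHom f') (ModuleCat.ofHom g')
      (by
        apply ModuleCat.hom_ext
        apply LinearMap.ext
        intro z
        exact hfg'.apply_apply_eq_zero z)
  have hS : S.ShortExact := ModuleCat.shortComplex_shortExact S hfg hf hg
  have hS' : S'.ShortExact := ModuleCat.shortComplex_shortExact S' hfg' hf' hg'
  let φ : S ⟶ S' :=
    { τ₁ := ModuleCat.ofHom φ₁
      τ₂ := ModuleCat.ofHom φ₂
      τ₃ := ModuleCat.ofHom φ₃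
      comm₁₂ := by
        apply ModuleCat.hom_ext
        exact c₁
      comm₂₃ := by
        apply ModuleCat.hom_ext
        exact c₂ }
  exact zeroT_right hS hS' φ (ModuleCat.ofHom g'') (ModuleCat.ofHom ψ₂) (ModuleCat.ofHom ψ₃)
    (by
      apply ModuleCat.hom_ext
      exact c₃) h₁ h₂

end Mod

section Alg

variable {Λ : Type*} [CommRing Λ] [Algebra A Λ]

/-- multiplication by `r : Λ` as an `A`-linear endomorphism -/
noncomputable def smulE (r : Λ) (X : Type u) [AddCommGroup X] [Module A X] [Module Λ X]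
    [IsScalarTower A Λ X] : X →ₗ[A] X :=
  (LinearMap.lsmul Λ X r).restrictScalars A

variable (A) in
/-- `r : Λ` kills `Tor_i^A(X, N)` for every `A`-module `N`. -/
def KillsE (r : Λ) (i : ℕ) (X : Type u) [AddCommGroup X] [Module A X] [Module Λ X]
    [IsScalarTower A Λ X] : Prop :=
  ZeroTM i (smulE (A := A) r X)

variable {X Y X₁ X₂ X₃ : Type u}
  [AddCommGroup X] [Module A X] [Module Λ X] [IsScalarTower A Λ X]
  [AddCommGroup Y] [Module A Y] [Module Λ Y] [IsScalarTower A Λ Y]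
  [AddCommGroup X₁] [Module A X₁] [Module Λ X₁] [IsScalarTower A Λ X₁]
  [AddCommGroup X₂] [Module A X₂] [Module Λ X₂] [IsScalarTower A Λ X₂]
  [AddCommGroup X₃] [Module A X₃] [Module Λ X₃] [IsScalarTower A Λ X₃]

@[simp] lemma smulE_apply (r : Λ) (x : X) : smulE (A := A) r X x = r • x := rfl

lemma smulE_mul (p q : Λ) : smulE (A := A) (p * q) X = smulE (A := A) p X ∘ₗ smulE (A := A) q X := by
  ext x
  simp [mul_smul]

lemma killsE_of_smul_eq_zero {r : Λ} (h : ∀ x : X, r • x = 0) (i : ℕ) : KillsE A r i X := by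
  have : smulE (A := A) r X = 0 := by
    ext x
    exact h x
  rw [KillsE, this]
  exact zeroTM_zero i

lemma killsE_of_flat [Module.Flat A X] (r : Λ) (j : ℕ) : KillsE A r (j + 1) X :=
  zeroTM_of_flat_source _ j

lemma killsE_of_linearEquiv {r : Λ} {i : ℕ} (e : X ≃ₗ[Λ] Y) (h : KillsE A r i X) :
    KillsE A r i Y := by
  have : smulE (A := A) r Y =
      (e.restrictScalars A).toLinearMap ∘ₗ (smulE (A := A) r X ∘ₗ (e.symm.restrictScalars A).toLinearMap) := by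
    ext y
    simp
  rw [KillsE, this]
  exact zeroTM_comp_of_left (zeroTM_comp_of_right _ h) _

lemma killsE_right (f : X₁ →ₗ[Λ] X₂) (g : X₂ →ₗ[Λ] X₃) (hf : Function.Injective f)
    (hg : Function.Surjective g) (hfg : Function.Exact f g) {p q : Λ} {n : ℕ}
    (h₂ : KillsE A p (n + 1) X₂) (h₁ : KillsE A q n X₁) : KillsE A (p * q) (n + 1) X₃ := by
  rw [KillsE, smulE_mul]
  refine zeroTM_right (f.restrictScalars A) (g.restrictScalars A) hf hg hfg
    (f.restrictScalars A) (g.restrictScalars A) hf hg hfg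
    (smulE (A := A) q X₁) (smulE (A := A) q X₂) (smulE (A := A) q X₃) ?_ ?_
    (g.restrictScalars A) (smulE (A := A) p X₂) (smulE (A := A) p X₃) ?_ h₁ h₂
  · ext x
    simp
  · ext x
    simp
  · ext x
    simp

/-- quotient by a submodule killed by `k` -/
lemma killsE_of_surjective (g : X →ₗ[Λ] Y) (hg : Function.Surjective g) {p k : Λ} {n : ℕ}
    (hk : ∀ x ∈ LinearMap.ker g, k • x = 0) (h : KillsE A p (n + 1) X) :
    KillsE A (p * k) (n + 1) Y := by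
  refine killsE_right (LinearMap.ker g).subtype g (Submodule.injective_subtype _) hg
    (LinearMap.exact_subtype_ker_map g) h ?_
  apply killsE_of_smul_eq_zero
  intro x
  apply Subtype.ext
  exact hk x.1 x.2

/-- one dévissage step: `Y = X / μ X` where `ker μ` is killed by `k`. -/
lemma killsE_step (μ : X →ₗ[Λ] X) (g : X →ₗ[Λ] Y) (hg : Function.Surjective g)
    (hμg : Function.Exact μ g) {p k : Λ} {s : ℕ}
    (hk : ∀ x ∈ LinearMap.ker μ, k • x = 0)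
    (h : ∀ i, s + 1 ≤ i → KillsE A p i X) :
    ∀ i, s + 2 ≤ i → KillsE A (p * (p * k)) i Y := by
  intro i hi
  obtain ⟨n, rfl⟩ : ∃ n, i = n + 1 + 1 := ⟨i - 2, by omega⟩
  have hr : KillsE A (p * k) (n + 1) (LinearMap.range μ) :=
    killsE_of_surjective μ.rangeRestrict μ.surjective_rangeRestrict
      (by
        intro x hx
        apply hk
        rw [LinearMap.mem_ker] at hx ⊢
        have := congrArg Subtype.val hx
        simpa using this)
      (h (n + 1) (by omega))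
  refine killsE_right (LinearMap.range μ).subtype g (Submodule.injective_subtype _) hg ?_
    (h (n + 1 + 1) (by omega)) hr
  intro y
  constructor
  · intro hy
    obtain ⟨x, rfl⟩ := (hμg y).mp hy
    exact ⟨⟨μ x, x, rfl⟩, rfl⟩
  · rintro ⟨⟨_, x, rfl⟩, rfl⟩
    exact (hμg (μ x)).mpr ⟨x, rfl⟩

/-- extracting the vanishing of a map between retracts -/
lemma zeroTM_of_killsE {W W' : Type u} [AddCommGroup W] [Module A W] [AddCommGroup W']
    [Module A W'] {r : Λ} {i : ℕ} (inc : W →ₗ[A] X) (prj : X →ₗ[A] W') (ι : W →ₗ[A] W')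
    (hι : ∀ w, prj (r • inc w) = ι w) (h : KillsE A r i X) : ZeroTM i ι := by
  have : ι = prj ∘ₗ (smulE (A := A) r X ∘ₗ inc) := by
    ext w
    simp [hι]
  rw [this]
  exact zeroTM_comp_of_left (zeroTM_comp_of_right _ h) _

end Alg

end Groth.Agent.Lib.Helper94.TorKillE
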