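import Mathlib
import Groth.Prelude.Def_DRing2
import Groth.Agent.Lib.Helper94.TorKillE
import Groth.Agent.Lib.Helper94.FlatQuot
import Groth.Agent.Lib.Helper94.BlowTor

/-!
# The extended Rees algebra: `Tor_t^R(I^n, M) → Tor_t^R(I^{n-c}, M)` vanishes uniformly (helper94)
-/

set_option autoImplicit false
universe u
open MvPolynomial

namespace Groth.Agent.Lib.Helper94.ExtReesTor

open Groth.Agent.Lib.Helper94.TorKill Groth.Agent.Lib.Helper94.TorKillE
  Groth.Agent.Lib.Helper94.BlowAlg Groth.Agent.Lib.Helper94.BlowTor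

variable {R : Type u} [CommRing R] {t : ℕ} (g : Fin t → R)

/-- the family `(u, g_0, …, g_{t-1})` in `R[u]` -/
noncomputable def aa : Fin (t + 1) → Polynomial R :=
  Fin.cons Polynomial.X (fun j => Polynomial.C (g j))

@[simp] lemma aa_zero : aa g 0 = Polynomial.X := rfl

@[simp] lemma aa_succ (j : Fin t) : aa g j.succ = Polynomial.C (g j) := by
  simp [aa]

lemma f_aa (j : Fin t) :
    f (aa g) j = C (Polynomial.X : Polynomial R) * X j - C (Polynomial.C (g j)) := by
  rw [f, aa_zero, aa_succ]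

instance : Module.Flat R (MvPolynomial (Fin t) (Polynomial R)) :=
  Module.Flat.trans R (Polynomial R) (MvPolynomial (Fin t) (Polynomial R))

/-- base case `s = 0` -/
theorem killsE_Rs_zero (r : Polynomial R) (i : ℕ) (hi : 1 ≤ i) :
    KillsE R r i (Rs (aa g) 0) := by
  obtain ⟨j, rfl⟩ : ∃ j, i = j + 1 := ⟨i - 1, by omega⟩
  have e : (MvPolynomial (Fin t) (Polynomial R) ⧸ J (aa g) 0) ≃ₗ[Polynomial R]
      MvPolynomial (Fin t) (Polynomial R) :=
    (Submodule.quotEquivOfEqBot (J (aa g) 0) (J_zero (aa g))).restrictScalars (Polynomial R)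
  exact killsE_of_linearEquiv e.symm (killsE_of_flat r j)

theorem J_one (ht : 0 < t) : J (aa g) 1 =
    Ideal.span {C (Polynomial.X : Polynomial R) * X (⟨0, ht⟩ : Fin t) - C (Polynomial.C (g ⟨0, ht⟩))} := by
  rw [J_succ (aa g) 0 ht, J_zero, bot_sup_eq, f_aa]

theorem flat_quot_aux (i : Fin t) (g' : R) : Module.Flat R (MvPolynomial (Fin t) (Polynomial R) ⧸
    Ideal.span {C (Polynomial.X : Polynomial R) * X i - C (Polynomial.C g')}) :=
  FlatQuot.flat_quot_of_regular (R := R) (P := MvPolynomial (Fin t) (Polynomial R))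
    (C (Polynomial.X : Polynomial R) * X i - C (Polynomial.C g'))
    (fun 𝔞 p hp => FlatQuot.mem_map_of_mul_mem 𝔞 g' i p hp)

theorem flat_Rs_one (ht : 0 < t) : Module.Flat R (Rs (aa g) 1) := by
  have h := flat_quot_aux (R := R) (⟨0, ht⟩ : Fin t) (g ⟨0, ht⟩)
  have e : (MvPolynomial (Fin t) (Polynomial R) ⧸ J (aa g) 1) ≃ₗ[R]
      (MvPolynomial (Fin t) (Polynomial R) ⧸ Ideal.span
        {C (Polynomial.X : Polynomial R) * X (⟨0, ht⟩ : Fin t) - C (Polynomial.C (g ⟨0, ht⟩))}) :=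
    (Submodule.quotEquivOfEq _ _ (J_one g ht)).restrictScalars R
  exact Module.Flat.of_linearEquiv e

/-- base case `s = 1`: the first relation is universally regular -/
theorem killsE_Rs_one (ht : 0 < t) (r : Polynomial R) (i : ℕ) (hi : 1 ≤ i) :
    KillsE R r i (Rs (aa g) 1) := by
  obtain ⟨j, rfl⟩ : ∃ j, i = j + 1 := ⟨i - 1, by omega⟩
  have := flat_Rs_one g ht
  exact killsE_of_flat r j

variable [IsNoetherianRing R]

theorem exists_killsE_Rs : ∀ (s : ℕ), 1 ≤ s → s ≤ t →
    ∃ c : ℕ, ∀ i, s ≤ i → KillsE R ((Polynomial.X : Polynomial R) ^ c) i (Rs (aa g) s) := by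
  intro s hs1
  induction s, hs1 using Nat.le_induction with
  | base =>
    intro ht
    exact ⟨0, fun i hi => killsE_Rs_one g (by omega) _ i hi⟩
  | succ s hs1 ih =>
    intro hs
    obtain ⟨c, hc⟩ := ih (by omega)
    obtain ⟨k, hk⟩ := exists_pow_kills_ker (aa g) s (by omega)
    rw [aa_zero] at hk
    refine ⟨c + (c + k), fun i hi => ?_⟩
    obtain ⟨s', rfl⟩ : ∃ s', s = s' + 1 := ⟨s - 1, by omega⟩
    have := killsE_step (A := R)
      (LinearMap.mulLeft (Polynomial R) (Ideal.Quotient.mk (J (aa g) (s' + 1))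
        (f (aa g) ⟨s' + 1, by omega⟩)))
      (trans (aa g) (s' + 1)) (trans_surjective (aa g) (s' + 1))
      (exact_mulLeft_trans (aa g) (s' + 1) (by omega)) hk hc i (by omega)
    rwa [← pow_add, ← pow_add] at this


section Laurent

open LaurentPolynomial

omit [IsNoetherianRing R]

instance instTowerLaurent : IsScalarTower R (Polynomial R) R[T;T⁻¹] :=
  IsScalarTower.of_algebraMap_eq (fun r => by
    rw [LaurentPolynomial.algebraMap_eq_toLaurent, Polynomial.algebraMap_apply,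
      Algebra.algebraMap_self, RingHom.id_apply, Polynomial.toLaurent_C,
      LaurentPolynomial.C_eq_algebraMap])

/-- `Φ : R[u][x] → R[T;T⁻¹]`, `u ↦ T`, `x_j ↦ g_j T⁻¹` -/
noncomputable def Φ : MvPolynomial (Fin t) (Polynomial R) →ₐ[Polynomial R] R[T;T⁻¹] :=
  aeval (fun j => LaurentPolynomial.C (g j) * T (-1))

lemma Φ_X (j : Fin t) : Φ g (X j) = LaurentPolynomial.C (g j) * T (-1) := by
  simp [Φ]

lemma Φ_C (a : Polynomial R) : Φ g (C a) = Polynomial.toLaurent a := by
  simp [Φ]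

instance instLocAa : IsLocalization.Away (aa g 0) R[T;T⁻¹] :=
  LaurentPolynomial.isLocalization

/-- the comparison of the two localizations -/
noncomputable def eL : Lo (aa g) ≃ₐ[Polynomial R] R[T;T⁻¹] :=
  IsLocalization.algEquiv (Submonoid.powers (aa g 0)) (Lo (aa g)) R[T;T⁻¹]

lemma eL_b (j : Fin t) : eL g (b (aa g) j) = LaurentPolynomial.C (g j) * T (-1) := by
  rw [b, eL, IsLocalization.algEquiv_mk', IsLocalization.mk'_eq_iff_eq_mul]
  rw [aa_succ]
  change Polynomial.toLaurent (Polynomial.C (g j)) = _ * Polynomial.toLaurent Polynomial.X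
  rw [Polynomial.toLaurent_C, Polynomial.toLaurent_X, mul_assoc, ← T_add]
  simp

lemma Φ_eq (p : MvPolynomial (Fin t) (Polynomial R)) : Φ g p = eL g (aeval (b (aa g)) p) := by
  have h : Φ g = (eL g).toAlgHom.comp (aeval (b (aa g))) := by
    apply MvPolynomial.algHom_ext
    intro j
    rw [Φ_X]
    simp [eL_b]
  rw [h]
  rfl

/-- elementwise: the kernel of `Φ` is `J_t` up to `u`-power torsion. -/
theorem exists_pow_mul_mem_J_of_Φ_eq_zero (p : MvPolynomial (Fin t) (Polynomial R))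
    (hp : Φ g p = 0) :
    ∃ N : ℕ, MvPolynomial.C ((Polynomial.X : Polynomial R) ^ N) * p ∈ J (aa g) t := by
  have h : aeval (b (aa g)) p = 0 := by
    rw [Φ_eq] at hp
    exact (eL g).injective (by rw [hp, map_zero])
  exact exists_pow_mul_mem_J_of_aeval_eq_zero (aa g) p h

lemma Φ_f (j : Fin t) : Φ g (f (aa g) j) = 0 := by
  rw [f_aa, map_sub, map_mul, Φ_C, Φ_C, Φ_X, Polynomial.toLaurent_C, Polynomial.toLaurent_X]
  rw [mul_left_comm, ← T_add]
  simp

/-- the extended Rees algebra, as the range of `Φ` -/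
noncomputable abbrev Bx : Subalgebra (Polynomial R) R[T;T⁻¹] := (Φ g).range

/-- `R[u][x] → B` -/
noncomputable def φB : MvPolynomial (Fin t) (Polynomial R) →ₐ[Polynomial R] Bx g :=
  (Φ g).rangeRestrict

lemma φB_coe (p : MvPolynomial (Fin t) (Polynomial R)) : ((φB g p : Bx g) : R[T;T⁻¹]) = Φ g p := rfl

lemma φB_surjective : Function.Surjective (φB g) := (Φ g).rangeRestrict_surjective

lemma φB_eq_zero_of_mem (p : MvPolynomial (Fin t) (Polynomial R)) (hp : p ∈ J (aa g) t) :
    φB g p = 0 := by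
  have hle : J (aa g) t ≤ RingHom.ker (φB g).toRingHom := by
    rw [J, Ideal.span_le]
    rintro _ ⟨j, -, rfl⟩
    apply Subtype.ext
    exact Φ_f g j
  exact hle hp

/-- `R_t → B` -/
noncomputable def φ' : Rs (aa g) t →ₗ[Polynomial R] Bx g :=
  (Ideal.Quotient.liftₐ (J (aa g) t) (φB g) (φB_eq_zero_of_mem g)).toLinearMap

lemma φ'_mk (p : MvPolynomial (Fin t) (Polynomial R)) :
    φ' g (Ideal.Quotient.mk (J (aa g) t) p) = φB g p := rfl

lemma φ'_surjective : Function.Surjective (φ' g) := by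
  intro y
  obtain ⟨p, rfl⟩ := φB_surjective g y
  exact ⟨Ideal.Quotient.mk (J (aa g) t) p, rfl⟩

theorem exists_pow_kills_ker_φ' [IsNoetherianRing R] :
    ∃ k : ℕ, ∀ x ∈ LinearMap.ker (φ' g), ((Polynomial.X : Polynomial R) ^ k) • x = 0 := by
  let K : Ideal (Rs (aa g) t) :=
    RingHom.ker (Ideal.Quotient.liftₐ (J (aa g) t) (φB g) (φB_eq_zero_of_mem g)).toRingHom
  obtain ⟨N, hN⟩ := exists_pow_mul_eq_zero_of_forall K
    (Ideal.Quotient.mk (J (aa g) t) (MvPolynomial.C (Polynomial.X : Polynomial R))) (by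
    intro y hy
    obtain ⟨p, rfl⟩ := Ideal.Quotient.mk_surjective y
    have h1 : φB g p = 0 := hy
    have h2 : Φ g p = 0 := by rw [← φB_coe, h1]; rfl
    obtain ⟨N, hN⟩ := exists_pow_mul_mem_J_of_Φ_eq_zero g p h2
    refine ⟨N, ?_⟩
    rw [← map_pow, ← map_mul, Ideal.Quotient.eq_zero_iff_mem, ← C_pow]
    exact hN)
  refine ⟨N, fun x hx => ?_⟩
  have hxK : x ∈ K := hx
  have := hN x hxK
  obtain ⟨p, rfl⟩ := Ideal.Quotient.mk_surjective x
  rw [smul_mk, C_pow, map_mul, map_pow]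
  exact this

theorem exists_killsE_Bx [IsNoetherianRing R] (ht : 0 < t) :
    ∃ c : ℕ, ∀ i, t ≤ i → KillsE R ((Polynomial.X : Polynomial R) ^ c) i (Bx g) := by
  obtain ⟨c, hc⟩ := exists_killsE_Rs g t ht le_rfl
  obtain ⟨k, hk⟩ := exists_pow_kills_ker_φ' g
  refine ⟨c + k, fun i hi => ?_⟩
  obtain ⟨n, rfl⟩ : ∃ n, i = n + 1 := ⟨i - 1, by omega⟩
  have := killsE_of_surjective (A := R) (φ' g) (φ'_surjective g) hk (hc (n + 1) hi)
  rwa [← pow_add] at this

end Laurent


section Retract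

open LaurentPolynomial

omit [IsNoetherianRing R]

/-- the ideal `I = (g_0, …, g_{t-1})` -/
abbrev II : Ideal R := Ideal.span (Set.range g)

lemma C_mem_Bx (c : R) : LaurentPolynomial.C c ∈ Bx g :=
  ⟨MvPolynomial.C (Polynomial.C c), by
    change Φ g (MvPolynomial.C (Polynomial.C c)) = _
    rw [Φ_C, Polynomial.toLaurent_C]⟩

lemma C_mul_T_neg_one_mem {z : R} (hz : z ∈ II g) :
    LaurentPolynomial.C z * T (-1) ∈ Bx g := by
  induction hz using Submodule.span_induction with
  | mem z hz =>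
    obtain ⟨j, rfl⟩ := hz
    exact ⟨X j, Φ_X g j⟩
  | zero =>
    rw [map_zero, zero_mul]
    exact Subalgebra.zero_mem _
  | add x y _ _ hx hy =>
    rw [map_add, add_mul]
    exact Subalgebra.add_mem _ hx hy
  | smul c x _ hx =>
    rw [smul_eq_mul, map_mul, mul_assoc]
    exact Subalgebra.mul_mem _ (C_mem_Bx g c) hx

lemma C_mul_T_mem_of_mem_pow (n : ℕ) {x : R} (hx : x ∈ II g ^ n) :
    LaurentPolynomial.C x * T (-(n : ℤ)) ∈ Bx g := by
  induction n generalizing x with
  | zero =>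
    simp only [Nat.cast_zero, neg_zero, T_zero, mul_one]
    exact C_mem_Bx g x
  | succ n ih =>
    rw [pow_succ] at hx
    refine Submodule.mul_induction_on hx ?_ ?_
    · intro y hy z hz
      have h : LaurentPolynomial.C (y * z) * T (-((n + 1 : ℕ) : ℤ)) =
          (LaurentPolynomial.C y * T (-(n : ℤ))) * (LaurentPolynomial.C z * T (-1)) := by
        rw [map_mul]
        push_cast
        rw [neg_add, T_add]
        ring
      rw [h]
      exact Subalgebra.mul_mem _ (ih hy) (C_mul_T_neg_one_mem g hz)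
    · intro x y hx hy
      rw [map_add, add_mul]
      exact Subalgebra.add_mem _ hx hy

/-- the coefficient condition -/
def Good (p : R[T;T⁻¹]) : Prop := ∀ n : ℕ, p.coeff (-(n : ℤ)) ∈ II g ^ n

lemma good_toLaurent (a : Polynomial R) : Good g (Polynomial.toLaurent a) := by
  intro n
  rcases Nat.eq_zero_or_pos n with rfl | hn
  · rw [pow_zero, Ideal.one_eq_top]
    trivial
  · have : (Polynomial.toLaurent a).coeff (-(n : ℤ)) = 0 := by
      rw [coeff_toLaurent]
      apply Finsupp.mapDomain_of_notMem_range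
      rintro ⟨k, hk⟩
      have : (k : ℤ) = -(n : ℤ) := hk
      omega
    rw [this]
    exact Ideal.zero_mem _

lemma good_add {p q : R[T;T⁻¹]} (hp : Good g p) (hq : Good g q) : Good g (p + q) := by
  intro n
  rw [AddMonoidAlgebra.coeff_add, Finsupp.add_apply]
  exact Ideal.add_mem _ (hp n) (hq n)

lemma good_mul {p : R[T;T⁻¹]} (hp : Good g p) {z : R} (hz : z ∈ II g) :
    Good g (p * (LaurentPolynomial.C z * T (-1))) := by
  intro n
  rw [← single_eq_C_mul_T, AddMonoidAlgebra.coeff_mul_single_apply]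
  rcases Nat.eq_zero_or_pos n with rfl | hn
  · rw [pow_zero, Ideal.one_eq_top]
    trivial
  · obtain ⟨k, rfl⟩ : ∃ k, n = k + 1 := ⟨n - 1, by omega⟩
    have h : (-((k + 1 : ℕ) : ℤ) + - -1) = -(k : ℤ) := by
      push_cast
      ring
    rw [h, pow_succ]
    exact Ideal.mul_mem_mul (hp k) hz

lemma good_Φ (q : MvPolynomial (Fin t) (Polynomial R)) : Good g (Φ g q) := by
  induction q using MvPolynomial.induction_on with
  | C a =>
    rw [Φ_C]
    exact good_toLaurent g a
  | add p q hp hq =>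
    rw [map_add]
    exact good_add g hp hq
  | mul_X p j hp =>
    rw [map_mul, Φ_X]
    exact good_mul g hp (Ideal.subset_span ⟨j, rfl⟩)

/-- inclusion of the degree `-n` part -/
noncomputable def inc (n : ℕ) : ↥(II g ^ n) →ₗ[R] Bx g where
  toFun x := ⟨LaurentPolynomial.C (x : R) * T (-(n : ℤ)), C_mul_T_mem_of_mem_pow g n x.2⟩
  map_add' x y := by
    apply Subtype.ext
    simp [add_mul]
  map_smul' c x := by
    apply Subtype.ext
    simp [LaurentPolynomial.smul_eq_C_mul, mul_assoc]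

/-- projection to the degree `-n` part -/
noncomputable def prj (n : ℕ) : Bx g →ₗ[R] ↥(II g ^ n) where
  toFun y := ⟨(y : R[T;T⁻¹]).coeff (-(n : ℤ)), by
    obtain ⟨q, hq⟩ := y.2
    rw [← hq]
    exact good_Φ g q n⟩
  map_add' x y := by
    apply Subtype.ext
    simp
  map_smul' c x := by
    apply Subtype.ext
    simp

lemma prj_smul_inc (n c : ℕ) (hc : c ≤ n) (x : ↥(II g ^ n)) :
    ((prj g (n - c) (((Polynomial.X : Polynomial R) ^ c) • inc g n x) : ↥(II g ^ (n - c))) : R) =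
      (x : R) := by
  have h1 : ((((Polynomial.X : Polynomial R) ^ c) • inc g n x : Bx g) : R[T;T⁻¹]) =
      LaurentPolynomial.C (x : R) * T (-((n - c : ℕ) : ℤ)) := by
    change ((Polynomial.X : Polynomial R) ^ c) • (LaurentPolynomial.C (x : R) * T (-(n : ℤ))) = _
    rw [Algebra.smul_def, LaurentPolynomial.algebraMap_eq_toLaurent, Polynomial.toLaurent_X_pow,
      mul_left_comm, ← T_add]
    congr 2
    push_cast [hc]
    ring
  change ((((Polynomial.X : Polynomial R) ^ c) • inc g n x : Bx g) : R[T;T⁻¹]).coeff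
    (-((n - c : ℕ) : ℤ)) = _
  rw [h1, ← single_eq_C_mul_T, AddMonoidAlgebra.coeff_single, Finsupp.single_eq_same]

end Retract


/-- **Main**: `Tor_t^R(I^n, M) → Tor_t^R(I^{n-c}, M)` vanishes for `n ≥ c`, `I = (g_0, …, g_{t-1})`,
`t ≥ 1`. -/
theorem exists_zeroTM_inclusion (ht : 0 < t) :
    ∃ c : ℕ, ∀ n : ℕ, c ≤ n →
      ZeroTM t (Submodule.inclusion (Ideal.pow_le_pow_right (Nat.sub_le n c)) :
        ↥(II g ^ n) →ₗ[R] ↥(II g ^ (n - c))) := by
  obtain ⟨c, hc⟩ := exists_killsE_Bx g ht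
  refine ⟨c, fun n hn => ?_⟩
  refine zeroTM_of_killsE (A := R) (inc g n) (prj g (n - c)) _ ?_ (hc t le_rfl)
  intro w
  apply Subtype.ext
  exact prj_smul_inc g n c hn w

end Groth.Agent.Lib.Helper94.ExtReesTor
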