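import Mathlib
import Groth.Prelude.Def_DRing2
import Groth.Agent.Lib.Helper94.ExtReesTor
import Groth.Agent.Lib.Helper15.TorSymm

/-!
# `Tor_{t+1}(M, R/I^n) → Tor_{t+1}(M, R/I^{n-c})` vanishes uniformly (helper94)
-/

set_option autoImplicit false
universe u
open CategoryTheory

namespace Groth.Agent.Lib.Helper94.ExtReesMain

open Groth.Agent.Lib.Helper94.TorKill Groth.Agent.Lib.Helper94.TorKillE
  Groth.Agent.Lib.Helper94.ExtReesTor

variable {R : Type u} [CommRing R]

/-- transfer to the second variable via symmetry of `Tor` -/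
lemma map_eq_zero_of_zeroTM {X Y : Type u} [AddCommGroup X] [Module R X] [AddCommGroup Y]
    [Module R Y] {q : X →ₗ[R] Y} {n : ℕ} (h : ZeroTM n q) (M : ModuleCat.{u} R) :
    ((Tor (ModuleCat.{u} R) n).obj M).map (ModuleCat.ofHom q) = 0 := by
  let e := ((Groth.Agent.Lib.Helper15.TorSymm.torSymm (R := R) n).app M).app (ModuleCat.of R Y)
  have hnat := ((Groth.Agent.Lib.Helper15.TorSymm.torSymm (R := R) n).hom.app M).naturality
    (ModuleCat.ofHom q)
  have h0 : ((Tor (ModuleCat.{u} R) n).flip.obj M).map (ModuleCat.ofHom q) = 0 := h M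
  rw [h0] at hnat
  have hnat' : ((Tor (ModuleCat.{u} R) n).obj M).map (ModuleCat.ofHom q) ≫ e.hom = 0 :=
    hnat.trans (Limits.comp_zero (C := ModuleCat.{u} R))
  calc ((Tor (ModuleCat.{u} R) n).obj M).map (ModuleCat.ofHom q)
      = ((Tor (ModuleCat.{u} R) n).obj M).map (ModuleCat.ofHom q) ≫ e.hom ≫ e.inv := by
        rw [e.hom_inv_id, Category.comp_id]
    _ = 0 := by
        rw [← Category.assoc, hnat']
        exact Limits.zero_comp (C := ModuleCat.{u} R)

/-- from `Tor_t(I^n → I^m)` to `Tor_{t+1}(R/I^n → R/I^m)` -/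
lemma zeroTM_mapQ {I₁ I₂ : Ideal R} (h : I₁ ≤ I₂) {k : ℕ}
    (hz : ZeroTM k (Submodule.inclusion h : ↥I₁ →ₗ[R] ↥I₂)) :
    ZeroTM (k + 1) (Submodule.mapQ I₁ I₂ LinearMap.id h) := by
  have h2 : ZeroTM (k + 1) (LinearMap.id : R →ₗ[R] R) := zeroTM_of_flat_source _ k
  have := zeroTM_right (A := R) I₁.subtype I₁.mkQ (Submodule.injective_subtype _)
    (Submodule.mkQ_surjective _) (LinearMap.exact_subtype_mkQ I₁)
    I₂.subtype I₂.mkQ (Submodule.injective_subtype _)
    (Submodule.mkQ_surjective _) (LinearMap.exact_subtype_mkQ I₂)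
    (Submodule.inclusion h) LinearMap.id (Submodule.mapQ I₁ I₂ LinearMap.id h)
    (by ext x; rfl) (by ext; rfl)
    I₂.mkQ LinearMap.id LinearMap.id (by ext; rfl) hz h2
  rwa [LinearMap.id_comp] at this

theorem main_of_family [IsNoetherianRing R] {t : ℕ} (ht : 0 < t) (g : Fin t → R) :
    ∃ c : ℕ, ∀ (M : ModuleCat.{u} R) (n : ℕ), c ≤ n →
      ((Tor (ModuleCat.{u} R) (t + 1)).obj M).map
        (ModuleCat.ofHom (Submodule.mapQ (II g ^ n) (II g ^ (n - c)) LinearMap.id
          (Ideal.pow_le_pow_right (Nat.sub_le n c)))) = 0 := by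
  obtain ⟨c, hc⟩ := exists_zeroTM_inclusion g ht
  refine ⟨c, fun M n hn => ?_⟩
  exact map_eq_zero_of_zeroTM (zeroTM_mapQ _ (hc n hn)) M


lemma flat_quot_bot_pow (n : ℕ) : Module.Flat R (R ⧸ (⊥ : Ideal R) ^ n) := by
  rcases Nat.eq_zero_or_pos n with rfl | hn
  · have : Subsingleton (R ⧸ (⊥ : Ideal R) ^ 0) :=
      Ideal.Quotient.subsingleton_iff.mpr (by rw [pow_zero, Ideal.one_eq_top])
    infer_instance
  · have e : (R ⧸ (⊥ : Ideal R) ^ n) ≃ₗ[R] R :=
      Submodule.quotEquivOfEqBot _ (Ideal.bot_pow (by omega))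
    exact Module.Flat.of_linearEquiv e

lemma exists_family (s : Finset R) (t : ℕ) (ht : s.card ≤ t) :
    ∃ g : Fin t → R, Ideal.span (Set.range g) = Ideal.span (s : Set R) := by
  classical
  let e := s.equivFin
  let g : Fin t → R := fun j => if h : (j : ℕ) < s.card then ((e.symm ⟨j, h⟩ : s) : R) else 0
  refine ⟨g, le_antisymm ?_ ?_⟩
  · rw [Ideal.span_le]
    rintro _ ⟨j, rfl⟩
    by_cases h : (j : ℕ) < s.card
    · simp only [g, h, dif_pos]
      exact Ideal.subset_span (e.symm ⟨j, h⟩).2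
    · simp only [g, h, dif_neg, not_false_eq_true]
      exact Ideal.zero_mem _
  · rw [Ideal.span_le]
    intro x hx
    have hlt : ((e ⟨x, hx⟩ : Fin s.card) : ℕ) < t := lt_of_lt_of_le (e ⟨x, hx⟩).2 ht
    have hx' : x = g ⟨(e ⟨x, hx⟩ : Fin s.card), hlt⟩ := by
      simp [g]
    rw [hx']
    exact Ideal.subset_span ⟨_, rfl⟩

theorem main (R : Type u) [CommRing R] [IsNoetherianRing R] (I : Ideal R) (t : ℕ) (s : Finset R)
    (hs : I = Ideal.span (s : Set R)) (ht : s.card ≤ t) :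
    ∃ N c : ℕ, ∀ (M : Type u) [AddCommGroup M] [Module R M], ∀ n : ℕ, N ≤ n →
      (((Tor (ModuleCat.{u} R) (t + 1)).obj (ModuleCat.of R M)).map
        (ModuleCat.ofHom (Submodule.mapQ (I ^ n) (I ^ (n - c)) LinearMap.id
          (Ideal.pow_le_pow_right (Nat.sub_le n c))))) = 0 := by
  rcases Nat.eq_zero_or_pos t with rfl | htpos
  · have hs0 : s = ∅ := Finset.card_eq_zero.mp (by omega)
    have hI : I = ⊥ := by rw [hs, hs0, Finset.coe_empty, Ideal.span_empty]
    subst hI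
    refine ⟨0, 0, fun M _ _ n _ => ?_⟩
    have := flat_quot_bot_pow (R := R) n
    exact map_eq_zero_of_zeroTM (zeroTM_of_flat_source _ 0) _
  · obtain ⟨g, hg⟩ := exists_family s t ht
    obtain ⟨c, hc⟩ := main_of_family htpos g
    have key : ∀ I' : Ideal R, Ideal.span (Set.range g) = I' →
        ∀ (M : ModuleCat.{u} R) (n : ℕ), c ≤ n →
          ((Tor (ModuleCat.{u} R) (t + 1)).obj M).map
            (ModuleCat.ofHom (Submodule.mapQ (I' ^ n) (I' ^ (n - c)) LinearMap.id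
              (Ideal.pow_le_pow_right (Nat.sub_le n c)))) = 0 := by
      rintro _ rfl
      exact hc
    refine ⟨c, c, fun M _ _ n hn => ?_⟩
    exact key I (hg.trans hs.symm) (ModuleCat.of R M) n hn

end Groth.Agent.Lib.Helper94.ExtReesMain
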