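import Mathlib
import Groth.Agent.Lib.Helper94.FibreUnmixed
import Groth.Agent.S16713

/-!
# Helper94: unmixedness of fibres of flat complete intersections (S18126), main lemma

`eq_maximalIdeal_of_comap_eq`: `T = A[X]_𝔞`, `l` an `H_1`-regular sequence in the maximal ideal with
`T ⧸ (l)` flat over the Noetherian ring `A`; if the maximal ideal is associated to `T ⧸ (l)` then it
is minimal among the primes over `(l)` with the same contraction to `A`.
-/

set_option autoImplicit false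
universe u

namespace Groth.Agent.Lib.Helper94.FibreUnmixed

open Groth.Agent.Lib.Helper94


/-- Localizing a surjection, with the source prime given up to equality. -/
theorem localRingHom_surjective_and_ker {P A : Type u} [CommRing P] [CommRing A] (φ : P →+* A)
    (hφ : Function.Surjective φ) (I : Ideal P) [I.IsPrime] (q : Ideal A) [q.IsPrime]
    (h : I = q.comap φ) :
    Function.Surjective (Localization.localRingHom I q φ h) ∧
      RingHom.ker (Localization.localRingHom I q φ h) =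
        (RingHom.ker φ).map (algebraMap P (Localization.AtPrime I)) := by
  subst h
  exact ⟨SurjLoc.locHom_surjective φ q hφ, SurjLoc.ker_locHom φ q hφ⟩

open IsLocalRing in
/-- Core of the unmixedness argument, with the regular fibre ring `R₀ = T ⧸ 𝔭T` given. -/
theorem eq_maximalIdeal_of_comap_eq_aux {A T R₀ : Type u} [CommRing A] [IsNoetherianRing A]
    [CommRing T] [IsLocalRing T] [IsNoetherianRing T] [Algebra A T] [CommRing R₀]
    [IsRegularLocalRing R₀] (ψ : T →+* R₀) (hψ : Function.Surjective ψ) (𝔭₀ : Ideal A)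
    (h𝔭₀ : 𝔭₀ = (maximalIdeal T).comap (algebraMap A T))
    (hkerψ : RingHom.ker ψ = 𝔭₀.map (algebraMap A T))
    {c : ℕ} (l : Fin c → T) (hl : ∀ i, l i ∈ maximalIdeal T) (h1 : CAlgX.IsH1Regular l)
    (hflat : Module.Flat A (T ⧸ Ideal.span (Set.range l)))
    (hass : maximalIdeal T ∈ associatedPrimes T (T ⧸ Ideal.span (Set.range l)))
    (𝔔 : Ideal T) [𝔔.IsPrime] (hJ𝔔 : Ideal.span (Set.range l) ≤ 𝔔)
    (h𝔔 : 𝔔.comap (algebraMap A T) = (maximalIdeal T).comap (algebraMap A T)) :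
    𝔔 = maximalIdeal T := by
  subst h𝔭₀
  set J : Ideal T := Ideal.span (Set.range l) with hJ
  set 𝔭 : Ideal A := (maximalIdeal T).comap (algebraMap A T) with h𝔭def
  have hmax : ∀ t : T, ψ t ∈ maximalIdeal R₀ ↔ t ∈ maximalIdeal T := by
    intro t
    constructor
    · intro h
      rw [mem_maximalIdeal, mem_nonunits_iff] at h ⊢
      exact fun hu => h (hu.map ψ)
    · intro h
      rw [mem_maximalIdeal, mem_nonunits_iff] at h ⊢
      intro hu
      obtain ⟨s, hs⟩ := hψ (hu.unit⁻¹ : R₀ˣ)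
      have h2 : t * s - 1 ∈ RingHom.ker ψ := by
        rw [RingHom.mem_ker, map_sub, map_mul, hs, map_one]
        simp
      have h3 : t * s - 1 ∈ maximalIdeal T := by
        rw [hkerψ] at h2
        have hle : 𝔭.map (algebraMap A T) ≤ maximalIdeal T := by
          rw [Ideal.map_le_iff_le_comap]
        exact hle h2
      have h4 : t * s ∈ maximalIdeal T := Ideal.mul_mem_right _ _ h
      have h5 : (1 : T) ∈ maximalIdeal T := by
        have := Ideal.sub_mem _ h4 h3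
        rwa [sub_sub_cancel] at this
      exact (Ideal.ne_top_iff_one _).mp (maximalIdeal.isMaximal T).ne_top h5
  -- the sequence downstairs
  have h1' : CAlgX.IsH1Regular (fun i => ψ (l i)) :=
    isH1Regular_map_of_flat (R₀ := R₀) l hflat h1 𝔭 ψ hψ hkerψ
  have hl' : ∀ i, ψ (l i) ∈ maximalIdeal R₀ := fun i => (hmax _).mpr (hl i)
  have hspan : Ideal.span (Set.range fun i => ψ (l i)) = J.map ψ := by
    rw [hJ, Ideal.map_span, ← Set.range_comp]
    rfl
  -- the maximal ideal downstairs is associated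
  obtain ⟨x, hx⟩ := exists_colon_eq_maximalIdeal (A := A) J hass
  have hass' : maximalIdeal R₀ ∈
      associatedPrimes R₀ (R₀ ⧸ Ideal.span (Set.range fun i => ψ (l i))) := by
    rw [AssociatedPrimes.mem_iff, isAssociatedPrime_iff]
    refine ⟨inferInstance, Ideal.Quotient.mk _ (ψ x), ?_⟩
    ext r
    obtain ⟨t, rfl⟩ := hψ r
    rw [hmax, hx, Submodule.mem_colon_singleton, Submodule.mem_bot, ← Ideal.Quotient.mk_eq_mk,
      ← Submodule.Quotient.mk_smul, Ideal.Quotient.mk_eq_mk, Ideal.Quotient.eq_zero_iff_mem,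
      smul_eq_mul, ← map_mul, hspan, ← Ideal.mem_comap, Ideal.comap_map_of_surjective' ψ hψ,
      hkerψ]
  have hmin := Groth.Agent.S16713.mem_minimalPrimes_of_mem_associatedPrimes_of_isH1Regular R₀
    (fun i => ψ (l i)) hl' h1' hass'
  -- conclusion
  have hkerle : RingHom.ker ψ ≤ 𝔔 := by
    rw [hkerψ, Ideal.map_le_iff_le_comap, h𝔔]
  have h𝔔'p : (𝔔.map ψ).IsPrime := Ideal.map_isPrime_of_surjective hψ hkerle
  have h𝔔'J : Ideal.span (Set.range fun i => ψ (l i)) ≤ 𝔔.map ψ := by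
    rw [hspan]; exact Ideal.map_mono hJ𝔔
  have h𝔔'le : 𝔔.map ψ ≤ maximalIdeal R₀ := le_maximalIdeal h𝔔'p.ne_top
  have h𝔔'eq : 𝔔.map ψ = maximalIdeal R₀ := le_antisymm h𝔔'le (hmin.2 ⟨h𝔔'p, h𝔔'J⟩ h𝔔'le)
  have h𝔔eq : 𝔔 = (𝔔.map ψ).comap ψ := by
    rw [Ideal.comap_map_of_surjective' ψ hψ, sup_eq_left.mpr hkerle]
  rw [h𝔔eq, h𝔔'eq]
  ext t
  rw [Ideal.mem_comap, hmax]


open IsLocalRing in
/-- Unmixedness of the fibres: in the local ring `T` of `A[X]` at a prime, if `T ⧸ (l)` is flat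
over `A` for an `H_1`-regular sequence `l` and the maximal ideal of `T` is associated to
`T ⧸ (l)`, then no smaller prime containing `(l)` has the same contraction to `A`. -/
theorem eq_maximalIdeal_of_comap_eq (A : Type u) [CommRing A] [IsNoetherianRing A] (n : ℕ)
    (𝔞₀ : Ideal (MvPolynomial (Fin n) A)) [𝔞₀.IsPrime] {c : ℕ}
    (l : Fin c → Localization.AtPrime 𝔞₀)
    (hl : ∀ i, l i ∈ maximalIdeal (Localization.AtPrime 𝔞₀))
    (h1 : CAlgX.IsH1Regular l)
    (hflat : Module.Flat A (Localization.AtPrime 𝔞₀ ⧸ Ideal.span (Set.range l)))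
    (hass : maximalIdeal (Localization.AtPrime 𝔞₀) ∈
      associatedPrimes (Localization.AtPrime 𝔞₀)
        (Localization.AtPrime 𝔞₀ ⧸ Ideal.span (Set.range l)))
    (𝔔 : Ideal (Localization.AtPrime 𝔞₀)) [𝔔.IsPrime] (hJ𝔔 : Ideal.span (Set.range l) ≤ 𝔔)
    (h𝔔 : 𝔔.comap (algebraMap A (Localization.AtPrime 𝔞₀)) =
      (maximalIdeal (Localization.AtPrime 𝔞₀)).comap (algebraMap A (Localization.AtPrime 𝔞₀))) :
    𝔔 = maximalIdeal (Localization.AtPrime 𝔞₀) := by
  let S := MvPolynomial (Fin n) A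
  let T := Localization.AtPrime 𝔞₀
  obtain ⟨𝔭, h𝔭def⟩ : ∃ 𝔭 : Ideal A, 𝔭 = (maximalIdeal T).comap (algebraMap A T) := ⟨_, rfl⟩
  have h𝔭p : 𝔭.IsPrime := h𝔭def ▸ Ideal.comap_isPrime _ _
  have h𝔭 : 𝔭 = 𝔞₀.comap (algebraMap A S) := by
    rw [h𝔭def, IsScalarTower.algebraMap_eq A S T, ← Ideal.comap_comap,
      show Ideal.comap (algebraMap S T) (maximalIdeal T) = 𝔞₀ from
        IsLocalization.AtPrime.under_maximalIdeal T 𝔞₀]
  let φ : S →+* MvPolynomial (Fin n) (A ⧸ 𝔭) := MvPolynomial.map (Ideal.Quotient.mk 𝔭)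
  have hφ : Function.Surjective φ := MvPolynomial.map_surjective _ Ideal.Quotient.mk_surjective
  have hkerφ : RingHom.ker φ = 𝔭.map (algebraMap A S) := by
    rw [MvPolynomial.ker_map, Ideal.mk_ker, MvPolynomial.algebraMap_eq]
  have hker𝔞 : RingHom.ker φ ≤ 𝔞₀ := by
    rw [hkerφ, Ideal.map_le_iff_le_comap, h𝔭]
  have h𝔞Dp : (𝔞₀.map φ).IsPrime := Ideal.map_isPrime_of_surjective hφ hker𝔞
  have hcomap : (𝔞₀.map φ).comap φ = 𝔞₀ := by
    rw [Ideal.comap_map_of_surjective' φ hφ, sup_eq_left]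
    exact hker𝔞
  have h𝔞D : (𝔞₀.map φ).comap (MvPolynomial.C (σ := Fin n)) = ⊥ := by
    rw [eq_bot_iff]
    intro d hd
    obtain ⟨a, rfl⟩ := Ideal.Quotient.mk_surjective d
    rw [Ideal.mem_comap] at hd
    have h2 : φ (MvPolynomial.C a) ∈ 𝔞₀.map φ := by
      rw [MvPolynomial.map_C]; exact hd
    have h3 : MvPolynomial.C a ∈ 𝔞₀ := by
      rw [← hcomap]; exact h2
    have h4 : a ∈ 𝔭 := by
      rw [h𝔭, Ideal.mem_comap, MvPolynomial.algebraMap_eq]; exact h3
    rw [Ideal.mem_bot]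
    exact Ideal.Quotient.eq_zero_iff_mem.mpr h4
  have hR0 : IsRegularLocalRing (Localization.AtPrime (𝔞₀.map φ)) :=
    isRegularLocalRing_atPrime_mvPolynomial_of_comap_eq_bot (A ⧸ 𝔭) n (𝔞₀.map φ) h𝔞D
  obtain ⟨hψ, hkerψ0⟩ := localRingHom_surjective_and_ker φ hφ 𝔞₀ (𝔞₀.map φ) hcomap.symm
  have hkerψ : RingHom.ker (Localization.localRingHom 𝔞₀ (𝔞₀.map φ) φ hcomap.symm) =
      𝔭.map (algebraMap A T) := by
    rw [hkerψ0, hkerφ, Ideal.map_map, ← IsScalarTower.algebraMap_eq]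
  exact eq_maximalIdeal_of_comap_eq_aux (A := A) (T := T) (R₀ := Localization.AtPrime (𝔞₀.map φ))
    (Localization.localRingHom 𝔞₀ (𝔞₀.map φ) φ hcomap.symm) hψ 𝔭 h𝔭def hkerψ l hl h1 hflat hass 𝔔 hJ𝔔 h𝔔

end Groth.Agent.Lib.Helper94.FibreUnmixed
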