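import Mathlib
import Groth.Prelude.Def_GrMod2

/-!
# Functoriality of `M ↦ M(n)~` on `Proj` for graded linear maps (helper94)

No `DirectSum.Decomposition` hypothesis on the (ℕ-indexed) families: this is needed for ℕ-truncations
of ℤ-graded modules.
-/

set_option autoImplicit false
universe u
open CategoryTheory AlgebraicGeometry TopologicalSpace Opposite

namespace Groth.Agent.Lib.Helper94.GrTildeMap

variable {R A : Type u} [CommRing R] [CommRing A] [Algebra R A] (𝒜 : ℕ → Submodule R A)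
  [GradedAlgebra 𝒜]
variable {M N P : Type u} [AddCommGroup M] [Module R M] [Module A M]
  [AddCommGroup N] [Module R N] [Module A N] [AddCommGroup P] [Module R P] [Module A P]

/-- the localized map at a point of `Proj`. -/
noncomputable def locMap (φ : M →ₗ[A] N) (x : ProjectiveSpectrum 𝒜) :
    GrTilde.LocMod 𝒜 (M := M) x →ₗ[A] GrTilde.LocMod 𝒜 (M := N) x :=
  IsLocalizedModule.map x.asHomogeneousIdeal.toIdeal.primeCompl
    (LocalizedModule.mkLinearMap _ M) (LocalizedModule.mkLinearMap _ N) φ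

theorem locMap_mk (φ : M →ₗ[A] N) (x : ProjectiveSpectrum 𝒜) (m : M)
    (s : x.asHomogeneousIdeal.toIdeal.primeCompl) :
    locMap 𝒜 φ x (LocalizedModule.mk m s) = LocalizedModule.mk (φ m) s :=
  IsLocalizedModule.map_LocalizedModules _ _ _ _

theorem locMap_smul (φ : M →ₗ[A] N) (x : ProjectiveSpectrum 𝒜) (c : Twist.Loc 𝒜 x)
    (q : GrTilde.LocMod 𝒜 (M := M) x) :
    locMap 𝒜 φ x (c • q) = c • locMap 𝒜 φ x q := by
  induction c using Localization.induction_on with | H c =>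
  induction q using LocalizedModule.induction_on with | h m s =>
  rw [LocalizedModule.mk_smul_mk, locMap_mk, locMap_mk, LocalizedModule.mk_smul_mk, map_smul]

theorem locMap_id (x : ProjectiveSpectrum 𝒜) (q : GrTilde.LocMod 𝒜 (M := M) x) :
    locMap 𝒜 (LinearMap.id : M →ₗ[A] M) x q = q := by
  induction q using LocalizedModule.induction_on with | h m s =>
  rw [locMap_mk, LinearMap.id_apply]

theorem locMap_comp (φ : M →ₗ[A] N) (ψ : N →ₗ[A] P) (x : ProjectiveSpectrum 𝒜)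
    (q : GrTilde.LocMod 𝒜 (M := M) x) :
    locMap 𝒜 (ψ ∘ₗ φ) x q = locMap 𝒜 ψ x (locMap 𝒜 φ x q) := by
  induction q using LocalizedModule.induction_on with | h m s =>
  rw [locMap_mk, locMap_mk, locMap_mk, LinearMap.comp_apply]

theorem locMap_add (φ φ' : M →ₗ[A] N) (x : ProjectiveSpectrum 𝒜)
    (q : GrTilde.LocMod 𝒜 (M := M) x) :
    locMap 𝒜 (φ + φ') x q = locMap 𝒜 φ x q + locMap 𝒜 φ' x q := by
  unfold locMap
  rw [map_add, LinearMap.add_apply]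

theorem locMap_zero (x : ProjectiveSpectrum 𝒜) (q : GrTilde.LocMod 𝒜 (M := M) x) :
    locMap 𝒜 (0 : M →ₗ[A] N) x q = 0 := by
  induction q using LocalizedModule.induction_on with | h m s =>
  rw [locMap_mk, LinearMap.zero_apply, LocalizedModule.zero_mk]

variable (ℳ : ℕ → Submodule R M) (𝒩 : ℕ → Submodule R N) (𝒬 : ℕ → Submodule R P)

/-- `φ` is graded of degree `0`. -/
def IsGr (φ : M →ₗ[A] N) : Prop := ∀ i : ℕ, ∀ m ∈ ℳ i, φ m ∈ 𝒩 i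

variable {ℳ 𝒩 𝒬}

theorem isGr_id : IsGr ℳ ℳ (LinearMap.id : M →ₗ[A] M) := fun _ _ h => h

theorem IsGr.comp {φ : M →ₗ[A] N} {ψ : N →ₗ[A] P} (hφ : IsGr ℳ 𝒩 φ) (hψ : IsGr 𝒩 𝒬 ψ) :
    IsGr ℳ 𝒬 (ψ ∘ₗ φ) := fun i m hm => hψ i _ (hφ i m hm)

theorem IsGr.add {φ φ' : M →ₗ[A] N} (hφ : IsGr ℳ 𝒩 φ) (hφ' : IsGr ℳ 𝒩 φ') :
    IsGr ℳ 𝒩 (φ + φ') := fun i m hm => add_mem (hφ i m hm) (hφ' i m hm)

theorem isGr_zero : IsGr ℳ 𝒩 (0 : M →ₗ[A] N) := fun i _ _ => zero_mem _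

theorem locMap_mem_tildeAt {φ : M →ₗ[A] N} (hφ : IsGr ℳ 𝒩 φ) (n : ℤ) (x : ProjectiveSpectrum 𝒜)
    (q : GrTilde.LocMod 𝒜 (M := M) x) (hq : q ∈ GrTilde.tildeAt 𝒜 ℳ n x) :
    locMap 𝒜 φ x q ∈ GrTilde.tildeAt 𝒜 𝒩 n x := by
  induction hq using Submodule.span_induction with
  | mem q hq =>
    obtain ⟨i, j, m, s, hs, hd, rfl⟩ := hq
    rw [locMap_mk]
    exact Submodule.subset_span ⟨i, j, ⟨φ m.1, hφ i m.1 m.2⟩, s, hs, hd, rfl⟩
  | zero => rw [map_zero]; exact Submodule.zero_mem _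
  | add q q' _ _ h h' => rw [map_add]; exact Submodule.add_mem _ h h'
  | smul c q _ h =>
    rw [GrTilde.a0_smul_def, locMap_smul]
    exact Submodule.smul_mem _ c h

variable [SetLike.GradedSMul 𝒜 ℳ] [SetLike.GradedSMul 𝒜 𝒩] [SetLike.GradedSMul 𝒜 𝒬]

/-- the map on sections. -/
noncomputable def mapSect {φ : M →ₗ[A] N} (hφ : IsGr ℳ 𝒩 φ) (n : ℤ)
    (U : (Opens (ProjectiveSpectrum.top 𝒜))ᵒᵖ) (s : GrTilde.sect 𝒜 ℳ n U) :
    GrTilde.sect 𝒜 𝒩 n U :=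
  ⟨fun x => ⟨locMap 𝒜 φ x.1 (s.1 x).1, locMap_mem_tildeAt 𝒜 hφ n x.1 _ (s.1 x).2⟩, fun x => by
    obtain ⟨V, hxV, i, i', j, m, t, nin, h, w⟩ := s.2 x
    refine ⟨V, hxV, i, i', j, ⟨φ m.1, hφ _ _ m.2⟩, t, nin, h.imp id (fun h0 => ?_), fun y => ?_⟩
    · show φ m.1 = 0
      rw [h0, map_zero]
    · show locMap 𝒜 φ _ _ = _
      erw [w y, locMap_mk]⟩

theorem mapSect_val {φ : M →ₗ[A] N} (hφ : IsGr ℳ 𝒩 φ) (n : ℤ)
    (U : (Opens (ProjectiveSpectrum.top 𝒜))ᵒᵖ) (s : GrTilde.sect 𝒜 ℳ n U) (x : U.unop) :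
    ((mapSect 𝒜 hφ n U s).1 x).1 = locMap 𝒜 φ x.1 (s.1 x).1 := rfl

/-- the morphism of abelian presheaves. -/
noncomputable def mapPre {φ : M →ₗ[A] N} (hφ : IsGr ℳ 𝒩 φ) (n : ℤ) :
    GrTilde.tildePre 𝒜 ℳ n ⟶ GrTilde.tildePre 𝒜 𝒩 n where
  app U := AddCommGrpCat.ofHom
    { toFun := mapSect 𝒜 hφ n U
      map_zero' := by
        apply Subtype.ext; funext x; apply Subtype.ext
        show locMap 𝒜 φ x.1 0 = 0
        rw [map_zero]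
      map_add' := fun s t => by
        apply Subtype.ext; funext x; apply Subtype.ext
        show locMap 𝒜 φ x.1 ((s.1 x).1 + (t.1 x).1) = _
        rw [map_add]; rfl }
  naturality _ _ _ := rfl

/-- the morphism of presheaves of modules. -/
noncomputable def mapPMod {φ : M →ₗ[A] N} (hφ : IsGr ℳ 𝒩 φ) (n : ℤ) :
    GrTilde.tildePMod 𝒜 ℳ n ⟶ GrTilde.tildePMod 𝒜 𝒩 n :=
  PresheafOfModules.homMk (mapPre 𝒜 hφ n) (fun U r s => by
    apply Subtype.ext; funext x; apply Subtype.ext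
    show locMap 𝒜 φ x.1 (((r : Twist.O (𝒜 := 𝒜) U).1 x).val • ((s : GrTilde.sect 𝒜 ℳ n U).1 x).1) = _
    rw [locMap_smul]; rfl)

/-- **the morphism `M(n)~ ⟶ N(n)~`** induced by a graded linear map. -/
noncomputable def tildeMap {φ : M →ₗ[A] N} (hφ : IsGr ℳ 𝒩 φ) (n : ℤ) :
    GrTilde.tilde 𝒜 ℳ n ⟶ GrTilde.tilde 𝒜 𝒩 n := ⟨mapPMod 𝒜 hφ n⟩

/-- two morphisms out of `M(n)~` agreeing pointwise are equal. -/
theorem hom_ext_val {F : (Proj 𝒜).Modules} (n : ℤ)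
    (f g : F ⟶ GrTilde.tilde 𝒜 𝒩 n)
    (h : ∀ (U : (Opens (Proj 𝒜))ᵒᵖ) (s : F.val.obj U) (x : U.unop),
      (((f.val.app U s : GrTilde.sect 𝒜 𝒩 n U)).1 x).1 =
        (((g.val.app U s : GrTilde.sect 𝒜 𝒩 n U)).1 x).1) : f = g := by
  apply SheafOfModules.hom_ext
  ext U s
  exact Subtype.ext (funext fun x => Subtype.ext (h U s x))

theorem tildeMap_app_val {φ : M →ₗ[A] N} (hφ : IsGr ℳ 𝒩 φ) (n : ℤ)
    (U : (Opens (Proj 𝒜))ᵒᵖ) (s : (GrTilde.tilde 𝒜 ℳ n).val.obj U) (x : U.unop) :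
    ((((tildeMap 𝒜 hφ n).val.app U s : GrTilde.sect 𝒜 𝒩 n U)).1 x).1 =
      locMap 𝒜 φ x.1 (((s : GrTilde.sect 𝒜 ℳ n U)).1 x).1 := rfl

theorem tildeMap_id (n : ℤ) :
    tildeMap 𝒜 (isGr_id (ℳ := ℳ) (A := A)) n = 𝟙 (GrTilde.tilde 𝒜 ℳ n) := by
  apply hom_ext_val
  intro U s x
  rw [tildeMap_app_val, locMap_id]
  rfl

theorem tildeMap_comp {φ : M →ₗ[A] N} {ψ : N →ₗ[A] P} (hφ : IsGr ℳ 𝒩 φ) (hψ : IsGr 𝒩 𝒬 ψ)
    (n : ℤ) :
    tildeMap 𝒜 (hφ.comp hψ) n = tildeMap 𝒜 hφ n ≫ tildeMap 𝒜 hψ n := by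
  apply hom_ext_val
  intro U s x
  rw [tildeMap_app_val, locMap_comp]
  rfl

theorem tildeMap_add {φ φ' : M →ₗ[A] N} (hφ : IsGr ℳ 𝒩 φ) (hφ' : IsGr ℳ 𝒩 φ') (n : ℤ) :
    tildeMap 𝒜 (hφ.add hφ') n = tildeMap 𝒜 hφ n + tildeMap 𝒜 hφ' n := by
  apply hom_ext_val
  intro U s x
  rw [tildeMap_app_val, locMap_add]
  rfl

theorem tildeMap_zero (n : ℤ) :
    tildeMap 𝒜 (isGr_zero (ℳ := ℳ) (𝒩 := 𝒩) (A := A)) n = 0 := by
  apply hom_ext_val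
  intro U s x
  rw [tildeMap_app_val, locMap_zero]
  rfl

theorem tildeMap_congr {φ φ' : M →ₗ[A] N} (hφ : IsGr ℳ 𝒩 φ) (hφ' : IsGr ℳ 𝒩 φ') (h : φ = φ')
    (n : ℤ) : tildeMap 𝒜 hφ n = tildeMap 𝒜 hφ' n := by
  subst h; rfl

theorem isGr_sum {ι : Type*} (s : Finset ι) (φ : ι → M →ₗ[A] N) (h : ∀ i, IsGr ℳ 𝒩 (φ i)) :
    IsGr ℳ 𝒩 (∑ i ∈ s, φ i) := by
  intro j m hm
  rw [LinearMap.sum_apply]
  exact Submodule.sum_mem _ fun i _ => h i j m hm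

theorem tildeMap_sum {ι : Type*} (s : Finset ι) (φ : ι → M →ₗ[A] N) (h : ∀ i, IsGr ℳ 𝒩 (φ i))
    (n : ℤ) :
    tildeMap 𝒜 (isGr_sum s φ h) n = ∑ i ∈ s, tildeMap 𝒜 (h i) n := by
  classical
  induction s using Finset.induction_on with
  | empty =>
    exact ((tildeMap_congr 𝒜 (isGr_sum ∅ φ h) isGr_zero Finset.sum_empty n).trans
      (tildeMap_zero 𝒜 n)).trans Finset.sum_empty.symm
  | insert a s ha ih =>
    refine ((tildeMap_congr 𝒜 (isGr_sum (insert a s) φ h) ((h a).add (isGr_sum s φ h))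
        (Finset.sum_insert ha) n).trans (tildeMap_add 𝒜 (h a) (isGr_sum s φ h) n)).trans ?_
    rw [ih, Finset.sum_insert ha]

end Groth.Agent.Lib.Helper94.GrTildeMap
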