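import Mathlib
import Groth.Agent.Lib.Helper30.ModEpi
import Groth.Agent.Lib.Helper45.ModulesExact

/-!
# Local criteria for epimorphisms and exactness of `O_X`-modules (helper94)
-/

set_option autoImplicit false
universe u
open CategoryTheory CategoryTheory.Limits AlgebraicGeometry TopologicalSpace Opposite

namespace Groth.Agent.Lib.Helper94.ModLocExact

variable {X : Scheme.{u}}

/-- a morphism of `O_X`-modules which is locally surjective on sections is an epimorphism. -/
theorem epi_of_locally {F G : X.Modules} (φ : F ⟶ G)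
    (h : ∀ (W : X.Opens) (z : Γ(G, W)) (x : X), x ∈ W →
      ∃ (V : X.Opens) (hVW : V ≤ W), x ∈ V ∧
        ∃ y : Γ(F, V), φ.app V y = G.presheaf.map (homOfLE hVW).op z) : Epi φ := by
  apply Groth.Agent.Lib.Helper30.ModEpi.epi_of_isLocallySurjective
    (K := Opens.grothendieckTopology X)
  refine ⟨fun {W} s => ?_⟩
  intro x hx
  obtain ⟨V, hVW, hxV, y, hy⟩ := h W s x hx
  exact ⟨V, homOfLE hVW, ⟨y, hy⟩, hxV⟩

/-- a short complex of `O_X`-modules is exact as soon as every section of the middle term killed by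
`g` is locally in the image of `f`. -/
theorem exact_of_locally (S : ShortComplex X.Modules)
    (h : ∀ (W : X.Opens) (z : Γ(S.X₂, W)), S.g.app W z = 0 → ∀ (x : X), x ∈ W →
      ∃ (V : X.Opens) (hVW : V ≤ W), x ∈ V ∧
        ∃ y : Γ(S.X₁, V), S.f.app V y = S.X₂.presheaf.map (homOfLE hVW).op z) : S.Exact := by
  rw [ShortComplex.exact_iff_epi_kernel_lift]
  apply epi_of_locally
  intro W s x hx
  have hz : S.g.app W ((kernel.ι S.g).app W s) = 0 := by
    have h1 : (kernel.ι S.g ≫ S.g).app W s = 0 := by
      rw [kernel.condition]; rfl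
    exact h1
  obtain ⟨V, hVW, hxV, y, hy⟩ := h W _ hz x hx
  refine ⟨V, hVW, hxV, y, ?_⟩
  apply Groth.Agent.Lib.Helper45.app_injective_of_mono (kernel.ι S.g) V
  have h1 : (kernel.ι S.g).app V ((kernel.lift S.g S.f S.zero).app V y) = S.f.app V y := by
    have h2 : (kernel.lift S.g S.f S.zero ≫ kernel.ι S.g).app V y = S.f.app V y := by
      rw [kernel.lift_ι]
    exact h2
  rw [h1, hy]
  have hn := (kernel.ι S.g).mapPresheaf.naturality (homOfLE hVW).op
  exact (ConcreteCategory.congr_hom hn s).symm

end Groth.Agent.Lib.Helper94.ModLocExact
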