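import Mathlib
import Groth.Prelude.Def_GrMod2
import Groth.Agent.Lib.Helper94.GrTildeMap
import Groth.Agent.Lib.Helper94.ModLocExact

/-!
# Exactness of `M ↦ M(n)~` on graded exact sequences (helper94)
-/

set_option autoImplicit false
universe u
open CategoryTheory CategoryTheory.Limits AlgebraicGeometry TopologicalSpace Opposite

namespace Groth.Agent.Lib.Helper94.GrTildeExact

open Groth.Agent.Lib.Helper94.GrTildeMap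

variable {R A : Type u} [CommRing R] [CommRing A] [Algebra R A] (𝒜 : ℕ → Submodule R A)
  [GradedAlgebra 𝒜]
variable {M N P : Type u} [AddCommGroup M] [Module R M] [Module A M]
  [AddCommGroup N] [Module R N] [Module A N] [AddCommGroup P] [Module R P] [Module A P]
variable {ℳ : ℕ → Submodule R M} {𝒩 : ℕ → Submodule R N} {𝒬 : ℕ → Submodule R P}
variable [SetLike.GradedSMul 𝒜 ℳ] [SetLike.GradedSMul 𝒜 𝒩] [SetLike.GradedSMul 𝒜 𝒬]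

/-- sections as concrete dependent functions. -/
def toSect {n : ℤ} {V : (Proj 𝒜).Opens} (s : Γ(GrTilde.tilde 𝒜 ℳ n, V)) :
    GrTilde.sect 𝒜 ℳ n (op V) := s

/-- inverse of `toSect`. -/
def ofSect {n : ℤ} {V : (Proj 𝒜).Opens} (s : GrTilde.sect 𝒜 ℳ n (op V)) :
    Γ(GrTilde.tilde 𝒜 ℳ n, V) := s

theorem sect_ext {n : ℤ} {V : (Proj 𝒜).Opens} (s t : Γ(GrTilde.tilde 𝒜 ℳ n, V))
    (h : ∀ y : V, ((toSect 𝒜 s).1 y : GrTilde.LocMod 𝒜 (M := M) y.1) = (toSect 𝒜 t).1 y) :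
    s = t :=
  Subtype.ext (funext fun y => Subtype.ext (h y))

theorem val_map {n : ℤ} {V W : (Proj 𝒜).Opens} (i : V ⟶ W) (s : Γ(GrTilde.tilde 𝒜 ℳ n, W))
    (y : V) :
    (toSect 𝒜 ((GrTilde.tilde 𝒜 ℳ n).presheaf.map i.op s)).1 y =
      (toSect 𝒜 s).1 ⟨y.1, i.le y.2⟩ := rfl

theorem val_tildeMap_app {φ : M →ₗ[A] N} (hφ : IsGr ℳ 𝒩 φ) (n : ℤ) {V : (Proj 𝒜).Opens}
    (s : Γ(GrTilde.tilde 𝒜 ℳ n, V)) (y : V) :
    ((toSect 𝒜 ((tildeMap 𝒜 hφ n).app V s)).1 y : GrTilde.LocMod 𝒜 (M := N) y.1) =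
      locMap 𝒜 φ y.1 ((toSect 𝒜 s).1 y).1 := rfl

theorem val_zero {n : ℤ} {V : (Proj 𝒜).Opens} (y : V) :
    ((toSect 𝒜 (0 : Γ(GrTilde.tilde 𝒜 ℳ n, V))).1 y : GrTilde.LocMod 𝒜 (M := M) y.1) = 0 := rfl

/-- the section `m / h`. -/
noncomputable def fracSect (n : ℤ) (V : (Proj 𝒜).Opens) {h : A} {e p : ℕ} (hh : h ∈ 𝒜 e)
    {m : M} (hm : m ∈ ℳ p) (hp : (p : ℤ) = e + n)
    (hV : ∀ y : V, h ∉ y.1.asHomogeneousIdeal) : Γ(GrTilde.tilde 𝒜 ℳ n, V) :=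
  ofSect 𝒜 (⟨fun y => ⟨LocalizedModule.mk m ⟨h, hV y⟩,
      Submodule.subset_span ⟨p, e, ⟨m, hm⟩, ⟨h, hh⟩, hV y, hp, rfl⟩⟩,
    fun y => ⟨V, y.2, 𝟙 _, p, e, ⟨m, hm⟩, ⟨h, hh⟩, hV, Or.inl hp, fun _ => rfl⟩⟩ :
      GrTilde.sect 𝒜 ℳ n (op V))

theorem val_fracSect (n : ℤ) (V : (Proj 𝒜).Opens) {h : A} {e p : ℕ} (hh : h ∈ 𝒜 e)
    {m : M} (hm : m ∈ ℳ p) (hp : (p : ℤ) = e + n)
    (hV : ∀ y : V, h ∉ y.1.asHomogeneousIdeal) (y : V) :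
    ((toSect 𝒜 (fracSect 𝒜 n V hh hm hp hV)).1 y : GrTilde.LocMod 𝒜 (M := M) y.1) =
      LocalizedModule.mk m ⟨h, hV y⟩ := rfl

/-- local representation of a section as one fraction. -/
theorem exists_rep {n : ℤ} {W : (Proj 𝒜).Opens} (z : Γ(GrTilde.tilde 𝒜 ℳ n, W)) (x : Proj 𝒜)
    (hx : x ∈ W) :
    ∃ (V : (Proj 𝒜).Opens) (hVW : V ≤ W) (_ : x ∈ V) (i j : ℕ) (m : M) (t : A) (_ : m ∈ ℳ i)
      (_ : t ∈ 𝒜 j) (nin : ∀ v : V, t ∉ v.1.asHomogeneousIdeal),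
      ((i : ℤ) = j + n ∨ m = 0) ∧
      ∀ v : V, ((toSect 𝒜 z).1 ⟨v.1, hVW v.2⟩ : GrTilde.LocMod 𝒜 (M := M) v.1) =
        LocalizedModule.mk m ⟨t, nin v⟩ := by
  obtain ⟨V, hxV, iV, i, j, a, c, nin, hdeg, w⟩ := (toSect 𝒜 z).2 ⟨x, hx⟩
  exact ⟨V, leOfHom iV, hxV, i, j, a.1, c.1, a.2, c.2, nin, hdeg, fun v => w v⟩

theorem tildeMap_comp_eq_zero {φ : M →ₗ[A] N} {ψ : N →ₗ[A] P} (hφ : IsGr ℳ 𝒩 φ)
    (hψ : IsGr 𝒩 𝒬 ψ) (hzero : ψ ∘ₗ φ = 0) (n : ℤ) :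
    tildeMap 𝒜 hφ n ≫ tildeMap 𝒜 hψ n = 0 := by
  rw [← tildeMap_comp, tildeMap_congr 𝒜 (hφ.comp hψ) isGr_zero hzero, tildeMap_zero]

/-- **exactness of tilde**: a graded-exact pair `M → N → P`, where annihilators of homogeneous
elements of `P` can be chosen homogeneous, gives an exact sequence of sheaves. -/
theorem exact_tildeMap {φ : M →ₗ[A] N} {ψ : N →ₗ[A] P} (hφ : IsGr ℳ 𝒩 φ) (hψ : IsGr 𝒩 𝒬 ψ)
    (hzero : ψ ∘ₗ φ = 0)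
    (hex : ∀ i : ℕ, ∀ y ∈ 𝒩 i, ψ y = 0 → ∃ m ∈ ℳ i, φ m = y)
    (hann : ∀ (x : ProjectiveSpectrum 𝒜) (i : ℕ) (p : P), p ∈ 𝒬 i → ∀ u : A,
      u ∉ x.asHomogeneousIdeal → u • p = 0 →
        ∃ (e : ℕ) (u' : A), u' ∈ 𝒜 e ∧ u' ∉ x.asHomogeneousIdeal ∧ u' • p = 0) (n : ℤ) :
    (ShortComplex.mk (tildeMap 𝒜 hφ n) (tildeMap 𝒜 hψ n)
      (tildeMap_comp_eq_zero 𝒜 hφ hψ hzero n)).Exact := by
  apply ModLocExact.exact_of_locally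
  intro W z hz x hx
  obtain ⟨V, hVW, hxV, i, j, y, t, hy, ht, nin, hdeg, w⟩ := exists_rep 𝒜 z x hx
  rcases hdeg with hdeg | rfl
  · -- the value of `ψ̃ z` at `x` vanishes
    have h0 : locMap 𝒜 ψ x (LocalizedModule.mk y ⟨t, nin ⟨x, hxV⟩⟩) = 0 := by
      have h1 := congrArg (fun s => ((toSect 𝒜 s).1 ⟨x, hx⟩ :
        GrTilde.LocMod 𝒜 (M := P) x)) hz
      simp only at h1
      rw [val_tildeMap_app] at h1
      rw [← w ⟨x, hxV⟩]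
      exact h1
    rw [locMap_mk, ← LocalizedModule.zero_mk 1, LocalizedModule.mk_eq] at h0
    obtain ⟨u, hu⟩ := h0
    have hu' : (u : A) • ψ y = 0 := by
      simpa [Submonoid.smul_def] using hu
    obtain ⟨e, u', hu'e, hu'x, hu'0⟩ := hann x i (ψ y) (hψ i y hy) u u.2 hu'
    have h2 : ψ (u' • y) = 0 := by rw [map_smul, hu'0]
    have hmem : u' • y ∈ 𝒩 (e + i) := SetLike.GradedSMul.smul_mem hu'e hy
    obtain ⟨m, hm, hφm⟩ := hex (e + i) _ hmem h2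
    let V' : (Proj 𝒜).Opens := V ⊓ ProjectiveSpectrum.basicOpen 𝒜 u'
    have hV' : ∀ v : V', u' * t ∉ v.1.asHomogeneousIdeal := fun v hmem' =>
      (v.1.isPrime.mem_or_mem hmem').elim
        ((ProjectiveSpectrum.mem_basicOpen 𝒜 _ v.1).mp v.2.2) (nin ⟨v.1, v.2.1⟩)
    have hp : ((e + i : ℕ) : ℤ) = ((e + j : ℕ) : ℤ) + n := by push_cast; omega
    refine ⟨V', inf_le_left.trans hVW, ⟨hxV, (ProjectiveSpectrum.mem_basicOpen 𝒜 _ x).mpr hu'x⟩,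
      fracSect 𝒜 n V' (SetLike.mul_mem_graded hu'e ht) hm hp hV', ?_⟩
    apply sect_ext
    intro v
    rw [val_tildeMap_app, val_fracSect, locMap_mk, hφm, val_map, w ⟨v.1, v.2.1⟩]
    have h3 := LocalizedModule.mk_cancel_common_left
      (⟨u', (ProjectiveSpectrum.mem_basicOpen 𝒜 _ v.1).mp v.2.2⟩ :
        v.1.asHomogeneousIdeal.toIdeal.primeCompl) ⟨t, nin ⟨v.1, v.2.1⟩⟩ y
    exact h3
  · refine ⟨V, hVW, hxV, 0, ?_⟩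
    apply sect_ext
    intro v
    rw [map_zero, val_zero, val_map, w v, LocalizedModule.zero_mk]

/-- **surjectivity**: a graded map which is surjective in every degree gives an epimorphism. -/
theorem epi_tildeMap {φ : M →ₗ[A] N} (hφ : IsGr ℳ 𝒩 φ)
    (hsurj : ∀ i : ℕ, ∀ y ∈ 𝒩 i, ∃ m ∈ ℳ i, φ m = y) (n : ℤ) :
    Epi (tildeMap 𝒜 hφ n) := by
  apply ModLocExact.epi_of_locally
  intro W z x hx
  obtain ⟨V, hVW, hxV, i, j, y, t, hy, ht, nin, hdeg, w⟩ := exists_rep 𝒜 z x hx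
  rcases hdeg with hdeg | rfl
  · obtain ⟨m, hm, hφm⟩ := hsurj i y hy
    refine ⟨V, hVW, hxV, fracSect 𝒜 n V ht hm hdeg nin, ?_⟩
    apply sect_ext
    intro v
    rw [val_tildeMap_app, val_fracSect, locMap_mk, hφm, val_map, w v]
  · refine ⟨V, hVW, hxV, 0, ?_⟩
    apply sect_ext
    intro v
    rw [map_zero, val_zero, val_map, w v, LocalizedModule.zero_mk]

end Groth.Agent.Lib.Helper94.GrTildeExact
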