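import Mathlib
import Groth.Agent.Lib.Helper35.TorDim

/-!
# Helper94: over a Noetherian ring, finite modules of Tor-dimension `≤ n` have projective
dimension `≤ n`.
-/

set_option autoImplicit false
universe u
open CategoryTheory

namespace Groth.Agent.Lib.Helper94.PdNoeth

open Groth.Agent.Lib.Helper35.TA

variable {R : Type u} [CommRing R] [IsNoetherianRing R]

theorem hasProjectiveDimensionLE_of_TD (n : ℕ) :
    ∀ (M : Type u) [AddCommGroup M] [Module R M] [Module.Finite R M],
      TD n (ModuleCat.of R M) → HasProjectiveDimensionLE (ModuleCat.of R M) n := by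
  induction n with
  | zero =>
    intro M _ _ _ h
    rw [← projective_iff_hasProjectiveDimensionLE_zero, ← IsProjective.iff_projective]
    haveI : Module.Flat R M := (TD_zero_iff_flat (ModuleCat.of R M)).mp h
    haveI := Module.finitePresentation_of_finite R M
    exact Module.Flat.projective_of_finitePresentation
  | succ n ih =>
    intro M _ _ _ h
    obtain ⟨r, π, hπ⟩ := Module.Finite.exists_fin' R M
    have hS : (ModuleCat.shortComplexOfCompEqZero (LinearMap.ker π).subtype π
        (LinearMap.exact_subtype_ker_map π).linearMap_comp_eq_zero).ShortExact :=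
      ModuleCat.shortComplex_shortExact _ (LinearMap.exact_subtype_ker_map π)
        Subtype.val_injective hπ
    have hproj : Projective (ModuleCat.of R (Fin r → R)) :=
      (IsProjective.iff_projective (R := R) (Fin r → R)).mp inferInstance
    have h1 := hS.hasProjectiveDimensionLT_X₃_iff n hproj
    have hfl : Module.Flat R (ModuleCat.of R (Fin r → R)) :=
      (inferInstance : Module.Flat R (Fin r → R))
    have h2 := TD_succ_iff _ hS (d := n)
    exact h1.mpr (ih (LinearMap.ker π) (h2.mp h))

end Groth.Agent.Lib.Helper94.PdNoeth
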