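import Mathlib
import Groth.Agent.Lib.Helper35.NLPerf
import Groth.Agent.Lib.Helper35.PolyFTD
import Groth.Agent.Lib.Helper94.LciTAmp
import Groth.Agent.Lib.Helper94.PdNoeth
import Groth.Agent.Lib.Helper94.KoszulBridge
import Groth.Agent.S2189

/-!
# Helper94: tor amplitude `[-1,0]` of `NL` ⇒ lci, for finite type maps of finite Tor-dimension
over a Noetherian ring
-/

set_option autoImplicit false
universe u
open CategoryTheory CategoryTheory.Limits TensorProduct
attribute [local instance] HasDerivedCategory.standard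

namespace Groth.Agent.Lib.Helper94.LciNoeth

open Groth.Agent.Lib.Helper35.TA Groth.Agent.Lib.Helper35.NLP Groth.Agent.Lib.Helper35.PolyFTD
  Groth.Agent.Lib.Helper35.FTD Groth.Agent.Lib.Helper94.LciTAmp Algebra

variable {A B : Type u} [CommRing A] [CommRing B] [Algebra A B]

/-- the ideal `I` has finite projective dimension when `P ⧸ I` has finite Tor-dimension
(`P` Noetherian). -/
theorem exists_hasProjectiveDimensionLT_of_hasFiniteTorDim {P : Type u} [CommRing P]
    [IsNoetherianRing P] (I : Ideal P) (h : DRing.HasFiniteTorDim P (P ⧸ I)) :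
    ∃ d : ℕ, HasProjectiveDimensionLT (ModuleCat.of P I) d := by
  obtain ⟨d, hd⟩ := h
  rw [hasTorDimLE_iff_TD] at hd
  have hS : (ModuleCat.shortComplexOfCompEqZero I.subtype I.mkQ
      (LinearMap.exact_subtype_mkQ I).linearMap_comp_eq_zero).ShortExact :=
    ModuleCat.shortComplex_shortExact _ (LinearMap.exact_subtype_mkQ I)
      Subtype.val_injective (Submodule.mkQ_surjective I)
  have hfl : Module.Flat P (ModuleCat.of P P) := (inferInstance : Module.Flat P P)
  have h2 := TD_succ_iff _ hS (d := d)
  have h3 : TD (d + 1) (ModuleCat.of P (P ⧸ I)) := fun N p hp => hd N p (by omega)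
  have h4 : TD d (ModuleCat.of P I) := h2.mp h3
  exact ⟨d + 1, Groth.Agent.Lib.Helper94.PdNoeth.hasProjectiveDimensionLE_of_TD d I h4⟩

/-- **Tor amplitude `[-1,0]` ⇒ lci** over a Noetherian base, for finite type algebras of finite
Tor-dimension. -/
theorem isLCI_of_TAmp_noeth [IsNoetherianRing A] [Algebra.FiniteType A B]
    (hB : DRing.HasFiniteTorDim A B)
    (h : DRing.HasTorAmplitudeIn B (-1) 0 (LCI.NL A B)) : LCI.IsLCI A B := by
  refine ⟨inferInstance, ?_⟩
  obtain ⟨n, f, hf⟩ := Algebra.FiniteType.iff_quotient_mvPolynomial''.mp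
    (inferInstance : Algebra.FiniteType A B)
  refine ⟨n, f, hf, ?_⟩
  haveI := flat_cotangent_of_TAmp f hf h
  have hflat := flat_ker_cotangent (Ef f hf)
  have key : ∀ (I : Ideal (MvPolynomial (Fin n) A)), (Ef f hf).ker = I →
      Module.Flat (MvPolynomial (Fin n) A ⧸ I) I.Cotangent := by
    intro I hI
    subst hI
    exact hflat
  haveI := key _ (ker_Ef f hf)
  set I : Ideal (MvPolynomial (Fin n) A) := RingHom.ker f.toRingHom with hI
  haveI : Module.Finite (MvPolynomial (Fin n) A) I.Cotangent :=
    Module.Finite.of_surjective I.toCotangent I.toCotangent_surjective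
  haveI : Module.Finite (MvPolynomial (Fin n) A ⧸ I) I.Cotangent :=
    Module.Finite.of_restrictScalars_finite (MvPolynomial (Fin n) A) _ _
  haveI := Module.finitePresentation_of_finite (MvPolynomial (Fin n) A ⧸ I) I.Cotangent
  haveI : Module.Projective (MvPolynomial (Fin n) A ⧸ I) I.Cotangent :=
    Module.Flat.projective_of_finitePresentation
  -- finite projective dimension of `I`
  have h1 : ftdQ f.toRingHom := ftdQ_of_hasFiniteTorDim A B n f hB
  have h2 : DRing.HasFiniteTorDim (MvPolynomial (Fin n) A) (MvPolynomial (Fin n) A ⧸ I) := by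
    letI : Algebra (MvPolynomial (Fin n) A) B := f.toRingHom.toAlgebra
    have h1' : DRing.HasFiniteTorDim (MvPolynomial (Fin n) A) B := h1
    let e0 : (MvPolynomial (Fin n) A ⧸ I) ≃+* B :=
      RingHom.quotientKerEquivOfSurjective (f := f.toRingHom) hf
    let e : (MvPolynomial (Fin n) A ⧸ I) ≃ₗ[MvPolynomial (Fin n) A] B :=
      { e0 with
        map_smul' := by
          intro p x
          obtain ⟨y, rfl⟩ := Ideal.Quotient.mk_surjective x
          show e0 (p • Ideal.Quotient.mk I y) = f p * e0 (Ideal.Quotient.mk I y)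
          rw [Algebra.smul_def, map_mul]
          rfl }
    exact of_linearEquiv e.symm h1'
  obtain ⟨d, hd⟩ := exists_hasProjectiveDimensionLT_of_hasFiniteTorDim I h2
  intro 𝔭 hIp
  obtain ⟨g, hg, rs, hreg, hrs⟩ := Groth.Agent.S2189.result I d hd 𝔭.asIdeal hIp
  exact ⟨g, hg, rs, Groth.Agent.Lib.Helper94.isKoszulRegularSeq_of_isRegular _ _ hreg, hrs.symm⟩

end Groth.Agent.Lib.Helper94.LciNoeth
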