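import Mathlib
import Groth.Prelude.Def_GrMod2
import Groth.Prelude.Def_GrSyz
import Groth.Prelude.Def_CohB1
import Groth.Agent.Lib.Helper66.GrHilbA

/-!
# `S(-a)~ ≅ O(-a)` on `P^r_k`, for the ℕ-truncation of the ℤ-graded shift (helper94)
-/

set_option autoImplicit false
universe u
open CategoryTheory AlgebraicGeometry TopologicalSpace Opposite

namespace Groth.Agent.Lib.Helper94.PnShiftTwist

variable (k : Type u) [Field k] (r : ℕ)

/-- the `ℤ`-indexed standard grading agrees with the `ℕ`-indexed one in non-negative degrees. -/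
theorem stdGr_natCast (m : ℕ) :
    GrSyz.stdGr k (Fin (r + 1)) (m : ℤ) = CohB1.polyGrading r k m := by
  ext p
  rw [GrSyz.mem_stdGr_iff, MvPolynomial.mem_homogeneousSubmodule]
  constructor
  · intro h d hd
    have h1 := h hd
    rw [Groth.Agent.Lib.Helper66.GrHilb.weight_one_eq_degree] at h1
    have h2 : d.degree = m := by exact_mod_cast h1
    rw [← h2, Finsupp.degree_eq_weight_one]
    rfl
  · intro h d hd
    have h1 := h hd
    rw [Groth.Agent.Lib.Helper66.GrHilb.weight_one_eq_degree]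
    have h2 : d.degree = m := by
      rw [← h1, Finsupp.degree_eq_weight_one]
      rfl
    rw [h2]

theorem eq_zero_of_mem_stdGr_neg {z : ℤ} (hz : z < 0) {p : MvPolynomial (Fin (r + 1)) k}
    (hp : p ∈ GrSyz.stdGr k (Fin (r + 1)) z) : p = 0 := by
  rw [Groth.Agent.Lib.Helper66.GrHilb.stdGr_eq_bot_of_neg k r z hz] at hp
  exact hp

theorem mem_polyGrading_toNat {z : ℤ} (hz : 0 ≤ z) {p : MvPolynomial (Fin (r + 1)) k}
    (hp : p ∈ GrSyz.stdGr k (Fin (r + 1)) z) : p ∈ CohB1.polyGrading r k z.toNat := by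
  rw [← stdGr_natCast, Int.toNat_of_nonneg hz]
  exact hp

theorem mem_stdGr_of_mem_polyGrading {i : ℕ} {z : ℤ} (hz : (i : ℤ) = z)
    {p : MvPolynomial (Fin (r + 1)) k} (hp : p ∈ CohB1.polyGrading r k i) :
    p ∈ GrSyz.stdGr k (Fin (r + 1)) z := by
  rw [← hz, stdGr_natCast]
  exact hp

/-- the shifted module `S(-a)`, truncated to non-negative degrees: degree `i` piece is `S_{i-a}`. -/
def shGr (a : ℤ) : ℕ → Submodule k (MvPolynomial (Fin (r + 1)) k) :=
  fun i => GrSyz.stdGr k (Fin (r + 1)) ((i : ℤ) - a)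

instance gradedSMul_shGr (a : ℤ) : SetLike.GradedSMul (CohB1.polyGrading r k) (shGr k r a) where
  smul_mem {i j} f m hf hm := by
    have hf' : f ∈ GrSyz.stdGr k (Fin (r + 1)) (i : ℤ) := by
      rw [stdGr_natCast]; exact hf
    have h := SetLike.mul_mem_graded hf' hm
    have e : ((i : ℤ) + ((j : ℤ) - a)) = (((i +ᵥ j : ℕ)) : ℤ) - a := by
      simp only [vadd_eq_add]; push_cast; ring
    rw [e] at h
    exact h


theorem mem_tildeAt_of_mem_twistAt (a : ℤ) (x : ProjectiveSpectrum (CohB1.polyGrading r k)) (q : Twist.Loc (CohB1.polyGrading r k) x)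
    (hq : q ∈ Twist.twistAt (CohB1.polyGrading r k) (-a) x) :
    (q : GrTilde.LocMod (CohB1.polyGrading r k) (M := MvPolynomial (Fin (r + 1)) k) x) ∈
      GrTilde.tildeAt (CohB1.polyGrading r k) (shGr k r a) 0 x := by
  induction hq using Submodule.span_induction with
  | mem q hq =>
    obtain ⟨i, j, c, s, hs, hd, rfl⟩ := hq
    refine Submodule.subset_span ⟨j, j, ⟨c.1, ?_⟩, s, hs, by simp, rfl⟩
    exact mem_stdGr_of_mem_polyGrading k r (by omega) c.2
  | zero => exact Submodule.zero_mem _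
  | add q q' _ _ h h' => exact Submodule.add_mem _ h h'
  | smul c q _ h => exact Submodule.smul_mem _ c h

theorem mem_twistAt_of_mem_tildeAt (a : ℤ) (x : ProjectiveSpectrum (CohB1.polyGrading r k))
    (q : GrTilde.LocMod (CohB1.polyGrading r k) (M := MvPolynomial (Fin (r + 1)) k) x)
    (hq : q ∈ GrTilde.tildeAt (CohB1.polyGrading r k) (shGr k r a) 0 x) :
    (q : Twist.Loc (CohB1.polyGrading r k) x) ∈ Twist.twistAt (CohB1.polyGrading r k) (-a) x := by
  induction hq using Submodule.span_induction with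
  | mem q hq =>
    obtain ⟨i, j, m, s, hs, hd, rfl⟩ := hq
    by_cases hneg : (i : ℤ) - a < 0
    · have h0 : m.1 = 0 := eq_zero_of_mem_stdGr_neg k r hneg m.2
      have : (LocalizedModule.mk m.1 ⟨s.1, hs⟩ : GrTilde.LocMod (CohB1.polyGrading r k) x) = 0 := by
        rw [h0, LocalizedModule.zero_mk]
      rw [this]
      exact Submodule.zero_mem _
    · have hnn : 0 ≤ (i : ℤ) - a := not_lt.mp hneg
      exact Submodule.subset_span ⟨((i : ℤ) - a).toNat, j,
        ⟨m.1, mem_polyGrading_toNat k r hnn m.2⟩, s, hs,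
        by rw [Int.toNat_of_nonneg hnn]; omega, rfl⟩
  | zero => exact Submodule.zero_mem _
  | add q q' _ _ h h' => exact Submodule.add_mem _ h h'
  | smul c q _ h => exact Submodule.smul_mem _ c h

/-- sections of `O(-a)` as sections of `S(-a)~`. -/
noncomputable def toTilde (a : ℤ) (U : (Opens (ProjectiveSpectrum.top (CohB1.polyGrading r k)))ᵒᵖ)
    (s : Twist.sectN (𝒜 := CohB1.polyGrading r k) (-a) U) : GrTilde.sect (CohB1.polyGrading r k) (shGr k r a) 0 U :=
  ⟨fun x => ⟨(s.1 x).1, mem_tildeAt_of_mem_twistAt k r a x.1 _ (s.1 x).2⟩, fun x => by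
    obtain ⟨V, hxV, i, i', j, c, t, nin, h, w⟩ := s.2 x
    rcases h with h | h
    · exact ⟨V, hxV, i, j, j, ⟨c.1, mem_stdGr_of_mem_polyGrading k r (by omega) c.2⟩, t, nin,
        Or.inl (by simp), fun y => w y⟩
    · refine ⟨V, hxV, i, j, j, ⟨0, Submodule.zero_mem _⟩, t, nin, Or.inr rfl, fun y => ?_⟩
      have := w y
      rw [h] at this
      exact this⟩

/-- sections of `S(-a)~` as sections of `O(-a)`. -/
noncomputable def ofTilde (a : ℤ) (U : (Opens (ProjectiveSpectrum.top (CohB1.polyGrading r k)))ᵒᵖ)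
    (s : GrTilde.sect (CohB1.polyGrading r k) (shGr k r a) 0 U) : Twist.sectN (𝒜 := CohB1.polyGrading r k) (-a) U :=
  ⟨fun x => ⟨(s.1 x).1, mem_twistAt_of_mem_tildeAt k r a x.1 _ (s.1 x).2⟩, fun x => by
    obtain ⟨V, hxV, i, i', j, m, t, nin, h, w⟩ := s.2 x
    by_cases hneg : (i' : ℤ) - a < 0
    · have h0 : m.1 = 0 := eq_zero_of_mem_stdGr_neg k r hneg m.2
      refine ⟨V, hxV, i, 0, j, ⟨0, Submodule.zero_mem _⟩, t, nin, Or.inr rfl, fun y => ?_⟩
      have := w y
      rw [h0] at this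
      exact this
    · have hnn : 0 ≤ (i' : ℤ) - a := not_lt.mp hneg
      rcases h with h | h
      · exact ⟨V, hxV, i, ((i' : ℤ) - a).toNat, j,
          ⟨m.1, mem_polyGrading_toNat k r hnn m.2⟩, t, nin,
          Or.inl (by rw [Int.toNat_of_nonneg hnn]; omega), fun y => w y⟩
      · refine ⟨V, hxV, i, 0, j, ⟨0, Submodule.zero_mem _⟩, t, nin, Or.inr rfl, fun y => ?_⟩
        have := w y
        rw [h] at this
        exact this⟩

/-- the morphism of abelian presheaves `O(-a) ⟶ S(-a)~`. -/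
noncomputable def homPre (a : ℤ) : Twist.twistPre (CohB1.polyGrading r k) (-a) ⟶ GrTilde.tildePre (CohB1.polyGrading r k) (shGr k r a) 0 where
  app U := AddCommGrpCat.ofHom
    { toFun := toTilde k r a U
      map_zero' := rfl
      map_add' := fun _ _ => rfl }
  naturality _ _ _ := rfl

/-- the morphism of abelian presheaves `S(-a)~ ⟶ O(-a)`. -/
noncomputable def invPre (a : ℤ) : GrTilde.tildePre (CohB1.polyGrading r k) (shGr k r a) 0 ⟶ Twist.twistPre (CohB1.polyGrading r k) (-a) where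
  app U := AddCommGrpCat.ofHom
    { toFun := ofTilde k r a U
      map_zero' := rfl
      map_add' := fun _ _ => rfl }
  naturality _ _ _ := rfl

noncomputable def homPMod (a : ℤ) :
    Twist.twistPMod (CohB1.polyGrading r k) (-a) ⟶ GrTilde.tildePMod (CohB1.polyGrading r k) (shGr k r a) 0 :=
  PresheafOfModules.homMk (homPre k r a) (fun _ _ _ => rfl)

noncomputable def invPMod (a : ℤ) :
    GrTilde.tildePMod (CohB1.polyGrading r k) (shGr k r a) 0 ⟶ Twist.twistPMod (CohB1.polyGrading r k) (-a) :=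
  PresheafOfModules.homMk (invPre k r a) (fun _ _ _ => rfl)

/-- **`O(-a) ≅ S(-a)~`** on `P^r_k`. -/
noncomputable def twistIso (a : ℤ) :
    Twist.twistProjSpace r k (-a) ≅ GrTilde.tilde (CohB1.polyGrading r k) (shGr k r a) 0 where
  hom := ⟨homPMod k r a⟩
  inv := ⟨invPMod k r a⟩
  hom_inv_id := by
    apply SheafOfModules.hom_ext
    ext U x
    rfl
  inv_hom_id := by
    apply SheafOfModules.hom_ext
    ext U x
    rfl

end Groth.Agent.Lib.Helper94.PnShiftTwist
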