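import Mathlib
import Groth.Prelude.Def_GrSyz
import Groth.Prelude.Def_CohB1
import Groth.Agent.Lib.Helper94.PnShiftTwist
import Groth.Agent.Lib.Helper94.GrTildeMap

/-!
# Graded free modules `⊕ S(-a_b)` over the polynomial ring and graded matrices (helper94)
-/

set_option autoImplicit false
universe u
open CategoryTheory AlgebraicGeometry TopologicalSpace Opposite

namespace Groth.Agent.Lib.Helper94.PnFreeGr

open Groth.Agent.Lib.Helper94.GrTildeMap Groth.Agent.Lib.Helper94.PnShiftTwist

variable (k : Type u) [Field k] (r : ℕ)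

local notation "SS" => MvPolynomial (Fin (r + 1)) k
local notation "𝒮" => GrSyz.stdGr k (Fin (r + 1))

variable {n n' : ℕ} (a : Fin n → ℤ) (a' : Fin n' → ℤ)

/-- the degree `i` piece of `⊕_b S(-a_b)` (`i : ℤ`). -/
noncomputable def piGrZ (i : ℤ) : Submodule k (Fin n → SS) :=
  Submodule.pi Set.univ (fun b => 𝒮 (i - a b))

theorem mem_piGrZ {i : ℤ} {v : Fin n → SS} : v ∈ piGrZ k r a i ↔ ∀ b, v b ∈ 𝒮 (i - a b) := by
  simp [piGrZ, Submodule.mem_pi]

/-- the ℕ-truncation. -/
noncomputable def piGr : ℕ → Submodule k (Fin n → SS) := fun i => piGrZ k r a (i : ℤ)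

instance gradedSMul_piGr : SetLike.GradedSMul (CohB1.polyGrading r k) (piGr k r a) where
  smul_mem {i j} f v hf hv := by
    show f • v ∈ piGrZ k r a ((i +ᵥ j : ℕ) : ℤ)
    rw [mem_piGrZ]
    intro b
    have hf' : f ∈ 𝒮 (i : ℤ) := by rw [stdGr_natCast]; exact hf
    have h := SetLike.mul_mem_graded hf' ((mem_piGrZ k r a).mp hv b)
    have e : ((i : ℤ) + ((j : ℤ) - a b)) = (((i +ᵥ j : ℕ)) : ℤ) - a b := by
      simp only [vadd_eq_add]; push_cast; ring
    rw [e] at h
    exact h

/-- projection onto the degree `i` component. -/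
noncomputable def projP (i : ℤ) (v : Fin n → SS) : Fin n → SS :=
  fun b => (DirectSum.decompose 𝒮 (v b) (i - a b) : SS)

theorem projP_mem (i : ℤ) (v : Fin n → SS) : projP k r a i v ∈ piGrZ k r a i :=
  (mem_piGrZ k r a).mpr fun b => SetLike.coe_mem _

theorem projP_of_mem {i : ℤ} {v : Fin n → SS} (hv : v ∈ piGrZ k r a i) : projP k r a i v = v := by
  funext b
  exact DirectSum.decompose_of_mem_same 𝒮 ((mem_piGrZ k r a).mp hv b)

/-- a matrix with homogeneous entries of the right degrees. -/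
def IsGrMat (D : Matrix (Fin n) (Fin n') SS) : Prop := ∀ b b', D b b' ∈ 𝒮 (a' b' - a b)

theorem mulVec_projP {D : Matrix (Fin n) (Fin n') SS} (hD : IsGrMat k r a a' D) (i : ℤ)
    (v : Fin n' → SS) : D.mulVec (projP k r a' i v) = projP k r a i (D.mulVec v) := by
  funext b
  simp only [Matrix.mulVec, dotProduct, projP]
  rw [DirectSum.decompose_sum, DFinsupp.finsetSum_apply, AddSubmonoidClass.coe_finsetSum]
  refine Finset.sum_congr rfl fun b' _ => ?_
  have e : i - a b = (a' b' - a b) + (i - a' b') := by ring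
  rw [e, DirectSum.coe_decompose_mul_add_of_left_mem 𝒮 (hD b b')]

theorem isGr_mulVecLin {D : Matrix (Fin n) (Fin n') SS} (hD : IsGrMat k r a a' D) :
    IsGr (piGr k r a') (piGr k r a) (Matrix.mulVecLin D) := by
  intro i v hv
  show Matrix.mulVecLin D v ∈ piGrZ k r a (i : ℤ)
  rw [mem_piGrZ]
  intro b
  rw [Matrix.mulVecLin_apply]
  simp only [Matrix.mulVec, dotProduct]
  refine Submodule.sum_mem _ fun b' _ => ?_
  have h := SetLike.mul_mem_graded (hD b b') ((mem_piGrZ k r a').mp hv b')
  have e : (a' b' - a b) + ((i : ℤ) - a' b') = (i : ℤ) - a b := by ring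
  rw [e] at h
  exact h

/-- homogeneous elements in the range of a graded matrix have homogeneous preimages. -/
theorem exists_homog_preimage {D : Matrix (Fin n) (Fin n') SS} (hD : IsGrMat k r a a' D)
    {i : ℤ} {y : Fin n → SS} (hy : y ∈ piGrZ k r a i)
    (h : y ∈ LinearMap.range (Matrix.mulVecLin D)) :
    ∃ m ∈ piGrZ k r a' i, Matrix.mulVecLin D m = y := by
  obtain ⟨v, rfl⟩ := h
  refine ⟨projP k r a' i v, projP_mem k r a' i v, ?_⟩
  rw [Matrix.mulVecLin_apply, mulVec_projP k r a a' hD, ← Matrix.mulVecLin_apply, projP_of_mem k r a hy]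

/-- free modules over the polynomial ring are torsion-free. -/
theorem eq_zero_of_smul_eq_zero (x : ProjectiveSpectrum (CohB1.polyGrading r k))
    (p : Fin n → SS) (u : SS) (hu : u ∉ x.asHomogeneousIdeal) (h : u • p = 0) : p = 0 := by
  have hu0 : u ≠ 0 := by
    rintro rfl
    exact hu (Submodule.zero_mem _)
  funext b
  have hb := congrFun h b
  simp only [Pi.smul_apply, smul_eq_mul, Pi.zero_apply] at hb
  exact (mul_eq_zero.mp hb).resolve_left hu0

theorem hann_free (x : ProjectiveSpectrum (CohB1.polyGrading r k)) (i : ℕ) (p : Fin n → SS)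
    (_ : p ∈ piGr k r a i) (u : SS) (hu : u ∉ x.asHomogeneousIdeal) (h : u • p = 0) :
    ∃ (e : ℕ) (u' : SS), u' ∈ CohB1.polyGrading r k e ∧ u' ∉ x.asHomogeneousIdeal ∧
      u' • p = 0 := by
  refine ⟨0, 1, SetLike.GradedOne.one_mem, ?_, ?_⟩
  · intro h1
    exact x.isPrime.ne_top ((Ideal.eq_top_iff_one _).mpr h1)
  · rw [eq_zero_of_smul_eq_zero k r x p u hu h, smul_zero]

theorem isGr_single (b : Fin n) :
    IsGr (shGr k r (a b)) (piGr k r a) (LinearMap.single SS (fun _ : Fin n => SS) b) := by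
  intro i m hm
  show _ ∈ piGrZ k r a (i : ℤ)
  rw [mem_piGrZ]
  intro b'
  rw [LinearMap.single_apply]
  by_cases hb : b' = b
  · subst hb
    rw [Pi.single_eq_same]
    exact hm
  · rw [Pi.single_eq_of_ne hb]
    exact Submodule.zero_mem _

theorem isGr_proj (b : Fin n) :
    IsGr (piGr k r a) (shGr k r (a b)) (LinearMap.proj (R := SS) (φ := fun _ : Fin n => SS) b) := by
  intro i v hv
  exact (mem_piGrZ k r a).mp hv b

section Module

variable {M : Type u} [AddCommGroup M] [Module k M] [Module (MvPolynomial (Fin (r + 1)) k) M]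
  (ℳ : ℤ → Submodule k M) [DirectSum.Decomposition ℳ]
  [SetLike.GradedSMul (GrSyz.stdGr k (Fin (r + 1))) ℳ]

/-- the homogeneous components of `u • p`, for `p` homogeneous. -/
theorem decompose_smul_of_mem (u : SS) {j : ℤ} {p : M} (hp : p ∈ ℳ j) (e : ℤ) :
    ((DirectSum.decompose ℳ (u • p)) (e + j) : M) = (DirectSum.decompose 𝒮 u e : SS) • p := by
  classical
  conv_lhs => rw [← DirectSum.sum_support_decompose 𝒮 u]
  rw [Finset.sum_smul, DirectSum.decompose_sum, DFinsupp.finsetSum_apply,
    AddSubmonoidClass.coe_finsetSum]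
  have hterm : ∀ i : ℤ, ((DirectSum.decompose ℳ ((DirectSum.decompose 𝒮 u i : SS) • p)) (e + j) : M)
      = if i = e then (DirectSum.decompose 𝒮 u i : SS) • p else 0 := by
    intro i
    have hmem : (DirectSum.decompose 𝒮 u i : SS) • p ∈ ℳ (i + j) :=
      SetLike.GradedSMul.smul_mem (i := i) (j := j) (SetLike.coe_mem (DirectSum.decompose 𝒮 u i)) hp
    split_ifs with hi
    · subst hi
      exact DirectSum.decompose_of_mem_same ℳ hmem
    · exact DirectSum.decompose_of_mem_ne ℳ hmem (fun h => hi (add_right_cancel h))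
  rw [Finset.sum_congr rfl (fun i _ => hterm i), Finset.sum_ite_eq']
  split_ifs with he
  · rfl
  · rw [DFinsupp.notMem_support_iff] at he
    rw [he]
    simp

theorem hann_module (x : ProjectiveSpectrum (CohB1.polyGrading r k)) (i : ℕ) (p : M)
    (hp : p ∈ ℳ (i : ℤ)) (u : SS) (hu : u ∉ x.asHomogeneousIdeal) (h : u • p = 0) :
    ∃ (e : ℕ) (u' : SS), u' ∈ CohB1.polyGrading r k e ∧ u' ∉ x.asHomogeneousIdeal ∧
      u' • p = 0 := by
  classical
  obtain ⟨e, he⟩ : ∃ e : ℤ, (DirectSum.decompose 𝒮 u e : SS) ∉ x.asHomogeneousIdeal := by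
    by_contra hall
    push Not at hall
    apply hu
    rw [← DirectSum.sum_support_decompose 𝒮 u]
    exact Ideal.sum_mem _ fun e _ => hall e
  have hnn : 0 ≤ e := by
    by_contra hneg
    have h0 : (DirectSum.decompose 𝒮 u e : SS) = 0 :=
      eq_zero_of_mem_stdGr_neg k r (not_le.mp hneg) (SetLike.coe_mem _)
    apply he
    rw [h0]
    exact Submodule.zero_mem _
  refine ⟨e.toNat, (DirectSum.decompose 𝒮 u e : SS),
    mem_polyGrading_toNat k r hnn (SetLike.coe_mem _), he, ?_⟩
  rw [← decompose_smul_of_mem k r ℳ u hp e, h, DirectSum.decompose_zero]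
  rfl

variable (aug : Fin n → M) (haug : ∀ b, aug b ∈ ℳ (a b))

include haug in
theorem isGr_aug :
    IsGr (piGr k r a) (fun i : ℕ => ℳ (i : ℤ)) (Fintype.linearCombination SS aug) := by
  intro i v hv
  rw [Fintype.linearCombination_apply]
  refine Submodule.sum_mem _ fun b _ => ?_
  have h : v b • aug b ∈ ℳ (((i : ℤ) - a b) + a b) :=
    SetLike.GradedSMul.smul_mem ((mem_piGrZ k r a).mp hv b) (haug b)
  have e : ((i : ℤ) - a b) + a b = (i : ℤ) := by ring
  rw [e] at h
  exact h

include haug in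
theorem aug_projP (i : ℤ) (v : Fin n → SS) :
    Fintype.linearCombination SS aug (projP k r a i v) =
      (DirectSum.decompose ℳ (Fintype.linearCombination SS aug v) i : M) := by
  rw [Fintype.linearCombination_apply, Fintype.linearCombination_apply,
    DirectSum.decompose_sum, DFinsupp.finsetSum_apply, AddSubmonoidClass.coe_finsetSum]
  refine Finset.sum_congr rfl fun b _ => ?_
  have e : i = (i - a b) + a b := by ring
  conv_rhs => rw [e]
  rw [decompose_smul_of_mem k r ℳ (v b) (haug b) (i - a b)]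
  rfl

include haug in
theorem exists_homog_preimage_aug {i : ℤ} {y : M} (hy : y ∈ ℳ i)
    (h : y ∈ LinearMap.range (Fintype.linearCombination SS aug)) :
    ∃ m ∈ piGrZ k r a i, Fintype.linearCombination SS aug m = y := by
  obtain ⟨v, rfl⟩ := h
  refine ⟨projP k r a i v, projP_mem k r a i v, ?_⟩
  rw [aug_projP k r a ℳ aug haug]
  exact DirectSum.decompose_of_mem_same ℳ hy

end Module

end Groth.Agent.Lib.Helper94.PnFreeGr
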