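import Mathlib
import Groth.Agent.Lib.Helper94.PnFreeGr
import Groth.Agent.Lib.Helper38.SerreVanishPn
import Groth.Agent.Lib.Helper17.CohSigma
import Groth.Agent.Lib.Helper17.ProjSerre

/-!
# The sheaf `(⊕ S(-a_b))~ ≅ ⊕ O(-a_b)` on `P^r_k` and its cohomology (helper94)
-/

set_option autoImplicit false
universe u
open CategoryTheory CategoryTheory.Limits AlgebraicGeometry TopologicalSpace Opposite

namespace Groth.Agent.Lib.Helper94.PnFreeSheaf

open Groth.Agent.Lib.Helper94.GrTildeMap Groth.Agent.Lib.Helper94.PnShiftTwist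
  Groth.Agent.Lib.Helper94.PnFreeGr Groth.Agent.Lib.Helper38.SerreVanishPn
  Groth.Agent.Lib.Helper17

variable (k : Type u) [Field k] (r : ℕ) {n : ℕ} (a : Fin n → ℤ)

local notation "SS" => MvPolynomial (Fin (r + 1)) k

/-- the sheaf attached to `⊕ S(-a_b)`. -/
noncomputable abbrev freeSh : (Proj (CohB1.polyGrading r k)).Modules :=
  GrTilde.tilde (CohB1.polyGrading r k) (piGr k r a) 0

/-- the summands `S(-a_b)~`. -/
noncomputable abbrev summand (b : Fin n) : (Proj (CohB1.polyGrading r k)).Modules :=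
  GrTilde.tilde (CohB1.polyGrading r k) (shGr k r (a b)) 0

theorem sum_single_comp_proj :
    ∑ b : Fin n, (LinearMap.single SS (fun _ : Fin n => SS) b).comp
      (LinearMap.proj (R := SS) (φ := fun _ : Fin n => SS) b) = LinearMap.id := by
  ext v b'
  simp [Finset.sum_apply, Pi.single_apply]

/-- the bicone exhibiting `(⊕ S(-a_b))~` as the biproduct of the `S(-a_b)~`. -/
noncomputable def bicone : Bicone (summand k r a) where
  pt := freeSh k r a
  π b := tildeMap (CohB1.polyGrading r k) (isGr_proj k r a b) 0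
  ι b := tildeMap (CohB1.polyGrading r k) (isGr_single k r a b) 0
  ι_π b b' := by
    rw [← tildeMap_comp]
    split_ifs with h
    · subst h
      rw [eqToHom_refl,
        tildeMap_congr (CohB1.polyGrading r k) ((isGr_single k r a b).comp (isGr_proj k r a b))
          isGr_id (LinearMap.proj_comp_single_same SS (fun _ : Fin n => SS) b), tildeMap_id]
    · rw [tildeMap_congr (CohB1.polyGrading r k) ((isGr_single k r a b).comp (isGr_proj k r a b'))
          isGr_zero (LinearMap.proj_comp_single_ne SS (fun _ : Fin n => SS) b' b (Ne.symm h)),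
        tildeMap_zero]

theorem bicone_total : ∑ b : Fin n, (bicone k r a).π b ≫ (bicone k r a).ι b =
    𝟙 (bicone k r a).pt := by
  have h1 : ∀ b : Fin n, (bicone k r a).π b ≫ (bicone k r a).ι b =
      tildeMap (CohB1.polyGrading r k) ((isGr_proj k r a b).comp (isGr_single k r a b)) 0 :=
    fun b => (tildeMap_comp _ _ _ _).symm
  have h2 := tildeMap_sum (CohB1.polyGrading r k) Finset.univ
    (fun b => (LinearMap.single SS (fun _ : Fin n => SS) b).comp
      (LinearMap.proj (R := SS) (φ := fun _ : Fin n => SS) b))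
    (fun b => (isGr_proj k r a b).comp (isGr_single k r a b)) 0
  exact ((Finset.sum_congr rfl (fun b _ => h1 b)).trans h2.symm).trans
    ((tildeMap_congr (CohB1.polyGrading r k) _ isGr_id (sum_single_comp_proj k r) 0).trans
      (tildeMap_id (CohB1.polyGrading r k) 0))

/-- `(⊕ S(-a_b))~ ≅ ∐ O(-a_b)`. -/
noncomputable def freeIso :
    freeSh k r a ≅ ∐ fun b : Fin n => Twist.twistProjSpace r k (-(a b)) :=
  ((coproductIsCoproduct (summand k r a)).coconePointUniqueUpToIso
    (isBilimitOfTotal (bicone k r a) (bicone_total k r a)).isColimit).symm ≪≫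
    Sigma.mapIso fun b => (twistIso k r (a b)).symm

theorem isCoh_freeSh : Coh.IsCoh (freeSh k r a) :=
  Groth.Agent.Lib.Helper17.ProjSerre.isCoh_of_iso' (freeIso k r a).symm
    (CohSigma.isCoh_sigma n _ fun _ => FinCoh.isCoh_twist r k _)

/-- vanishing of the twisted cohomology of `(⊕ S(-a_b))~`. -/
theorem subsingleton_HH_freeSh (m : ℤ) (i : ℕ) (hi : 1 ≤ i) (ha : ∀ b, a b ≤ m + i) :
    Subsingleton (Coh.HH (CohB1.ProjSpace r k)
      (CohB1.tensorMod (freeSh k r a) (Twist.twistProjSpace r k m)) i) := by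
  haveI := isEquivalence_tw r k m
  let f : Fin n → (CohB1.ProjSpace r k).Modules := fun b => Twist.twistProjSpace r k (-(a b))
  let e0 : (tw r k m).obj (freeSh k r a) ≅ (tw r k m).obj (∐ f) :=
    (tw r k m).mapIso (freeIso k r a)
  let e1 : (tw r k m).obj (∐ f) ≅ ∐ fun b => (tw r k m).obj (f b) :=
    PreservesCoproduct.iso (tw r k m) f
  let e2 : (∐ fun b => (tw r k m).obj (f b)) ≅
      ∐ fun b : Fin n => Twist.twistProjSpace r k (-(a b) + m) :=
    Sigma.mapIso fun b => twistTensorIso r k (-(a b)) m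
  apply subsingleton_HH_of_iso k (e0 ≪≫ e1 ≪≫ e2) i
  apply subsingleton_HH_sigma k
  intro b
  apply PnVanish.subsingleton_HH r k (-(a b) + m) i
  · rintro ⟨h0, -⟩; omega
  · rintro ⟨h1, h2⟩
    have := ha b
    omega

end Groth.Agent.Lib.Helper94.PnFreeSheaf
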