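import Mathlib
import Groth.Prelude.Def_Disc

/-!
# Quasi-finite flat maps: general lemmas (helper94)

* `bijective_localRingHom_of_isOpenImmersion`: an open immersion `Spec S ⟶ Spec R` induces
  isomorphisms of local rings.
* `omegaAwayEquiv`: `C ⊗[S] Hom_R(S, R) ≃ Hom_R(C, R)` for a direct factor `C = S[1/e]`.
* `flat_of_faithfullyFlat_tensor`: descent of flatness over a base along a faithfully flat map.
* `isLocalRing_away_of_unique`: a direct factor of an integral algebra over a local ring is local
  if only one prime over the maximal ideal lies in it.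
-/

set_option autoImplicit false
universe u
open TensorProduct

namespace Groth.Agent.Lib.Helper94.QFLocal

open AlgebraicGeometry CategoryTheory in
/-- For an open immersion `Spec S ⟶ Spec R`, the induced maps on local rings are bijective. -/
theorem bijective_localRingHom_of_isOpenImmersion {R S : Type u} [CommRing R] [CommRing S]
    (f : R →+* S) (h : IsOpenImmersion (Spec.map (CommRingCat.ofHom f))) (q : Ideal S)
    [hq : q.IsPrime] :
    Function.Bijective (Localization.localRingHom (q.comap f) q f rfl) := by
  let p : PrimeSpectrum S := ⟨q, hq⟩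
  have hiso : IsIso ((Spec.map (CommRingCat.ofHom f)).stalkMap p) := inferInstance
  have e := Scheme.arrowStalkMapSpecIso (CommRingCat.ofHom f) p
  have h2 : IsIso (CommRingCat.ofHom (Localization.localRingHom
      (p.comap (CommRingCat.ofHom f).hom).asIdeal p.asIdeal (CommRingCat.ofHom f).hom rfl)) :=
    ((MorphismProperty.isomorphisms CommRingCat).arrow_mk_iso_iff e).mp hiso
  exact (ConcreteCategory.isIso_iff_bijective _).mp h2

section Idem

variable {R S C : Type u} [CommRing R] [CommRing S] [CommRing C] [Algebra R S] [Algebra S C]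
  [Algebra R C] [IsScalarTower R S C] (e : S) (he : IsIdempotentElem e) [IsLocalization.Away e C]

include he in
theorem algebraMap_idem : algebraMap S C e = 1 := by
  have hu : IsUnit (algebraMap S C e) := IsLocalization.Away.algebraMap_isUnit e
  have h2 : algebraMap S C e * algebraMap S C e = algebraMap S C e * 1 := by
    rw [← map_mul, he.eq, mul_one]
  exact hu.mul_left_cancel h2

include he in
theorem mul_eq_of_map_eq {s s' : S} (h : algebraMap S C s = algebraMap S C s') :
    e * s = e * s' := by
  obtain ⟨⟨_, n, rfl⟩, hc⟩ := (IsLocalization.eq_iff_exists (Submonoid.powers e) C).mp h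
  cases n with
  | zero => simpa using congrArg (fun x => e * x) hc
  | succ n =>
    have h3 : e ^ (n + 1) = e := he.pow_succ_eq n
    simpa [h3] using hc

include he in
theorem algebraMap_surj : Function.Surjective (algebraMap S C) :=
  IsLocalization.Away.algebraMap_surjective_of_isIdempotentElem e he

/-- a chosen section of `S → C`. -/
noncomputable def sec (c : C) : S := Function.surjInv (algebraMap_surj (C := C) e he) c

theorem map_sec (c : C) : algebraMap S C (sec e he c) = c :=
  Function.surjInv_eq (algebraMap_surj (C := C) e he) c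

/-- restriction of a functional on `S` to the direct factor `C = S[1/e]`. -/
noncomputable def restr (ψ : Disc.Omega R S) : Disc.Omega R C :=
  ⟨{ toFun := fun c => ψ.toLinearMap (e * sec e he c)
     map_add' := fun c c' => by
       rw [← map_add, ← mul_add]
       congr 1
       apply mul_eq_of_map_eq (C := C) e he
       rw [map_add, map_sec, map_sec, map_sec]
     map_smul' := fun r c => by
       rw [RingHom.id_apply, ← map_smul]
       congr 1
       have h1 : r • (e * sec e he c) = e * (algebraMap R S r * sec e he c) := by
         rw [Algebra.smul_def]; ring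
       rw [h1]
       apply mul_eq_of_map_eq (C := C) e he
       rw [map_mul, map_sec, map_sec, Algebra.smul_def, ← IsScalarTower.algebraMap_apply] }⟩

theorem restr_apply (ψ : Disc.Omega R S) (s : S) :
    (restr (C := C) e he ψ).toLinearMap (algebraMap S C s) = ψ.toLinearMap (e * s) := by
  change ψ.toLinearMap (e * sec e he (algebraMap S C s)) = _
  congr 1
  apply mul_eq_of_map_eq (C := C) e he
  rw [map_sec]

theorem restr_add (ψ ψ' : Disc.Omega R S) :
    restr (C := C) e he (ψ + ψ') = restr e he ψ + restr e he ψ' := by
  apply Disc.Omega.ext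
  ext c
  rfl

theorem restr_smul (s : S) (ψ : Disc.Omega R S) :
    restr (C := C) e he (s • ψ) = algebraMap S C s • restr e he ψ := by
  apply Disc.Omega.ext
  ext c
  obtain ⟨t, rfl⟩ := algebraMap_surj (C := C) e he c
  rw [Disc.Omega.smul_toLinearMap_apply, ← map_mul, restr_apply, restr_apply,
    Disc.Omega.smul_toLinearMap_apply]
  congr 1
  ring

/-- pull back a functional on `C` to `S`. -/
noncomputable def infl (φ : Disc.Omega R C) : Disc.Omega R S :=
  ⟨φ.toLinearMap ∘ₗ (IsScalarTower.toAlgHom R S C).toLinearMap⟩

omit [IsLocalization.Away e C] in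
theorem infl_apply (φ : Disc.Omega R C) (s : S) :
    (infl φ).toLinearMap s = φ.toLinearMap (algebraMap S C s) := rfl

theorem restr_infl (φ : Disc.Omega R C) : restr (C := C) e he (infl φ) = φ := by
  apply Disc.Omega.ext
  ext c
  obtain ⟨t, rfl⟩ := algebraMap_surj (C := C) e he c
  rw [restr_apply, infl_apply, map_mul, algebraMap_idem (C := C) e he, one_mul]

theorem infl_smul_restr (s : S) (ψ : Disc.Omega R S) :
    infl (algebraMap S C s • restr (C := C) e he ψ) = (e * s) • ψ := by
  apply Disc.Omega.ext
  ext t
  rw [infl_apply, Disc.Omega.smul_toLinearMap_apply, ← map_mul, restr_apply,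
    Disc.Omega.smul_toLinearMap_apply, mul_assoc]

/-- `C ⊗[S] Hom_R(S, R) ≃ Hom_R(C, R)` for a direct factor `C = S[1/e]` of `S`. -/
noncomputable def omegaAwayEquiv : C ⊗[S] Disc.Omega R S ≃ₗ[C] Disc.Omega R C := by
  letI : Module S (Disc.Omega R C) := Module.compHom _ (algebraMap S C)
  haveI : IsScalarTower S C (Disc.Omega R C) :=
    IsScalarTower.of_algebraMap_smul fun _ _ => rfl
  let Φ : C ⊗[S] Disc.Omega R S →ₗ[C] Disc.Omega R C :=
    TensorProduct.AlgebraTensorModule.lift
      { toFun := fun c =>
          { toFun := fun ψ => c • restr e he ψ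
            map_add' := fun ψ ψ' => by rw [restr_add, smul_add]
            map_smul' := fun s ψ => by
              rw [restr_smul, RingHom.id_apply, smul_comm]
              rfl }
        map_add' := fun c c' => by ext ψ : 1; exact add_smul c c' _
        map_smul' := fun c c' => by ext ψ : 1; exact mul_smul c c' _ }
  have hΦ : ∀ (c : C) (ψ : Disc.Omega R S), Φ (c ⊗ₜ ψ) = c • restr e he ψ := fun _ _ => rfl
  refine
    { Φ with
      invFun := fun φ => (1 : C) ⊗ₜ[S] infl φ
      left_inv := ?_
      right_inv := ?_ }
  · intro x
    induction x using TensorProduct.induction_on with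
    | zero =>
      change (1 : C) ⊗ₜ[S] infl (Φ 0) = 0
      rw [map_zero]
      have : infl (0 : Disc.Omega R C) = (0 : Disc.Omega R S) := by
        apply Disc.Omega.ext; rfl
      rw [this, tmul_zero]
    | add x y hx hy =>
      change (1 : C) ⊗ₜ[S] infl (Φ (x + y)) = x + y
      have h1 : infl (Φ (x + y)) = infl (Φ x) + infl (R := R) (S := S) (Φ y) := by
        rw [map_add]; apply Disc.Omega.ext; rfl
      rw [h1, tmul_add]
      exact congrArg₂ (· + ·) hx hy
    | tmul c ψ =>
      change (1 : C) ⊗ₜ[S] infl (Φ (c ⊗ₜ ψ)) = c ⊗ₜ ψ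
      obtain ⟨s, rfl⟩ := algebraMap_surj (C := C) e he c
      rw [hΦ, infl_smul_restr, ← smul_tmul, Algebra.smul_def, mul_one, map_mul,
        algebraMap_idem (C := C) e he, one_mul]
  · intro φ
    change Φ ((1 : C) ⊗ₜ[S] infl φ) = φ
    rw [hΦ, one_smul, restr_infl]

end Idem

/-- Descent of flatness over a base `A` along a faithfully flat ring map `B → L`. -/
theorem flat_of_faithfullyFlat_tensor {A B L M : Type u} [CommRing A] [CommRing B] [Algebra A B]
    [CommRing L] [Algebra B L] [Module.FaithfullyFlat B L] [AddCommGroup M] [Module B M]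
    [Module A M] [IsScalarTower A B M] [Algebra A L] [IsScalarTower A B L]
    (h : Module.Flat A (L ⊗[B] M)) : Module.Flat A M := by
  rw [Module.Flat.iff_lTensor_preserves_injective_linearMap]
  intro N N' _ _ _ _ f hf
  have h1 : Function.Injective (f.lTensor (L ⊗[B] M)) :=
    Module.Flat.lTensor_preserves_injective_linearMap f hf
  let g : M ⊗[A] N →ₗ[B] M ⊗[A] N' := AlgebraTensorModule.lTensor B M f
  have hg : ∀ x, g x = f.lTensor M x := fun x => rfl
  let a := AlgebraTensorModule.assoc A B B L M N
  let a' := AlgebraTensorModule.assoc A B B L M N'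
  have hcomm : ∀ x, g.lTensor L (a x) = a' (f.lTensor (L ⊗[B] M) x) := by
    intro x
    induction x using TensorProduct.induction_on with
    | zero => simp
    | add x y hx hy => simp only [map_add, hx, hy]
    | tmul y n =>
      induction y using TensorProduct.induction_on with
      | zero => simp
      | add x y hx hy => simp only [add_tmul, map_add, hx, hy]
      | tmul l m => rfl
  have h2 : Function.Injective (g.lTensor L) := by
    intro y y' hyy'
    obtain ⟨x, rfl⟩ := a.surjective y
    obtain ⟨x', rfl⟩ := a.surjective y'
    rw [hcomm, hcomm] at hyy'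
    rw [h1 (a'.injective hyy')]
  have h3 : Function.Injective g :=
    (Module.FaithfullyFlat.lTensor_injective_iff_injective B L g).mp h2
  intro x y hxy
  exact h3 (by rw [hg, hg, hxy])

/-- A direct factor `C = S[1/e]` of an integral algebra `S` over a local ring `R` is local as soon
as at most one prime of `S` over the maximal ideal avoids `e`. -/
theorem isLocalRing_away_of_unique {R S C : Type u} [CommRing R] [IsLocalRing R] [CommRing S]
    [Algebra R S] [Algebra.IsIntegral R S] [CommRing C] [Algebra S C] [Algebra R C]
    [IsScalarTower R S C] (e : S) (he : IsIdempotentElem e) [IsLocalization.Away e C]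
    [Nontrivial C]
    (huniq : ∀ n₁ n₂ : Ideal S, n₁.IsPrime → n₂.IsPrime →
      n₁.comap (algebraMap R S) = IsLocalRing.maximalIdeal R → n₂.comap (algebraMap R S) = IsLocalRing.maximalIdeal R →
      e ∉ n₁ → e ∉ n₂ → n₁ = n₂) : IsLocalRing C := by
  have hsurj : Function.Surjective (algebraMap S C) :=
    IsLocalization.Away.algebraMap_surjective_of_isIdempotentElem e he
  haveI : Algebra.IsIntegral R C :=
    Algebra.IsIntegral.of_surjective (IsScalarTower.toAlgHom R S C) hsurj
  have key : ∀ M : Ideal C, M.IsMaximal →
      (M.comap (algebraMap S C)).IsPrime ∧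
      (M.comap (algebraMap S C)).comap (algebraMap R S) = IsLocalRing.maximalIdeal R ∧
      e ∉ M.comap (algebraMap S C) := by
    intro M hM
    haveI := hM
    refine ⟨Ideal.IsPrime.comap _, ?_, ?_⟩
    · rw [Ideal.comap_comap, ← IsScalarTower.algebraMap_eq]
      haveI : (M.comap (algebraMap R C)).IsMaximal :=
        Ideal.isMaximal_comap_of_isIntegral_of_isMaximal M
      exact IsLocalRing.eq_maximalIdeal this
    · intro hmem
      rw [Ideal.mem_comap] at hmem
      have hu : IsUnit (algebraMap S C e) := IsLocalization.Away.algebraMap_isUnit e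
      exact hM.ne_top (Ideal.eq_top_of_isUnit_mem _ hmem hu)
  obtain ⟨M₀, hM₀⟩ := Ideal.exists_maximal C
  refine IsLocalRing.of_unique_max_ideal ⟨M₀, hM₀, fun M hM => ?_⟩
  obtain ⟨h1, h2, h3⟩ := key M hM
  obtain ⟨h1', h2', h3'⟩ := key M₀ hM₀
  have := huniq _ _ h1 h1' h2 h2' h3 h3'
  exact Ideal.comap_injective_of_surjective _ hsurj this

end Groth.Agent.Lib.Helper94.QFLocal
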