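import Mathlib
import Groth.Prelude.Def_Disc
import Groth.Prelude.Def_QFDual
import Groth.Agent.Lib.Helper27.OmegaBC2
import Groth.Agent.Lib.Helper94.QFLocalA

/-!
# Base change of `ω` for flat quasi-finite maps: general lemmas (helper94)
-/

set_option autoImplicit false
universe u
open TensorProduct

namespace Groth.Agent.Lib.Helper94.QFBC

open Groth.Agent.Lib.Helper94.QFLocal

section Basic

variable {A B' A₁ B'₁ : Type u} [CommRing A] [CommRing B'] [CommRing A₁] [CommRing B'₁]
  [Algebra A B'] [Algebra A A₁] [Algebra B' B'₁] [Algebra A₁ B'₁] [Algebra A B'₁]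
  [IsScalarTower A A₁ B'₁] [IsScalarTower A B' B'₁]

/-- Two `A₁`-linear forms on a pushout `B'₁ = B' ⊗_A A₁` agreeing on the image of `B'` are equal. -/
theorem omega_ext (h : Algebra.IsPushout A A₁ B' B'₁) {φ ψ : Disc.Omega A₁ B'₁}
    (H : ∀ b' : B', φ.toLinearMap (algebraMap B' B'₁ b') = ψ.toLinearMap (algebraMap B' B'₁ b')) :
    φ = ψ := by
  apply Disc.Omega.ext
  exact h.out.algHom_ext _ _ fun x => H x

/-- flat base change, no Noetherian hypothesis on the target. -/
theorem omegaBC_bijective_of_flat [Module.FinitePresentation A B'] [Module.Flat A A₁]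
    (h : Algebra.IsPushout A A₁ B' B'₁)
    {T : Type u} [CommRing T] [Algebra B'₁ T] [Algebra B' T] [IsScalarTower B' B'₁ T] :
    Function.Bijective (QFDual.omegaBC (B₁ := T) h) := by
  have h0 := Module.FinitePresentation.isBaseChange_map A B' A A₁
  have hj : IsBaseChange A₁ h.out.toDual := by
    refine IsBaseChange.of_equiv (h0.equiv ≪≫ₗ
      LinearEquiv.arrowCongr h.out.equiv (TensorProduct.AlgebraTensorModule.rid A A₁ A₁)) ?_
    intro f
    apply h.out.algHom_ext
    intro b'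
    rw [IsBaseChange.toDual_comp_apply, LinearEquiv.trans_apply, IsBaseChange.equiv_tmul, one_smul,
      LinearEquiv.arrowCongr_apply, IsBaseChange.equiv_symm_apply]
    simp [Algebra.algebraMap_eq_smul_one]
  exact Groth.Agent.Lib.Helper27.OmegaBC2.omegaBC_bijective h hj

/-- finite free case. -/
theorem omegaBC_bijective_of_free [Module.Free A B'] [Module.Finite A B']
    (h : Algebra.IsPushout A A₁ B' B'₁)
    {T : Type u} [CommRing T] [Algebra B'₁ T] [Algebra B' T] [IsScalarTower B' B'₁ T] :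
    Function.Bijective (QFDual.omegaBC (B₁ := T) h) :=
  Groth.Agent.Lib.Helper27.OmegaBC2.omegaBC_bijective h h.out.dual

end Basic

section Natural

variable {A B' A₁ B'₁ : Type u} [CommRing A] [CommRing B'] [CommRing A₁] [CommRing B'₁]
  [Algebra A B'] [Algebra A A₁] [Algebra B' B'₁] [Algebra A₁ B'₁] [Algebra A B'₁]
  [IsScalarTower A A₁ B'₁] [IsScalarTower A B' B'₁]
  (h : Algebra.IsPushout A A₁ B' B'₁)
  (T T' : Type u) [CommRing T] [CommRing T'] [Algebra B'₁ T] [Algebra B' T] [IsScalarTower B' B'₁ T]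
  [Algebra B'₁ T'] [Algebra B' T'] [IsScalarTower B' B'₁ T'] [Algebra T T'] [IsScalarTower B'₁ T T']
  [IsScalarTower B' T T']

theorem lTensor_comm (x : T' ⊗[T] (T ⊗[B'] Disc.Omega A B')) :
    AlgebraTensorModule.cancelBaseChange B'₁ T T' T' (Disc.Omega A₁ B'₁)
      ((QFDual.omegaBC (B₁ := T) h).lTensor T' x) =
    QFDual.omegaBC (B₁ := T') h
      (AlgebraTensorModule.cancelBaseChange B' T T' T' (Disc.Omega A B') x) := by
  induction x using TensorProduct.induction_on with
  | zero => simp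
  | add x y hx hy => simp only [map_add, hx, hy]
  | tmul t' y =>
    induction y using TensorProduct.induction_on with
    | zero => simp
    | add x y hx hy => simp only [tmul_add, map_add, hx, hy]
    | tmul t φ =>
      rw [LinearMap.lTensor_tmul, QFDual.omegaBC_tmul, AlgebraTensorModule.cancelBaseChange_tmul,
        AlgebraTensorModule.cancelBaseChange_tmul, QFDual.omegaBC_tmul]

theorem lTensor_bijective_iff :
    Function.Bijective ((QFDual.omegaBC (B₁ := T) h).lTensor T') ↔
      Function.Bijective (QFDual.omegaBC (B₁ := T') h) := by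
  have h2 : ((QFDual.omegaBC (B₁ := T) h).lTensor T' : _ → _) =
      (AlgebraTensorModule.cancelBaseChange B'₁ T T' T' (Disc.Omega A₁ B'₁)).symm ∘
        (QFDual.omegaBC (B₁ := T') h) ∘
        (AlgebraTensorModule.cancelBaseChange B' T T' T' (Disc.Omega A B')) := by
    funext y
    simp only [Function.comp_apply]
    rw [← lTensor_comm, LinearEquiv.symm_apply_apply]
  rw [h2]
  constructor
  · intro H
    have H1 := (Function.Bijective.of_comp_iff' (LinearEquiv.bijective _) _).mp H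
    exact (Function.Bijective.of_comp_iff _ (LinearEquiv.bijective _)).mp H1
  · intro H
    exact (LinearEquiv.bijective _).comp (H.comp (LinearEquiv.bijective _))

theorem bijective_of_algebra (hT : Function.Bijective (QFDual.omegaBC (B₁ := T) h)) :
    Function.Bijective (QFDual.omegaBC (B₁ := T') h) := by
  rw [← lTensor_bijective_iff h T T']
  exact (LinearEquiv.lTensor T' (LinearEquiv.ofBijective (QFDual.omegaBC (B₁ := T) h) hT)).bijective

theorem bijective_of_faithfullyFlat [Module.FaithfullyFlat T T']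
    (hT' : Function.Bijective (QFDual.omegaBC (B₁ := T') h)) :
    Function.Bijective (QFDual.omegaBC (B₁ := T) h) := by
  rw [← Module.FaithfullyFlat.lTensor_bijective_iff_bijective T T', lTensor_bijective_iff]
  exact hT'

end Natural

section LocalGlobal

variable {A B' A₁ B'₁ : Type u} [CommRing A] [CommRing B'] [CommRing A₁] [CommRing B'₁]
  [Algebra A B'] [Algebra A A₁] [Algebra B' B'₁] [Algebra A₁ B'₁] [Algebra A B'₁]
  [IsScalarTower A A₁ B'₁] [IsScalarTower A B' B'₁]
  (h : Algebra.IsPushout A A₁ B' B'₁)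
  (T : Type u) [CommRing T] [Algebra B'₁ T] [Algebra B' T] [IsScalarTower B' B'₁ T]

theorem bijective_of_forall_maximal
    (H : ∀ (P : Ideal T) [P.IsMaximal],
      Function.Bijective (QFDual.omegaBC (B₁ := Localization.AtPrime P) h)) :
    Function.Bijective (QFDual.omegaBC (B₁ := T) h) := by
  refine bijective_of_isLocalized_maximal
    (fun P _ => Localization.AtPrime P ⊗[T] (T ⊗[B'] Disc.Omega A B'))
    (fun P _ => TensorProduct.mk T (Localization.AtPrime P) _ 1)
    (fun P _ => Localization.AtPrime P ⊗[T] (T ⊗[B'₁] Disc.Omega A₁ B'₁))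
    (fun P _ => TensorProduct.mk T (Localization.AtPrime P) _ 1) _ ?_
  intro P hP
  have h1 : IsLocalizedModule.map P.primeCompl
      (TensorProduct.mk T (Localization.AtPrime P) (T ⊗[B'] Disc.Omega A B') 1)
      (TensorProduct.mk T (Localization.AtPrime P) (T ⊗[B'₁] Disc.Omega A₁ B'₁) 1)
      (QFDual.omegaBC (B₁ := T) h) = (QFDual.omegaBC (B₁ := T) h).lTensor (Localization.AtPrime P) := by
    apply IsLocalizedModule.linearMap_ext P.primeCompl
      (TensorProduct.mk T (Localization.AtPrime P) (T ⊗[B'] Disc.Omega A B') 1)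
      (TensorProduct.mk T (Localization.AtPrime P) (T ⊗[B'₁] Disc.Omega A₁ B'₁) 1)
    refine LinearMap.ext fun m => ?_
    rw [LinearMap.comp_apply, LinearMap.comp_apply, IsLocalizedModule.map_apply]
    rfl
  rw [h1, lTensor_bijective_iff]
  exact H P

end LocalGlobal

section Cube

variable {A A₁ A₂ A₁₂ B' B'₁ B'₂ B'₁₂ : Type u} [CommRing A] [CommRing A₁] [CommRing A₂]
  [CommRing A₁₂] [CommRing B'] [CommRing B'₁] [CommRing B'₂] [CommRing B'₁₂]
  [Algebra A B'] [Algebra A A₁] [Algebra B' B'₁] [Algebra A₁ B'₁] [Algebra A B'₁]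
  [IsScalarTower A A₁ B'₁] [IsScalarTower A B' B'₁]
  [Algebra A A₂] [Algebra B' B'₂] [Algebra A₂ B'₂] [Algebra A B'₂]
  [IsScalarTower A A₂ B'₂] [IsScalarTower A B' B'₂]
  [Algebra A₁ A₁₂] [Algebra B'₁ B'₁₂] [Algebra A₁₂ B'₁₂] [Algebra A₁ B'₁₂]
  [IsScalarTower A₁ A₁₂ B'₁₂] [IsScalarTower A₁ B'₁ B'₁₂]
  [Algebra A₂ A₁₂] [Algebra B'₂ B'₁₂] [Algebra A₂ B'₁₂]
  [IsScalarTower A₂ A₁₂ B'₁₂] [IsScalarTower A₂ B'₂ B'₁₂]
  (h₁ : Algebra.IsPushout A A₁ B' B'₁) (h₂ : Algebra.IsPushout A A₂ B' B'₂)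
  (h₁₂ : Algebra.IsPushout A₁ A₁₂ B'₁ B'₁₂) (h₂₁ : Algebra.IsPushout A₂ A₁₂ B'₂ B'₁₂)
  (hA : (algebraMap A₁ A₁₂).comp (algebraMap A A₁) = (algebraMap A₂ A₁₂).comp (algebraMap A A₂))
  (hB : (algebraMap B'₁ B'₁₂).comp (algebraMap B' B'₁) =
    (algebraMap B'₂ B'₁₂).comp (algebraMap B' B'₂))

include h₁ h₁₂ in
theorem omega_ext₂ {φ ψ : Disc.Omega A₁₂ B'₁₂}
    (H : ∀ b' : B', φ.toLinearMap (algebraMap B'₁ B'₁₂ (algebraMap B' B'₁ b')) =
      ψ.toLinearMap (algebraMap B'₁ B'₁₂ (algebraMap B' B'₁ b'))) : φ = ψ := by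
  apply omega_ext h₁₂
  intro b₁
  induction b₁ using h₁.out.inductionOn with
  | zero => simp
  | tmul b' => exact H b'
  | smul a₁ b₁ hb =>
    have e1 : algebraMap B'₁ B'₁₂ (a₁ • b₁) = algebraMap A₁ A₁₂ a₁ • algebraMap B'₁ B'₁₂ b₁ := by
      rw [Algebra.smul_def, map_mul, ← IsScalarTower.algebraMap_apply A₁ B'₁ B'₁₂,
        IsScalarTower.algebraMap_apply A₁ A₁₂ B'₁₂, ← Algebra.smul_def]
    rw [e1, map_smul, map_smul, hb]
  | add x y hx hy => rw [map_add, map_add, map_add, hx, hy]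

include hA hB in
theorem bcFin_cube (φ : Disc.Omega A B') :
    QFDual.bcFin h₁₂ (QFDual.bcFin h₁ φ) = QFDual.bcFin h₂₁ (QFDual.bcFin h₂ φ) := by
  apply omega_ext₂ h₁ h₁₂
  intro b'
  rw [QFDual.bcFin_apply_algebraMap, QFDual.bcFin_apply_algebraMap]
  have e1 : algebraMap B'₁ B'₁₂ (algebraMap B' B'₁ b') =
      algebraMap B'₂ B'₁₂ (algebraMap B' B'₂ b') := RingHom.congr_fun hB b'
  rw [e1, QFDual.bcFin_apply_algebraMap, QFDual.bcFin_apply_algebraMap]
  exact RingHom.congr_fun hA _

variable (T : Type u) [CommRing T] [Algebra B'₁₂ T] [Algebra B'₁ T] [Algebra B'₂ T] [Algebra B' T]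
  [IsScalarTower B'₁ B'₁₂ T] [IsScalarTower B'₂ B'₁₂ T] [IsScalarTower B' B'₁ T]
  [IsScalarTower B' B'₂ T]

include hA hB in
theorem omegaBC_cube (x : T ⊗[B'] Disc.Omega A B') :
    QFDual.omegaBC (B₁ := T) h₁₂ (QFDual.omegaBC (B₁ := T) h₁ x) =
      QFDual.omegaBC (B₁ := T) h₂₁ (QFDual.omegaBC (B₁ := T) h₂ x) := by
  induction x using TensorProduct.induction_on with
  | zero => simp
  | add x y hx hy => simp only [map_add, hx, hy]
  | tmul t φ =>
    rw [QFDual.omegaBC_tmul, QFDual.omegaBC_tmul, QFDual.omegaBC_tmul, QFDual.omegaBC_tmul,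
      bcFin_cube h₁ h₂ h₁₂ h₂₁ hA hB]

include hA hB in
theorem bijective_of_cube (H₂ : Function.Bijective (QFDual.omegaBC (B₁ := T) h₂))
    (H₂₁ : Function.Bijective (QFDual.omegaBC (B₁ := T) h₂₁))
    (H₁₂ : Function.Bijective (QFDual.omegaBC (B₁ := T) h₁₂)) :
    Function.Bijective (QFDual.omegaBC (B₁ := T) h₁) := by
  have e : (QFDual.omegaBC (B₁ := T) h₁₂) ∘ (QFDual.omegaBC (B₁ := T) h₁) =
      (QFDual.omegaBC (B₁ := T) h₂₁) ∘ (QFDual.omegaBC (B₁ := T) h₂) :=
    funext fun x => omegaBC_cube h₁ h₂ h₁₂ h₂₁ hA hB T x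
  have h3 : Function.Bijective ((QFDual.omegaBC (B₁ := T) h₁₂) ∘ (QFDual.omegaBC (B₁ := T) h₁)) := by
    rw [e]; exact H₂₁.comp H₂
  exact (Function.Bijective.of_comp_iff' H₁₂ _).mp h3

end Cube

section Idem

variable {R S R' S' C C' : Type u} [CommRing R] [CommRing S] [CommRing R'] [CommRing S']
  [CommRing C] [CommRing C']
  [Algebra R S] [Algebra R R'] [Algebra S S'] [Algebra R' S'] [Algebra R S']
  [IsScalarTower R R' S'] [IsScalarTower R S S']
  (h : Algebra.IsPushout R R' S S') (e : S) (he : IsIdempotentElem e)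
  [Algebra S C] [Algebra R C] [IsScalarTower R S C] [IsLocalization.Away e C]
  [Algebra S' C'] [Algebra R' C'] [IsScalarTower R' S' C']
  [IsLocalization.Away (algebraMap S S' e) C']
  [Algebra S C'] [IsScalarTower S S' C']

theorem omegaAwayEquiv_tmul (c : C) (ψ : Disc.Omega R S) :
    omegaAwayEquiv (R := R) (C := C) e he (c ⊗ₜ[S] ψ) = c • restr e he ψ := rfl

include he in
theorem bijective_of_idem [Module.Free R C] [Module.Finite R C] :
    Function.Bijective (QFDual.omegaBC (B₁ := C') h) := by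
  set e' : S' := algebraMap S S' e with he'def
  have he' : IsIdempotentElem e' := he.map (algebraMap S S')
  have hu : IsUnit (algebraMap S C' e) := by
    rw [IsScalarTower.algebraMap_apply S S' C']
    exact IsLocalization.Away.algebraMap_isUnit e'
  let γ : C →+* C' := IsLocalization.Away.lift e hu
  have hγ : ∀ s : S, γ (algebraMap S C s) = algebraMap S C' s := fun s =>
    IsLocalization.Away.lift_eq e hu s
  letI : Algebra C C' := γ.toAlgebra
  haveI : IsScalarTower S C C' := IsScalarTower.of_algebraMap_eq fun s => (hγ s).symm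
  letI : Algebra R C' := ((algebraMap R' C').comp (algebraMap R R')).toAlgebra
  haveI : IsScalarTower R R' C' := IsScalarTower.of_algebraMap_eq fun _ => rfl
  haveI : IsScalarTower R S' C' := IsScalarTower.of_algebraMap_eq fun r => by
    change algebraMap R' C' (algebraMap R R' r) = _
    rw [IsScalarTower.algebraMap_apply R' S' C', ← IsScalarTower.algebraMap_apply R R' S']
  haveI : IsScalarTower R C C' := IsScalarTower.of_algebraMap_eq fun r => by
    rw [IsScalarTower.algebraMap_apply R S C, ← IsScalarTower.algebraMap_apply S C C',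
      IsScalarTower.algebraMap_apply S S' C', ← IsScalarTower.algebraMap_apply R S S',
      ← IsScalarTower.algebraMap_apply R S' C']
  haveI : IsLocalization (Algebra.algebraMapSubmonoid S' (Submonoid.powers e)) C' := by
    rw [Algebra.algebraMapSubmonoid_powers]
    infer_instance
  have hloc : Algebra.IsPushout S S' C C' :=
    Algebra.isPushout_of_isLocalization (Submonoid.powers e) C S' C'
  haveI := h.symm
  have hC : Algebra.IsPushout R R' C C' :=
    ((Algebra.IsPushout.comp_iff R S R' (S' := S') (T := C) (T' := C')).mpr hloc.symm).symm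
  have hθC : Function.Bijective (QFDual.omegaBC (B₁ := C') hC) := omegaBC_bijective_of_free hC
  -- the comparison
  have hres : ∀ ψ : Disc.Omega R S,
      restr (C := C') e' he' (QFDual.bcFin h ψ) = QFDual.bcFin hC (restr (C := C) e he ψ) := by
    intro ψ
    apply omega_ext hC
    intro c
    obtain ⟨s, rfl⟩ := algebraMap_surj (C := C) e he c
    rw [QFDual.bcFin_apply_algebraMap, restr_apply, ← IsScalarTower.algebraMap_apply S C C',
      IsScalarTower.algebraMap_apply S S' C', restr_apply, he'def, ← map_mul,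
      QFDual.bcFin_apply_algebraMap]
  let e1 : C' ⊗[S] Disc.Omega R S ≃ₗ[C'] C' ⊗[C] (C ⊗[S] Disc.Omega R S) :=
    (AlgebraTensorModule.cancelBaseChange S C C' C' (Disc.Omega R S)).symm
  let e2 : C' ⊗[C] (C ⊗[S] Disc.Omega R S) ≃ₗ[C] C' ⊗[C] Disc.Omega R C :=
    LinearEquiv.lTensor C' (omegaAwayEquiv (R := R) (C := C) e he)
  let e3 : C' ⊗[S'] Disc.Omega R' S' ≃ₗ[C'] Disc.Omega R' C' :=
    omegaAwayEquiv (R := R') (C := C') e' he'
  let e4 : C' ⊗[C'] Disc.Omega R' C' ≃ₗ[C'] Disc.Omega R' C' := TensorProduct.lid C' _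
  have key : ∀ x, e3 (QFDual.omegaBC (B₁ := C') h x) =
      e4 (QFDual.omegaBC (B₁ := C') hC (e2 (e1 x))) := by
    intro x
    induction x using TensorProduct.induction_on with
    | zero => simp
    | add x y hx hy => simp only [map_add, hx, hy]
    | tmul c' ψ =>
      have h1 : e1 (c' ⊗ₜ[S] ψ) = c' ⊗ₜ[C] ((1 : C) ⊗ₜ[S] ψ) :=
        AlgebraTensorModule.cancelBaseChange_symm_tmul ..
      have h2 : e2 (c' ⊗ₜ[C] ((1 : C) ⊗ₜ[S] ψ)) = c' ⊗ₜ[C] restr (C := C) e he ψ := by
        change c' ⊗ₜ[C] (omegaAwayEquiv (R := R) (C := C) e he ((1 : C) ⊗ₜ[S] ψ)) = _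
        rw [omegaAwayEquiv_tmul, one_smul]
      rw [h1, h2, QFDual.omegaBC_tmul, QFDual.omegaBC_tmul]
      change omegaAwayEquiv (R := R') (C := C') e' he' (c' ⊗ₜ[S'] QFDual.bcFin h ψ) =
        TensorProduct.lid C' _ (c' ⊗ₜ[C'] QFDual.bcFin hC (restr (C := C) e he ψ))
      rw [omegaAwayEquiv_tmul, TensorProduct.lid_tmul, hres]
  have h2 : (QFDual.omegaBC (B₁ := C') h : _ → _) =
      e3.symm ∘ e4 ∘ (QFDual.omegaBC (B₁ := C') hC) ∘ e2 ∘ e1 := by
    funext x
    simp only [Function.comp_apply]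
    rw [← key, LinearEquiv.symm_apply_apply]
  rw [h2]
  exact (LinearEquiv.bijective _).comp ((LinearEquiv.bijective _).comp
    (hθC.comp ((LinearEquiv.bijective _).comp (LinearEquiv.bijective _))))

end Idem

end Groth.Agent.Lib.Helper94.QFBC
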