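import Mathlib
import Groth.Prelude.Def_Disc
import Groth.Prelude.Def_QFDual
import Groth.Agent.Lib.Helper94.QFBCA

/-!
# Base change of `ω` for flat quasi-finite maps: the étale-local cube (helper94)

`bijective_of_isUnit`: let `A → B'` be finite (`A`, `A₁` Noetherian), `B'₁ = B' ⊗_A A₁`, `A₂` a flat
`A`-algebra and `e₂` an idempotent of `A₂ ⊗_A B'` with `(A₂ ⊗_A B')[1/e₂]` finite free over `A₂`.
Then the base change map `T ⊗_{B'} Hom_A(B', A) → T ⊗_{B'₁} Hom_{A₁}(B'₁, A₁)` is bijective for every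
`A₂ ⊗_A B'₁`-algebra `T` in which the image of `e₂` is a unit.
-/

set_option autoImplicit false
universe u
open TensorProduct

namespace Groth.Agent.Lib.Helper94.QFBC

open Groth.Agent.Lib.Helper94.QFLocal

attribute [local instance] Algebra.TensorProduct.rightAlgebra

section MainLocal

variable {A A₁ A₂ B' B'₁ : Type u} [CommRing A] [CommRing A₁] [CommRing A₂] [CommRing B']
  [CommRing B'₁] [Algebra A B'] [Algebra A A₁] [Algebra B' B'₁] [Algebra A₁ B'₁] [Algebra A B'₁]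
  [IsScalarTower A A₁ B'₁] [IsScalarTower A B' B'₁] [Algebra A A₂]

/-- the map `A₂ ⊗ B' → A₂ ⊗ B'₁`. -/
noncomputable abbrev μB : A₂ ⊗[A] B' →ₐ[A₂] A₂ ⊗[A] B'₁ :=
  Algebra.TensorProduct.map (AlgHom.id A₂ A₂) (IsScalarTower.toAlgHom A B' B'₁)

/-- the map `A₂ ⊗ A₁ → A₂ ⊗ B'₁`. -/
noncomputable abbrev μA : A₂ ⊗[A] A₁ →ₐ[A₂] A₂ ⊗[A] B'₁ :=
  Algebra.TensorProduct.map (AlgHom.id A₂ A₂) (IsScalarTower.toAlgHom A A₁ B'₁)

theorem bijective_of_isLocalization_away (h : Algebra.IsPushout A A₁ B' B'₁)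
    [IsNoetherianRing A] [IsNoetherianRing A₁] [Module.Finite A B'] [Module.Flat A A₂]
    (e₂ : A₂ ⊗[A] B') (he₂ : IsIdempotentElem e₂)
    [Module.Finite A₂ (Localization.Away e₂)] [Module.Free A₂ (Localization.Away e₂)]
    (T : Type u) [CommRing T] [Algebra B'₁ T] [Algebra B' T] [IsScalarTower B' B'₁ T]
    [Algebra (A₂ ⊗[A] B'₁) T] [IsScalarTower B'₁ (A₂ ⊗[A] B'₁) T]
    [IsLocalization.Away (μB (A₂ := A₂) (B'₁ := B'₁) e₂) T] :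
    Function.Bijective (QFDual.omegaBC (B₁ := T) h) := by
  -- the algebra structures at level 12
  letI algA : Algebra (A₂ ⊗[A] A₁) (A₂ ⊗[A] B'₁) := (μA (A₂ := A₂) (A₁ := A₁) (B'₁ := B'₁)).toRingHom.toAlgebra
  letI algB : Algebra (A₂ ⊗[A] B') (A₂ ⊗[A] B'₁) := (μB (A₂ := A₂) (B' := B') (B'₁ := B'₁)).toRingHom.toAlgebra
  letI algA₁ : Algebra A₁ (A₂ ⊗[A] B'₁) :=
    ((algebraMap B'₁ (A₂ ⊗[A] B'₁)).comp (algebraMap A₁ B'₁)).toAlgebra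
  letI algB' : Algebra B' (A₂ ⊗[A] B'₁) :=
    ((algebraMap B'₁ (A₂ ⊗[A] B'₁)).comp (algebraMap B' B'₁)).toAlgebra
  haveI t1 : IsScalarTower A₁ B'₁ (A₂ ⊗[A] B'₁) := IsScalarTower.of_algebraMap_eq fun _ => rfl
  haveI t2 : IsScalarTower B' B'₁ (A₂ ⊗[A] B'₁) := IsScalarTower.of_algebraMap_eq fun _ => rfl
  haveI t3 : IsScalarTower A₂ (A₂ ⊗[A] A₁) (A₂ ⊗[A] B'₁) := IsScalarTower.of_algebraMap_eq fun a => by
    change _ = μA (A₂ := A₂) (A₁ := A₁) (B'₁ := B'₁) (algebraMap A₂ _ a)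
    rw [AlgHom.commutes]
  haveI t4 : IsScalarTower A₂ (A₂ ⊗[A] B') (A₂ ⊗[A] B'₁) := IsScalarTower.of_algebraMap_eq fun a => by
    change _ = μB (A₂ := A₂) (B' := B') (B'₁ := B'₁) (algebraMap A₂ _ a)
    rw [AlgHom.commutes]
  haveI t5 : IsScalarTower A₁ (A₂ ⊗[A] A₁) (A₂ ⊗[A] B'₁) := IsScalarTower.of_algebraMap_eq fun a => by
    change (1 : A₂) ⊗ₜ[A] algebraMap A₁ B'₁ a = μA (A₂ := A₂) (A₁ := A₁) (B'₁ := B'₁) ((1 : A₂) ⊗ₜ[A] a)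
    rw [Algebra.TensorProduct.map_tmul]
    rfl
  haveI t6 : IsScalarTower B' (A₂ ⊗[A] B') (A₂ ⊗[A] B'₁) := IsScalarTower.of_algebraMap_eq fun b => by
    change (1 : A₂) ⊗ₜ[A] algebraMap B' B'₁ b = μB (A₂ := A₂) (B' := B') (B'₁ := B'₁) ((1 : A₂) ⊗ₜ[A] b)
    rw [Algebra.TensorProduct.map_tmul]
    rfl
  haveI t7 : IsScalarTower A (A₂ ⊗[A] A₁) (A₂ ⊗[A] B'₁) := IsScalarTower.of_algebraMap_eq fun a => by
    rw [IsScalarTower.algebraMap_apply A A₂ (A₂ ⊗[A] B'₁),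
      IsScalarTower.algebraMap_apply A₂ (A₂ ⊗[A] A₁) (A₂ ⊗[A] B'₁),
      ← IsScalarTower.algebraMap_apply A A₂ (A₂ ⊗[A] A₁)]
  haveI t8 : IsScalarTower A (A₂ ⊗[A] B') (A₂ ⊗[A] B'₁) := IsScalarTower.of_algebraMap_eq fun a => by
    rw [IsScalarTower.algebraMap_apply A A₂ (A₂ ⊗[A] B'₁),
      IsScalarTower.algebraMap_apply A₂ (A₂ ⊗[A] B') (A₂ ⊗[A] B'₁),
      ← IsScalarTower.algebraMap_apply A A₂ (A₂ ⊗[A] B')]
  haveI t9 : IsScalarTower A A₁ (A₂ ⊗[A] B'₁) := IsScalarTower.of_algebraMap_eq fun a => by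
    rw [IsScalarTower.algebraMap_apply A B'₁ (A₂ ⊗[A] B'₁),
      IsScalarTower.algebraMap_apply A A₁ B'₁,
      ← IsScalarTower.algebraMap_apply A₁ B'₁ (A₂ ⊗[A] B'₁)]
  -- pushouts
  have h₂ : Algebra.IsPushout A A₂ B' (A₂ ⊗[A] B') := TensorProduct.isPushout
  have h₁₂ : Algebra.IsPushout A₁ (A₂ ⊗[A] A₁) B'₁ (A₂ ⊗[A] B'₁) := by
    haveI : Algebra.IsPushout A A₁ A₂ (A₂ ⊗[A] A₁) := TensorProduct.isPushout'
    have hbig : Algebra.IsPushout A B'₁ A₂ (A₂ ⊗[A] B'₁) := TensorProduct.isPushout'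
    exact ((Algebra.IsPushout.comp_iff A A₁ A₂ (S' := A₂ ⊗[A] A₁) (T := B'₁)
      (T' := A₂ ⊗[A] B'₁)).mp hbig).symm
  have hα : Algebra.IsPushout B' B'₁ (A₂ ⊗[A] B') (A₂ ⊗[A] B'₁) := by
    haveI : Algebra.IsPushout A B' A₂ (A₂ ⊗[A] B') := TensorProduct.isPushout'
    have hbig : Algebra.IsPushout A B'₁ A₂ (A₂ ⊗[A] B'₁) := TensorProduct.isPushout'
    exact (Algebra.IsPushout.comp_iff A B' A₂ (S' := A₂ ⊗[A] B') (T := B'₁)
      (T' := A₂ ⊗[A] B'₁)).mp hbig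
  have hβ : Algebra.IsPushout A (A₂ ⊗[A] B') A₁ (A₂ ⊗[A] B'₁) := by
    haveI : Algebra.IsPushout A B' A₁ B'₁ := h.symm
    exact (Algebra.IsPushout.comp_iff A B' A₁ (S' := B'₁) (T := A₂ ⊗[A] B')
      (T' := A₂ ⊗[A] B'₁)).mpr hα.symm
  have h₂₁ : Algebra.IsPushout A₂ (A₂ ⊗[A] A₁) (A₂ ⊗[A] B') (A₂ ⊗[A] B'₁) := by
    haveI : Algebra.IsPushout A A₂ A₁ (A₂ ⊗[A] A₁) := TensorProduct.isPushout
    exact ((Algebra.IsPushout.comp_iff A A₂ A₁ (S' := A₂ ⊗[A] A₁) (T := A₂ ⊗[A] B')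
      (T' := A₂ ⊗[A] B'₁)).mp hβ).symm
  have hA : (algebraMap A₁ (A₂ ⊗[A] A₁)).comp (algebraMap A A₁) =
      (algebraMap A₂ (A₂ ⊗[A] A₁)).comp (algebraMap A A₂) := by
    rw [← IsScalarTower.algebraMap_eq A A₁ (A₂ ⊗[A] A₁), ← IsScalarTower.algebraMap_eq A A₂ (A₂ ⊗[A] A₁)]
  have hB : (algebraMap B'₁ (A₂ ⊗[A] B'₁)).comp (algebraMap B' B'₁) =
      (algebraMap (A₂ ⊗[A] B') (A₂ ⊗[A] B'₁)).comp (algebraMap B' (A₂ ⊗[A] B')) := by
    rw [← IsScalarTower.algebraMap_eq B' B'₁ (A₂ ⊗[A] B'₁),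
      ← IsScalarTower.algebraMap_eq B' (A₂ ⊗[A] B') (A₂ ⊗[A] B'₁)]
  -- structures on `T`
  letI algT₂ : Algebra (A₂ ⊗[A] B') T :=
    ((algebraMap (A₂ ⊗[A] B'₁) T).comp (algebraMap (A₂ ⊗[A] B') (A₂ ⊗[A] B'₁))).toAlgebra
  letI algTA : Algebra (A₂ ⊗[A] A₁) T :=
    ((algebraMap (A₂ ⊗[A] B'₁) T).comp (algebraMap (A₂ ⊗[A] A₁) (A₂ ⊗[A] B'₁))).toAlgebra
  haveI s1 : IsScalarTower (A₂ ⊗[A] B') (A₂ ⊗[A] B'₁) T := IsScalarTower.of_algebraMap_eq fun _ => rfl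
  haveI s2 : IsScalarTower (A₂ ⊗[A] A₁) (A₂ ⊗[A] B'₁) T := IsScalarTower.of_algebraMap_eq fun _ => rfl
  haveI s3 : IsScalarTower B' (A₂ ⊗[A] B') T := IsScalarTower.of_algebraMap_eq fun b => by
    rw [IsScalarTower.algebraMap_apply B' B'₁ T, IsScalarTower.algebraMap_apply B'₁ (A₂ ⊗[A] B'₁) T,
      IsScalarTower.algebraMap_apply (A₂ ⊗[A] B') (A₂ ⊗[A] B'₁) T]
    exact congrArg _ (RingHom.congr_fun hB b)
  -- finiteness / flatness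
  haveI : Module.FinitePresentation A B' := Module.finitePresentation_of_finite A B'
  haveI : Module.Finite A₁ B'₁ := Module.Finite.equiv h.out.equiv
  haveI : Module.FinitePresentation A₁ B'₁ := Module.finitePresentation_of_finite A₁ B'₁
  haveI : Module.Flat A₁ (A₂ ⊗[A] A₁) :=
    Module.Flat.isBaseChange A A₁ A₂ (A₂ ⊗[A] A₁)
      (TensorProduct.isPushout' (R := A) (S := A₂) (T := A₁)).out
  have H₂ : Function.Bijective (QFDual.omegaBC (B₁ := T) h₂) := omegaBC_bijective_of_flat h₂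
  have H₁₂ : Function.Bijective (QFDual.omegaBC (B₁ := T) h₁₂) := omegaBC_bijective_of_flat h₁₂
  have H₂₁ : Function.Bijective (QFDual.omegaBC (B₁ := T) h₂₁) :=
    bijective_of_idem (C := Localization.Away e₂) (C' := T) h₂₁ e₂ he₂
  exact bijective_of_cube h h₂ h₁₂ h₂₁ hA hB T H₂ H₂₁ H₁₂

theorem bijective_of_isUnit (h : Algebra.IsPushout A A₁ B' B'₁)
    [IsNoetherianRing A] [IsNoetherianRing A₁] [Module.Finite A B'] [Module.Flat A A₂]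
    (e₂ : A₂ ⊗[A] B') (he₂ : IsIdempotentElem e₂)
    [Module.Finite A₂ (Localization.Away e₂)] [Module.Free A₂ (Localization.Away e₂)]
    (T : Type u) [CommRing T] [Algebra B'₁ T] [Algebra B' T] [IsScalarTower B' B'₁ T]
    [Algebra (A₂ ⊗[A] B'₁) T] [IsScalarTower B'₁ (A₂ ⊗[A] B'₁) T]
    (hu : IsUnit (algebraMap (A₂ ⊗[A] B'₁) T (μB (A₂ := A₂) (B'₁ := B'₁) e₂))) :
    Function.Bijective (QFDual.omegaBC (B₁ := T) h) := by
  set e₂' : A₂ ⊗[A] B'₁ := μB (A₂ := A₂) (B'₁ := B'₁) e₂ with he₂'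
  let C₁₂ := Localization.Away e₂'
  letI : Algebra B' C₁₂ := ((algebraMap B'₁ C₁₂).comp (algebraMap B' B'₁)).toAlgebra
  haveI : IsScalarTower B' B'₁ C₁₂ := IsScalarTower.of_algebraMap_eq fun _ => rfl
  have H : Function.Bijective (QFDual.omegaBC (B₁ := C₁₂) h) :=
    bijective_of_isLocalization_away h e₂ he₂ C₁₂
  let g : C₁₂ →+* T := IsLocalization.Away.lift e₂' hu
  have hg : ∀ x, g (algebraMap (A₂ ⊗[A] B'₁) C₁₂ x) = algebraMap (A₂ ⊗[A] B'₁) T x := fun x =>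
    IsLocalization.Away.lift_eq e₂' hu x
  letI : Algebra C₁₂ T := g.toAlgebra
  haveI : IsScalarTower B'₁ C₁₂ T := IsScalarTower.of_algebraMap_eq fun b => by
    change _ = g (algebraMap B'₁ C₁₂ b)
    rw [IsScalarTower.algebraMap_apply B'₁ (A₂ ⊗[A] B'₁) C₁₂, hg,
      ← IsScalarTower.algebraMap_apply B'₁ (A₂ ⊗[A] B'₁) T]
  haveI : IsScalarTower B' C₁₂ T := IsScalarTower.of_algebraMap_eq fun b => by
    rw [IsScalarTower.algebraMap_apply B' B'₁ T, IsScalarTower.algebraMap_apply B'₁ C₁₂ T,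
      ← IsScalarTower.algebraMap_apply B' B'₁ C₁₂]
  exact bijective_of_algebra h C₁₂ T H

end MainLocal

end Groth.Agent.Lib.Helper94.QFBC
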