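import Mathlib
import Groth.Prelude.Def_Disc
import Groth.Prelude.Def_QFDual
import Groth.Agent.Lib.Helper94.QFLocalA
import Groth.Agent.S8958

/-!
# Étale-local structure of `Hom_A(B', A)` at a flat point of a finite algebra (helper94)

`exists_local_structure`: let `A` be Noetherian, `B'` a finite `A`-algebra and `q'` a prime of `B'`
with `B'_{q'}` flat over `A`.  Then there are a Noetherian local flat `A`-algebra `A₂` (the local
ring of an étale neighbourhood) and an idempotent `e₂` of `A₂ ⊗[A] B'` such that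
`C = (A₂ ⊗[A] B')[1/e₂]` is a local ring, finite free over `A₂`, flat over `B'`, with maximal ideal
lying over `q'`, and `C ⊗[B'] Hom_A(B', A) ≃ Hom_{A₂}(C, A₂)`.
-/

set_option autoImplicit false
universe u
open TensorProduct IsLocalRing

namespace Groth.Agent.Lib.Helper94.QFLocal

attribute [local instance] Algebra.TensorProduct.rightAlgebra

section M1

variable {A A₂ B' : Type u} [CommRing A] [CommRing A₂] [CommRing B'] [Algebra A A₂] [Algebra A B']
  [IsNoetherianRing A] [IsNoetherianRing A₂] [IsLocalRing A₂] [Module.Flat A A₂]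
  [Module.Finite A B']
  (e₂ : A₂ ⊗[A] B') (he₂ : IsIdempotentElem e₂) (n : Ideal (A₂ ⊗[A] B')) [hnp : n.IsPrime]
  (hn : n.comap (algebraMap A₂ (A₂ ⊗[A] B')) = maximalIdeal A₂) (hen : e₂ ∉ n)
  (huniq : ∀ n' : Ideal (A₂ ⊗[A] B'), n'.IsPrime →
    n'.comap (algebraMap A₂ (A₂ ⊗[A] B')) = maximalIdeal A₂ → e₂ ∉ n' → n' = n)

include he₂ hn hen huniq in
theorem isLocalRing_C : IsLocalRing (Localization.Away e₂) := by
  haveI : Nontrivial (Localization.Away e₂) := by
    have hd : Disjoint (Submonoid.powers e₂ : Set (A₂ ⊗[A] B')) (n : Set (A₂ ⊗[A] B')) := by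
      rw [Set.disjoint_left]
      rintro _ ⟨k, rfl⟩ hk
      exact hen (hnp.mem_of_pow_mem k hk)
    have hprime := IsLocalization.isPrime_of_isPrime_disjoint (Submonoid.powers e₂)
      (Localization.Away e₂) n hnp hd
    refine nontrivial_of_ne (0 : Localization.Away e₂) 1 (fun h => hprime.ne_top ?_)
    rw [Ideal.eq_top_iff_one, ← h]
    exact zero_mem _
  haveI : Algebra.IsIntegral A₂ (A₂ ⊗[A] B') := inferInstance
  refine isLocalRing_away_of_unique (R := A₂) (S := A₂ ⊗[A] B') e₂ he₂ ?_
  intro n₁ n₂ h₁ h₂ h₁' h₂' he₁ he₂'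
  rw [huniq n₁ h₁ h₁' he₁, huniq n₂ h₂ h₂' he₂']

omit [IsNoetherianRing A] [IsNoetherianRing A₂] [Module.Flat A A₂] hnp in
include he₂ huniq in
theorem comap_maximalIdeal_C [IsLocalRing (Localization.Away e₂)] :
    (maximalIdeal (Localization.Away e₂)).comap (algebraMap (A₂ ⊗[A] B') (Localization.Away e₂))
      = n := by
  have hsurj : Function.Surjective (algebraMap (A₂ ⊗[A] B') (Localization.Away e₂)) :=
    IsLocalization.Away.algebraMap_surjective_of_isIdempotentElem e₂ he₂
  haveI : Algebra.IsIntegral A₂ (Localization.Away e₂) :=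
    Algebra.IsIntegral.of_surjective (IsScalarTower.toAlgHom A₂ (A₂ ⊗[A] B') _) hsurj
  refine huniq _ (Ideal.IsPrime.comap _) ?_ ?_
  · rw [Ideal.comap_comap, ← IsScalarTower.algebraMap_eq]
    haveI : ((maximalIdeal (Localization.Away e₂)).comap
        (algebraMap A₂ (Localization.Away e₂))).IsMaximal :=
      Ideal.isMaximal_comap_of_isIntegral_of_isMaximal _
    exact IsLocalRing.eq_maximalIdeal this
  · intro hmem
    rw [Ideal.mem_comap] at hmem
    have hu : IsUnit (algebraMap (A₂ ⊗[A] B') (Localization.Away e₂) e₂) :=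
      IsLocalization.Away.algebraMap_isUnit e₂
    exact (maximalIdeal.isMaximal _).ne_top (Ideal.eq_top_of_isUnit_mem _ hmem hu)

omit [IsNoetherianRing A] [IsNoetherianRing A₂] [IsLocalRing A₂] [Module.Finite A B'] in
theorem flat_B'_C : Module.Flat B' (Localization.Away e₂) := by
  haveI : Module.Flat B' (A₂ ⊗[A] B') :=
    Module.Flat.isBaseChange A B' A₂ (A₂ ⊗[A] B')
      (TensorProduct.isPushout' (R := A) (S := A₂) (T := B')).out
  haveI : Module.Flat (A₂ ⊗[A] B') (Localization.Away e₂) :=
    IsLocalization.flat _ (Submonoid.powers e₂)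
  exact Module.Flat.trans B' (A₂ ⊗[A] B') _

omit [IsNoetherianRing A] [IsNoetherianRing A₂] [IsLocalRing A₂] [Module.Flat A A₂] in
include he₂ in
theorem finite_C : Module.Finite A₂ (Localization.Away e₂) := by
  have hsurj : Function.Surjective (algebraMap (A₂ ⊗[A] B') (Localization.Away e₂)) :=
    IsLocalization.Away.algebraMap_surjective_of_isIdempotentElem e₂ he₂
  exact Module.Finite.of_surjective (IsScalarTower.toAlgHom A₂ (A₂ ⊗[A] B') _).toLinearMap hsurj

omit [IsNoetherianRing A] [IsNoetherianRing A₂] [Module.Flat A A₂] hnp in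
include he₂ huniq in
theorem flat_A₂_C [IsLocalRing (Localization.Away e₂)] (q' : Ideal B') [q'.IsPrime]
    (hq' : n.comap (algebraMap B' (A₂ ⊗[A] B')) = q')
    (hflat : Module.Flat A (Localization.AtPrime q')) :
    Module.Flat A₂ (Localization.Away e₂) := by
  set C := Localization.Away e₂ with hC
  let L' := Localization.AtPrime q'
  let T₂ := A₂ ⊗[A] B'
  let T₂' := A₂ ⊗[A] L'
  let Φ : T₂ →ₐ[A₂] T₂' :=
    Algebra.TensorProduct.map (AlgHom.id A₂ A₂) (IsScalarTower.toAlgHom A B' L')
  letI : Algebra T₂ T₂' := Φ.toRingHom.toAlgebra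
  haveI : IsScalarTower A₂ T₂ T₂' := IsScalarTower.of_algebraMap_eq fun a => by
    change _ = Φ (algebraMap A₂ T₂ a)
    rw [Φ.commutes]
  have H : (algebraMap T₂ T₂').comp Algebra.TensorProduct.includeRight.toRingHom =
      Algebra.TensorProduct.includeRight.toRingHom.comp (algebraMap B' L') := by
    ext b
    change Φ ((1 : A₂) ⊗ₜ[A] b) = (1 : A₂) ⊗ₜ[A] algebraMap B' L' b
    rw [Algebra.TensorProduct.map_tmul]
    rfl
  haveI hloc : IsLocalization (q'.primeCompl.map
      (Algebra.TensorProduct.includeRight (R := A) (A := A₂) (B := B'))) T₂' :=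
    IsLocalization.tensorProduct_tensorProduct_right A A₂ q'.primeCompl L' H
  have hmax := comap_maximalIdeal_C e₂ he₂ n huniq
  have hunits : ∀ y : (q'.primeCompl.map
      (Algebra.TensorProduct.includeRight (R := A) (A := A₂) (B := B'))),
      IsUnit (algebraMap T₂ C y) := by
    rintro ⟨_, b, hb, rfl⟩
    by_contra hnu
    have hmem : algebraMap T₂ C (Algebra.TensorProduct.includeRight b) ∈ maximalIdeal C :=
      (IsLocalRing.mem_maximalIdeal _).mpr hnu
    have h2 : (Algebra.TensorProduct.includeRight b : T₂) ∈ n := by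
      rw [← hmax]; exact hmem
    have h3 : b ∈ q' := by
      rw [← hq']; exact h2
    exact hb h3
  let g' : T₂' →+* C := IsLocalization.lift (M := q'.primeCompl.map
      (Algebra.TensorProduct.includeRight (R := A) (A := A₂) (B := B'))) hunits
  have hg' : g'.comp (algebraMap T₂ T₂') = algebraMap T₂ C := IsLocalization.lift_comp hunits
  letI : Algebra T₂' C := g'.toAlgebra
  haveI : IsScalarTower T₂ T₂' C := IsScalarTower.of_algebraMap_eq fun x => by
    change _ = g' (algebraMap T₂ T₂' x)
    rw [← RingHom.comp_apply, hg']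
  haveI : IsScalarTower A₂ T₂' C := IsScalarTower.of_algebraMap_eq fun a => by
    calc algebraMap A₂ C a = algebraMap T₂ C (algebraMap A₂ T₂ a) :=
          IsScalarTower.algebraMap_apply A₂ T₂ C a
      _ = algebraMap T₂' C (algebraMap T₂ T₂' (algebraMap A₂ T₂ a)) :=
          IsScalarTower.algebraMap_apply T₂ T₂' C _
      _ = algebraMap T₂' C (algebraMap A₂ T₂' a) := by
          rw [← IsScalarTower.algebraMap_apply A₂ T₂ T₂']
  haveI : Module.Flat T₂ C := IsLocalization.flat _ (Submonoid.powers e₂)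
  haveI : Module.Flat T₂' C :=
    (Module.flat_iff_of_isLocalization T₂' (q'.primeCompl.map
      (Algebra.TensorProduct.includeRight (R := A) (A := A₂) (B := B'))) C).mpr inferInstance
  haveI : Module.Flat A₂ T₂' := inferInstance
  exact Module.Flat.trans A₂ T₂' C

omit [IsLocalRing A₂] in
include he₂ in
theorem nonempty_omega_equiv :
    Nonempty ((Localization.Away e₂) ⊗[B'] Disc.Omega A B' ≃ₗ[Localization.Away e₂]
      Disc.Omega A₂ (Localization.Away e₂)) := by
  have h : Algebra.IsPushout A A₂ B' (A₂ ⊗[A] B') := TensorProduct.isPushout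
  have hb := Groth.Agent.S8958.result A B' A₂ (A₂ ⊗[A] B') (Localization.Away e₂) h
  exact ⟨(LinearEquiv.ofBijective _ hb).trans (omegaAwayEquiv e₂ he₂)⟩

end M1

theorem exists_local_data {A B' : Type u} [CommRing A] [CommRing B'] [Algebra A B']
    [IsNoetherianRing A] [Module.Finite A B'] (q' : Ideal B') [q'.IsPrime] :
    ∃ (A₂ : Type u) (_ : CommRing A₂) (_ : Algebra A A₂) (_ : IsLocalRing A₂)
      (_ : IsNoetherianRing A₂) (_ : Module.Flat A A₂) (e₂ : A₂ ⊗[A] B')
      (_ : IsIdempotentElem e₂) (n : Ideal (A₂ ⊗[A] B')) (_ : n.IsPrime),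
      n.comap (algebraMap A₂ (A₂ ⊗[A] B')) = maximalIdeal A₂ ∧ e₂ ∉ n ∧
      (∀ n' : Ideal (A₂ ⊗[A] B'), n'.IsPrime →
        n'.comap (algebraMap A₂ (A₂ ⊗[A] B')) = maximalIdeal A₂ → e₂ ∉ n' → n' = n) ∧
      n.comap (algebraMap B' (A₂ ⊗[A] B')) = q' := by
  classical
  haveI : q'.LiesOver (q'.under A) := ⟨rfl⟩
  obtain ⟨A₁, _, _, hét, P, hP, hPp, e, he, P', hP', hP'P, hP'q, heP', hres, hfin, huniq⟩ :=
    Algebra.exists_etale_isIdempotentElem_forall_liesOver_eq (q'.under A) q'
  let A₂ := Localization.AtPrime P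
  haveI : IsNoetherianRing A₁ := Algebra.FiniteType.isNoetherianRing A A₁
  haveI : IsNoetherianRing A₂ := IsLocalization.isNoetherianRing P.primeCompl A₂ inferInstance
  haveI : Module.Flat A A₂ := Module.Flat.trans A A₁ A₂
  let T := A₁ ⊗[A] B'
  let T₂ := A₂ ⊗[A] B'
  let Φ : T →ₐ[A₁] T₂ := Algebra.TensorProduct.map (Algebra.ofId A₁ A₂) (AlgHom.id A B')
  letI : Algebra T T₂ := Φ.toRingHom.toAlgebra
  haveI : IsScalarTower A₁ T T₂ := IsScalarTower.of_algebraMap_eq fun a => by
    change _ = Φ (algebraMap A₁ T a)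
    rw [Φ.commutes]
  have H : (algebraMap T T₂).comp Algebra.TensorProduct.includeRight.toRingHom =
      Algebra.TensorProduct.includeRight.toRingHom := by
    ext b
    change Φ ((1 : A₁) ⊗ₜ[A] b) = (1 : A₂) ⊗ₜ[A] b
    rw [Algebra.TensorProduct.map_tmul, map_one]
    rfl
  haveI hloc : IsLocalization (Algebra.algebraMapSubmonoid T P.primeCompl) T₂ :=
    IsLocalization.tensorProduct_tensorProduct A B' P.primeCompl A₂ H
  have hPover : P'.comap (algebraMap A₁ T) = P := (hP'P.over).symm
  have hdisj : Disjoint (Algebra.algebraMapSubmonoid T P.primeCompl : Set T) (P' : Set T) := by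
    rw [Set.disjoint_left]
    rintro _ ⟨a, ha, rfl⟩ hmem
    apply ha
    rw [← hPover]
    exact hmem
  let n : Ideal T₂ := P'.map (algebraMap T T₂)
  have hnprime : n.IsPrime :=
    IsLocalization.isPrime_of_isPrime_disjoint (Algebra.algebraMapSubmonoid T P.primeCompl) T₂ P'
      hP' hdisj
  have hncomap : n.comap (algebraMap T T₂) = P' :=
    IsLocalization.under_map_of_isPrime_disjoint (Algebra.algebraMapSubmonoid T P.primeCompl) T₂
      hP' hdisj
  have hmaxcomap : (maximalIdeal A₂).comap (algebraMap A₁ A₂) = P :=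
    IsLocalization.AtPrime.under_maximalIdeal A₂ P
  -- primes of `A₂` are determined by their contraction to `A₁`
  have hA₂ : ∀ J : Ideal A₂, J.comap (algebraMap A₁ A₂) = P → J = maximalIdeal A₂ := by
    intro J hJ
    rw [← IsLocalization.map_under P.primeCompl A₂ J, Ideal.under_def, hJ]
    exact Localization.AtPrime.map_eq_maximalIdeal
  have hcomm : ∀ J : Ideal T₂, (J.comap (algebraMap A₂ T₂)).comap (algebraMap A₁ A₂) =
      (J.comap (algebraMap T T₂)).comap (algebraMap A₁ T) := by
    intro J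
    rw [Ideal.comap_comap, Ideal.comap_comap, ← IsScalarTower.algebraMap_eq,
      ← IsScalarTower.algebraMap_eq]
  refine ⟨A₂, inferInstance, inferInstance, inferInstance, inferInstance, inferInstance, Φ e,
    he.map Φ, n, hnprime, ?_, ?_, ?_, ?_⟩
  · apply hA₂
    rw [hcomm, hncomap, hPover]
  · intro hmem
    apply heP'
    rw [← hncomap]
    exact hmem
  · intro n' hn' hn'm hen'
    have h1 : n'.comap (algebraMap T T₂) = P' := by
      haveI : (n'.comap (algebraMap T T₂)).IsPrime := Ideal.IsPrime.comap _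
      refine huniq _ inferInstance ⟨?_⟩ ?_
      · rw [Ideal.under_def, ← hcomm, hn'm, hmaxcomap]
      · intro hmem
        exact hen' hmem
    rw [← IsLocalization.map_under (Algebra.algebraMapSubmonoid T P.primeCompl) T₂ n',
      Ideal.under_def, h1]
  · have h2 : algebraMap B' T₂ = (algebraMap T T₂).comp
        (Algebra.TensorProduct.includeRight (R := A) (A := A₁) (B := B')).toRingHom := by
      rw [H]; rfl
    rw [h2, ← Ideal.comap_comap, hncomap]
    exact hP'q


/-- Étale-local structure at a flat point of a finite algebra. -/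
theorem exists_local_structure {A B' : Type u} [CommRing A] [CommRing B'] [Algebra A B']
    [IsNoetherianRing A] [Module.Finite A B'] (q' : Ideal B') [q'.IsPrime]
    (hflat : Module.Flat A (Localization.AtPrime q')) :
    ∃ (A₂ : Type u) (_ : CommRing A₂) (_ : Algebra A A₂) (_ : IsLocalRing A₂)
      (_ : IsNoetherianRing A₂) (_ : Module.Flat A A₂) (e₂ : A₂ ⊗[A] B')
      (_ : IsIdempotentElem e₂) (_ : IsLocalRing (Localization.Away e₂)),
      Module.Finite A₂ (Localization.Away e₂) ∧ Module.Free A₂ (Localization.Away e₂) ∧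
      Module.Flat B' (Localization.Away e₂) ∧
      (maximalIdeal (Localization.Away e₂)).comap (algebraMap B' (Localization.Away e₂)) = q' ∧
      Nonempty (Localization.Away e₂ ⊗[B'] Disc.Omega A B' ≃ₗ[Localization.Away e₂]
        Disc.Omega A₂ (Localization.Away e₂)) := by
  obtain ⟨A₂, _, _, _, _, _, e₂, he₂, n, hnp, hn, hen, huniq, hq'⟩ := exists_local_data (A := A) q'
  haveI hloc : IsLocalRing (Localization.Away e₂) := isLocalRing_C e₂ he₂ n hn hen huniq
  haveI hfin : Module.Finite A₂ (Localization.Away e₂) := finite_C e₂ he₂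
  haveI hfl : Module.Flat A₂ (Localization.Away e₂) := flat_A₂_C e₂ he₂ n huniq q' hq' hflat
  refine ⟨A₂, inferInstance, inferInstance, inferInstance, inferInstance, inferInstance, e₂, he₂,
    hloc, hfin, Module.free_of_flat_of_isLocalRing, flat_B'_C e₂, ?_, nonempty_omega_equiv e₂ he₂⟩
  rw [IsScalarTower.algebraMap_eq B' (A₂ ⊗[A] B') (Localization.Away e₂), ← Ideal.comap_comap,
    comap_maximalIdeal_C e₂ he₂ n huniq, hq']

end Groth.Agent.Lib.Helper94.QFLocal
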