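import Mathlib
import Groth.Prelude.Def_Disc
import Groth.Prelude.Def_QFDual
import Groth.Agent.Lib.Helper94.QFLocalB

/-!
# Flatness of the localization of `Hom_A(B', A)` at a flat point (helper94)

* `localLift`, `faithfullyFlat_of_local`: a local `B'`-algebra `C` flat over `B'` whose maximal
  ideal lies over `q'` is faithfully flat over `B'_{q'}`.
* `flat_localization_omega`: `B'_{q'} ⊗[B'] Hom_A(B', A)` is flat over `A` if `B'_{q'}` is.
-/

set_option autoImplicit false
universe u
open TensorProduct IsLocalRing

namespace Groth.Agent.Lib.Helper94.QFLocal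

attribute [local instance] Algebra.TensorProduct.rightAlgebra

section LocalAlg

variable {B' L' C : Type u} [CommRing B'] [CommRing L'] [CommRing C] [Algebra B' L'] [Algebra B' C]
  (q' : Ideal B') [q'.IsPrime] [IsLocalization.AtPrime L' q'] [IsLocalRing C]
  (h : (maximalIdeal C).comap (algebraMap B' C) = q')

include h in
theorem isUnit_of_primeCompl (y : q'.primeCompl) : IsUnit (algebraMap B' C y) := by
  by_contra hnu
  have hmem : algebraMap B' C y ∈ maximalIdeal C := (IsLocalRing.mem_maximalIdeal _).mpr hnu
  exact y.2 (h.le (Ideal.mem_comap.mpr hmem))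

/-- the induced ring map `B'_{q'} → C`. -/
noncomputable def localLift : L' →+* C :=
  IsLocalization.lift (M := q'.primeCompl) (isUnit_of_primeCompl q' h)

theorem localLift_comp : (localLift (L' := L') q' h).comp (algebraMap B' L') = algebraMap B' C :=
  IsLocalization.lift_comp _

include q' h in
theorem faithfullyFlat_of_local [Algebra L' C] [IsScalarTower B' L' C] [Module.Flat B' C] :
    Module.FaithfullyFlat L' C := by
  haveI : IsLocalRing L' := IsLocalization.AtPrime.isLocalRing L' q'
  haveI : Module.Flat L' C := (Module.flat_iff_of_isLocalization L' q'.primeCompl C).mpr inferInstance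
  haveI : IsLocalHom (algebraMap L' C) := by
    refine ⟨fun x hx => ?_⟩
    obtain ⟨b, s, rfl⟩ := IsLocalization.exists_mk'_eq q'.primeCompl x
    have hb : IsUnit (algebraMap B' C b) := by
      have h1 : algebraMap L' C (IsLocalization.mk' L' b s) * algebraMap B' C s =
          algebraMap B' C b := by
        rw [IsScalarTower.algebraMap_apply B' L' C, IsScalarTower.algebraMap_apply B' L' C,
          ← map_mul, IsLocalization.mk'_spec]
      rw [← h1]
      exact hx.mul (isUnit_of_primeCompl q' h s)
    have hbq : b ∉ q' := by
      intro hbq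
      have : algebraMap B' C b ∈ maximalIdeal C := by
        have : b ∈ (maximalIdeal C).comap (algebraMap B' C) := by rw [h]; exact hbq
        exact this
      exact (IsLocalRing.mem_maximalIdeal _).mp this hb
    have h2 : IsUnit (algebraMap B' L' b) :=
      IsLocalization.map_units L' (⟨b, hbq⟩ : q'.primeCompl)
    rw [← IsLocalization.mk'_spec L' b s] at h2
    exact isUnit_of_mul_isUnit_left h2
  exact Module.FaithfullyFlat.of_flat_of_isLocalHom

end LocalAlg

section OmegaMod

variable {R S : Type u} [CommRing R] [CommRing S] [Algebra R S]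

/-- `Hom_R(S, R)` with the `S`-action through the argument, viewed as a module over a base ring `A`
of `S` by restriction. -/
theorem omega_free_of_free [Module.Free R S] [Module.Finite R S] :
    letI : Module R (Disc.Omega R S) := Module.compHom _ (algebraMap R S)
    Module.Free R (Disc.Omega R S) := by
  letI : Module R (Disc.Omega R S) := Module.compHom _ (algebraMap R S)
  let e : Disc.Omega R S ≃ₗ[R] Module.Dual R S :=
    { toFun := fun φ => φ.toLinearMap
      invFun := fun f => ⟨f⟩
      left_inv := fun _ => rfl
      right_inv := fun _ => rfl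
      map_add' := fun _ _ => rfl
      map_smul' := fun a φ => by
        apply LinearMap.ext
        intro x
        change φ.toLinearMap (algebraMap R S a * x) = a • φ.toLinearMap x
        rw [← Algebra.smul_def, map_smul] }
  exact Module.Free.of_equiv e.symm

end OmegaMod

/-- At a flat point `q'` of a finite algebra `B'` over a Noetherian ring `A`, the localization of
`Hom_A(B', A)` at `q'` is flat over `A`. -/
theorem flat_localization_omega {A B' : Type u} [CommRing A] [CommRing B'] [Algebra A B']
    [IsNoetherianRing A] [Module.Finite A B'] (q' : Ideal B') [q'.IsPrime]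
    (hflat : Module.Flat A (Localization.AtPrime q')) :
    Module.Flat A (Localization.AtPrime q' ⊗[B'] Disc.Omega A B') := by
  obtain ⟨A₂, _, _, _, _, _, e₂, he₂, hloc, hfin, hfree, hflatB', hmax, ⟨eΩ⟩⟩ :=
    exists_local_structure q' hflat
  set C := Localization.Away e₂ with hC
  let L' := Localization.AtPrime q'
  letI : Algebra L' C := (localLift (L' := L') q' hmax).toAlgebra
  haveI : IsScalarTower B' L' C := IsScalarTower.of_algebraMap_eq fun b => by
    change _ = localLift (L' := L') q' hmax (algebraMap B' L' b)
    rw [← RingHom.comp_apply, localLift_comp]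
  haveI : IsScalarTower A L' C := IsScalarTower.of_algebraMap_eq fun a => by
    rw [IsScalarTower.algebraMap_apply A B' C, IsScalarTower.algebraMap_apply B' L' C,
      ← IsScalarTower.algebraMap_apply A B' L']
  haveI : Module.FaithfullyFlat L' C := faithfullyFlat_of_local q' hmax
  -- `Hom_{A₂}(C, A₂)` is flat over `A`
  letI mA₂ : Module A₂ (Disc.Omega A₂ C) := Module.compHom _ (algebraMap A₂ C)
  letI mA : Module A (Disc.Omega A₂ C) := Module.compHom _ (algebraMap A C)
  haveI : IsScalarTower A C (Disc.Omega A₂ C) := IsScalarTower.of_algebraMap_smul fun _ _ => rfl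
  haveI : IsScalarTower A A₂ (Disc.Omega A₂ C) := ⟨fun a a₂ φ => by
    change algebraMap A₂ C (a • a₂) • φ = algebraMap A C a • (algebraMap A₂ C a₂ • φ)
    rw [Algebra.smul_def, map_mul, ← IsScalarTower.algebraMap_apply A A₂ C, mul_smul]⟩
  haveI : Module.Free A₂ (Disc.Omega A₂ C) := omega_free_of_free
  haveI : Module.Flat A (Disc.Omega A₂ C) := Module.Flat.trans A A₂ _
  let e1 : C ⊗[L'] (L' ⊗[B'] Disc.Omega A B') ≃ₗ[C] C ⊗[B'] Disc.Omega A B' :=
    AlgebraTensorModule.cancelBaseChange B' L' C C (Disc.Omega A B')
  have h1 : Module.Flat A (C ⊗[L'] (L' ⊗[B'] Disc.Omega A B')) :=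
    Module.Flat.of_linearEquiv ((e1.trans eΩ).restrictScalars A)
  exact flat_of_faithfullyFlat_tensor (A := A) (B := L') (L := C) h1



end Groth.Agent.Lib.Helper94.QFLocal
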