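import Mathlib
import Groth.Prelude.Def_Disc
import Groth.Prelude.Def_QFDual
import Groth.Agent.Lib.Helper94.QFBCA
import Groth.Agent.Lib.Helper94.QFLocalC
import Groth.Agent.Lib.Helper94.QFBCB

/-!
# Base change of `ω` for flat quasi-finite maps: final assembly (helper94)

* `faithfullyFlat_tensor_of_local`: `T → T ⊗[B'] C` is faithfully flat for local `T`, `C` over the
  same prime of `B'`, `C` flat over `B'`.
* `bijective_local`: the base change map of `ω` is bijective after tensoring with a local
  `B'₁`-algebra `T` whose closed point lies over a point of `Spec B'` flat over `A`.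
* `omegaBC_bijective_of_flat_qf`: Stacks 0BVB-type base change for flat quasi-finite maps.
-/

set_option autoImplicit false
universe u
open TensorProduct IsLocalRing

namespace Groth.Agent.Lib.Helper94.QFBC

open Groth.Agent.Lib.Helper94.QFLocal

attribute [local instance] Algebra.TensorProduct.rightAlgebra

section Final

variable {A A₁ B' B'₁ : Type u} [CommRing A] [CommRing A₁] [CommRing B']
  [CommRing B'₁] [Algebra A B'] [Algebra A A₁] [Algebra B' B'₁] [Algebra A₁ B'₁] [Algebra A B'₁]
  [IsScalarTower A A₁ B'₁] [IsScalarTower A B' B'₁]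

/-- faithful flatness of `T → T ⊗[B'] C` for local `T`, `C` over the same prime `q'` of `B'`,
`C` flat over `B'`. -/
theorem faithfullyFlat_tensor_of_local (T C : Type u) [CommRing T] [CommRing C] [IsLocalRing T]
    [IsLocalRing C] [Algebra B' T] [Algebra B' C] [Module.Flat B' C]
    (hq : (maximalIdeal C).comap (algebraMap B' C) = (maximalIdeal T).comap (algebraMap B' T)) :
    Module.FaithfullyFlat T (T ⊗[B'] C) := by
  set q' : Ideal B' := (maximalIdeal T).comap (algebraMap B' T) with hq'
  let L' := Localization.AtPrime q'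
  letI : Algebra L' C := (localLift (L' := L') q' hq).toAlgebra
  haveI : IsScalarTower B' L' C := IsScalarTower.of_algebraMap_eq fun b => by
    change _ = localLift (L' := L') q' hq (algebraMap B' L' b)
    rw [← RingHom.comp_apply, localLift_comp]
  haveI : Module.FaithfullyFlat L' C := faithfullyFlat_of_local q' hq
  letI : Algebra L' T := (localLift (L' := L') (C := T) q' rfl).toAlgebra
  haveI : IsScalarTower B' L' T := IsScalarTower.of_algebraMap_eq fun b => by
    change _ = localLift (L' := L') (C := T) q' rfl (algebraMap B' L' b)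
    rw [← RingHom.comp_apply, localLift_comp]
  haveI : CompatibleSMul B' L' T C := IsLocalization.tensorProduct_compatibleSMul q'.primeCompl L' T C
  let e : T ⊗[L'] C ≃ₗ[T] T ⊗[B'] C := TensorProduct.equivOfCompatibleSMul B' L' T T C
  exact Module.FaithfullyFlat.of_linearEquiv T (T ⊗[L'] C) e.symm

theorem bijective_local (h : Algebra.IsPushout A A₁ B' B'₁)
    [IsNoetherianRing A] [IsNoetherianRing A₁] [Module.Finite A B']
    (T : Type u) [CommRing T] [IsLocalRing T] [Algebra B'₁ T] [Algebra B' T]
    [IsScalarTower B' B'₁ T]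
    (hflat : Module.Flat A (Localization.AtPrime ((maximalIdeal T).comap (algebraMap B' T)))) :
    Function.Bijective (QFDual.omegaBC (B₁ := T) h) := by
  set q' : Ideal B' := (maximalIdeal T).comap (algebraMap B' T) with hq'
  obtain ⟨A₂, _, _, _, _, _, e₂, he₂, hloc, hfin, hfree, hflatB', hmax, -⟩ :=
    exists_local_structure q' hflat
  set C := Localization.Away e₂ with hC
  -- `T'' = T ⊗[B'] C`
  letI algAT : Algebra A T := ((algebraMap B' T).comp (algebraMap A B')).toAlgebra
  haveI : IsScalarTower A B' T := IsScalarTower.of_algebraMap_eq fun _ => rfl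
  haveI : IsScalarTower A B'₁ T := IsScalarTower.of_algebraMap_eq fun a => by
    rw [IsScalarTower.algebraMap_apply A B' T, IsScalarTower.algebraMap_apply B' B'₁ T,
      ← IsScalarTower.algebraMap_apply A B' B'₁]
  haveI : Module.FaithfullyFlat T (T ⊗[B'] C) := faithfullyFlat_tensor_of_local T C hmax
  -- the two maps into `T''`
  let f : A₂ →ₐ[A] T ⊗[B'] C :=
    { toRingHom := (Algebra.TensorProduct.includeRight (R := B') (A := T) (B := C)).toRingHom.comp
        (algebraMap A₂ C)
      commutes' := fun a => by
        change (1 : T) ⊗ₜ[B'] algebraMap A₂ C (algebraMap A A₂ a) = algebraMap A T a ⊗ₜ[B'] (1 : C)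
        rw [← IsScalarTower.algebraMap_apply A A₂ C, IsScalarTower.algebraMap_apply A B' C,
          IsScalarTower.algebraMap_apply A B' T, Algebra.algebraMap_eq_smul_one (algebraMap A B' a),
          Algebra.algebraMap_eq_smul_one (A := T) (algebraMap A B' a), smul_tmul] }
  let g : B'₁ →ₐ[A] T ⊗[B'] C := IsScalarTower.toAlgHom A B'₁ (T ⊗[B'] C)
  let g₀ : A₂ ⊗[A] B'₁ →ₐ[A] T ⊗[B'] C :=
    Algebra.TensorProduct.lift f g (fun _ _ => Commute.all _ _)
  letI : Algebra (A₂ ⊗[A] B'₁) (T ⊗[B'] C) := g₀.toRingHom.toAlgebra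
  haveI : IsScalarTower B'₁ (A₂ ⊗[A] B'₁) (T ⊗[B'] C) := IsScalarTower.of_algebraMap_eq fun b => by
    change _ = g₀ ((1 : A₂) ⊗ₜ[A] b)
    rw [Algebra.TensorProduct.lift_tmul, map_one, one_mul]
    rfl
  have hg₀ : ∀ x : A₂ ⊗[A] B', g₀ (μB (A₂ := A₂) (B'₁ := B'₁) x) =
      (1 : T) ⊗ₜ[B'] algebraMap (A₂ ⊗[A] B') C x := by
    intro x
    induction x using TensorProduct.induction_on with
    | zero => simp
    | add x y hx hy => rw [map_add, map_add, hx, hy, map_add, tmul_add]
    | tmul a₂ b' =>
      rw [Algebra.TensorProduct.map_tmul, Algebra.TensorProduct.lift_tmul]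
      change ((1 : T) ⊗ₜ[B'] algebraMap A₂ C a₂) *
        (algebraMap B'₁ T (algebraMap B' B'₁ b') ⊗ₜ[B'] (1 : C)) = _
      rw [Algebra.TensorProduct.tmul_mul_tmul, one_mul, mul_one,
        ← IsScalarTower.algebraMap_apply B' B'₁ T, Algebra.algebraMap_eq_smul_one (A := T) b',
        smul_tmul, Algebra.smul_def]
      congr 1
      have h1 : (a₂ ⊗ₜ[A] b' : A₂ ⊗[A] B') =
          algebraMap B' (A₂ ⊗[A] B') b' * algebraMap A₂ (A₂ ⊗[A] B') a₂ := by
        rw [Algebra.TensorProduct.right_algebraMap_apply, Algebra.TensorProduct.algebraMap_apply,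
          Algebra.TensorProduct.tmul_mul_tmul, one_mul, mul_one, Algebra.algebraMap_self,
          RingHom.id_apply]
      rw [h1, map_mul, ← IsScalarTower.algebraMap_apply B' (A₂ ⊗[A] B') C,
        ← IsScalarTower.algebraMap_apply A₂ (A₂ ⊗[A] B') C]
  have hu : IsUnit (algebraMap (A₂ ⊗[A] B'₁) (T ⊗[B'] C) (μB (A₂ := A₂) (B'₁ := B'₁) e₂)) := by
    change IsUnit (g₀ (μB (A₂ := A₂) (B'₁ := B'₁) e₂))
    rw [hg₀, algebraMap_idem (C := C) e₂ he₂]
    exact isUnit_one
  have H : Function.Bijective (QFDual.omegaBC (B₁ := T ⊗[B'] C) h) :=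
    bijective_of_isUnit h e₂ he₂ (T ⊗[B'] C) hu
  exact bijective_of_faithfullyFlat h T (T ⊗[B'] C) H

end Final

section Top

open AlgebraicGeometry

theorem flat_localization_of_isOpenImmersion {A B' B : Type u} [CommRing A] [CommRing B']
    [CommRing B] [Algebra A B'] [Algebra B' B] [Algebra A B] [IsScalarTower A B' B]
    [Module.Flat A B]
    (hopen : IsOpenImmersion (Spec.map (CommRingCat.ofHom (algebraMap B' B))))
    (P : Ideal B) [P.IsPrime] :
    Module.Flat A (Localization.AtPrime (P.comap (algebraMap B' B))) := by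
  have hbij := bijective_localRingHom_of_isOpenImmersion (algebraMap B' B) hopen P
  set q' : Ideal B' := P.comap (algebraMap B' B) with hq'
  let σ : Localization.AtPrime q' →+* Localization.AtPrime P :=
    Localization.localRingHom q' P (algebraMap B' B) rfl
  let σl : Localization.AtPrime q' →ₗ[B'] Localization.AtPrime P :=
    { toFun := σ
      map_add' := map_add σ
      map_smul' := fun b x => by
        rw [RingHom.id_apply, Algebra.smul_def, map_mul, Algebra.smul_def]
        congr 1
        change Localization.localRingHom q' P (algebraMap B' B) rfl (algebraMap B' _ b) = _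
        rw [Localization.localRingHom_to_map, ← IsScalarTower.algebraMap_apply] }
  let eσ : Localization.AtPrime q' ≃ₗ[B'] Localization.AtPrime P := LinearEquiv.ofBijective σl hbij
  exact Module.Flat.of_linearEquiv (eσ.restrictScalars A)

/-- **Base change for the relative dualizing module of a flat quasi-finite map.** -/
theorem omegaBC_bijective_of_flat_qf (A B' B A₁ B'₁ B₁ : Type u) [CommRing A] [CommRing B']
    [CommRing B] [CommRing A₁] [CommRing B'₁] [CommRing B₁] [IsNoetherianRing A]
    [IsNoetherianRing A₁] [Algebra A B'] [Algebra B' B] [Algebra A B]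
    [IsScalarTower A B' B] [Module.Flat A B] (hf : QFDual.IsQFFactor A B' B) [Algebra A A₁]
    [Algebra B' B'₁] [Algebra A₁ B'₁] [Algebra A B'₁] [IsScalarTower A A₁ B'₁]
    [IsScalarTower A B' B'₁] (h : Algebra.IsPushout A A₁ B' B'₁) [Algebra B B₁]
    [Algebra B'₁ B₁] [Algebra B' B₁]
    [IsScalarTower B' B'₁ B₁] [IsScalarTower B' B B₁] :
    Function.Bijective (QFDual.omegaBC (B₁ := B₁) h) := by
  haveI := hf.finite
  refine bijective_of_forall_maximal h B₁ fun P hP => ?_
  haveI : P.IsPrime := hP.isPrime
  refine bijective_local h (Localization.AtPrime P) ?_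
  have key : ∀ (q'' : Ideal B') [q''.IsPrime],
      q'' = (P.comap (algebraMap B B₁)).comap (algebraMap B' B) →
        Module.Flat A (Localization.AtPrime q'') := by
    intro q'' _ hq''
    subst hq''
    exact flat_localization_of_isOpenImmersion hf.isOpenImmersion (P.comap (algebraMap B B₁))
  apply key
  have e1 : (maximalIdeal (Localization.AtPrime P)).comap
      (algebraMap B₁ (Localization.AtPrime P)) = P :=
    IsLocalization.AtPrime.under_maximalIdeal _ P
  rw [IsScalarTower.algebraMap_eq B' B₁ (Localization.AtPrime P), ← Ideal.comap_comap, e1,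
    IsScalarTower.algebraMap_eq B' B B₁, ← Ideal.comap_comap]

end Top

end Groth.Agent.Lib.Helper94.QFBC
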