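import Mathlib

set_option autoImplicit false
universe u
open TensorProduct IsLocalRing

namespace Groth.Agent.Lib.Helper94.QFFib

theorem one_tmul_eq_zero_iff {R M : Type*} [CommRing R] [AddCommGroup M] [Module R M]
    (I : Ideal R) (x : M) :
    (1 : R ⧸ I) ⊗ₜ[R] x = 0 ↔ x ∈ I • (⊤ : Submodule R M) := by
  rw [← (quotTensorEquivQuotSMul M I).map_eq_zero_iff, quotTensorEquivQuotSMul_mk_one_tmul,
    Submodule.Quotient.mk_eq_zero]

/-- A finite module `N` over a Noetherian local ring `R`, flat over a base ring `A`, whose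
reduction modulo `pR` is invertible, is free of rank one. -/
theorem nonempty_equiv_of_fibre {A R N : Type u} [CommRing A] [CommRing R] [IsLocalRing R]
    [IsNoetherianRing R] [Algebra A R] [AddCommGroup N] [Module R N] [Module A N]
    [IsScalarTower A R N] [Module.Finite R N] [Module.Flat A N]
    (p : Ideal A) (hp : p.map (algebraMap A R) ≤ maximalIdeal R)
    [hinv : Module.Invertible (R ⧸ p.map (algebraMap A R)) ((R ⧸ p.map (algebraMap A R)) ⊗[R] N)] :
    Nonempty (R ≃ₗ[R] N) := by
  set I := p.map (algebraMap A R) with hI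
  have hIne : I ≠ ⊤ := fun h => (maximalIdeal.isMaximal R).ne_top (top_le_iff.mp (h ▸ hp))
  haveI : Nontrivial (R ⧸ I) := Ideal.Quotient.nontrivial_iff.mpr hIne
  haveI : IsLocalRing (R ⧸ I) :=
    IsLocalRing.of_surjective' (Ideal.Quotient.mk I) Ideal.Quotient.mk_surjective
  obtain ⟨e⟩ := (Module.Invertible.free_iff_linearEquiv (R := R ⧸ I)
    (M := (R ⧸ I) ⊗[R] N)).mp inferInstance
  have hjac : I ≤ Ideal.jacobson ⊥ := hp.trans (IsLocalRing.maximalIdeal_le_jacobson ⊥)
  -- a generator
  have hmk : Function.Surjective (TensorProduct.mk R (R ⧸ I) N 1) := by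
    intro y
    induction y using TensorProduct.induction_on with
    | zero => exact ⟨0, map_zero _⟩
    | add y z hy hz =>
      obtain ⟨a, rfl⟩ := hy
      obtain ⟨b, rfl⟩ := hz
      exact ⟨a + b, map_add _ _ _⟩
    | tmul r n =>
      obtain ⟨r, rfl⟩ := Ideal.Quotient.mk_surjective r
      refine ⟨r • n, ?_⟩
      rw [TensorProduct.mk_apply, ← smul_tmul]
      congr 1
      rw [Algebra.smul_def, mul_one]
      rfl
  obtain ⟨x, hx⟩ := hmk (e.symm 1)
  rw [TensorProduct.mk_apply] at hx
  have hex : e ((1 : R ⧸ I) ⊗ₜ[R] x) = 1 := by rw [hx, LinearEquiv.apply_symm_apply]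
  let φ : R →ₗ[R] N := LinearMap.toSpanSingleton R N x
  have hφ : ∀ r : R, φ r = r • x := fun r => rfl
  -- surjectivity by Nakayama
  have hsurj : Function.Surjective φ := by
    rw [← LinearMap.range_eq_top, eq_top_iff]
    refine Submodule.le_of_le_smul_of_le_jacobson_bot (I := I) Module.Finite.fg_top hjac ?_
    intro n _
    obtain ⟨c, hc⟩ := Ideal.Quotient.mk_surjective (e ((1 : R ⧸ I) ⊗ₜ[R] n))
    have h0 : (1 : R ⧸ I) ⊗ₜ[R] (n - c • x) = 0 := by
      apply e.injective
      rw [tmul_sub, map_sub, map_zero, tmul_smul, ← hc]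
      have : c • ((1 : R ⧸ I) ⊗ₜ[R] x) = (Ideal.Quotient.mk I c) • ((1 : R ⧸ I) ⊗ₜ[R] x) := by
        rw [smul_tmul', smul_tmul', Algebra.smul_def, mul_one, smul_eq_mul, mul_one]
        rfl
      rw [this, map_smul, hex, smul_eq_mul, mul_one, sub_self]
    have h1 := (one_tmul_eq_zero_iff I (n - c • x)).mp h0
    have h2 : n = c • x + (n - c • x) := by abel
    rw [h2]
    exact Submodule.add_mem_sup (LinearMap.mem_range.mpr ⟨c, rfl⟩) h1
  -- the kernel
  let K : Submodule R R := LinearMap.ker φ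
  -- reduction mod `I` of `φ` is bijective
  have hφbar : Function.Bijective (φ.baseChange (R ⧸ I)) := by
    refine Module.Invertible.bijective_of_surjective ?_
    rw [LinearMap.baseChange_eq_ltensor]
    exact LinearMap.lTensor_surjective _ hsurj
  have hKI : ∀ k ∈ K, k ∈ I := by
    intro k hk
    have h0 : (1 : R ⧸ I) ⊗ₜ[R] k = 0 := by
      apply hφbar.1
      rw [LinearMap.baseChange_tmul, map_zero, LinearMap.mem_ker.mp hk, tmul_zero]
    have h1 := (one_tmul_eq_zero_iff I k).mp h0
    rwa [smul_eq_mul, Ideal.mul_top] at h1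
  -- flatness over `A`
  have hinj : Function.Injective ((K.subtype.restrictScalars A).lTensor (A ⧸ p)) :=
    LinearMap.lTensor_injective_of_exact_of_flat (φ.restrictScalars A) hsurj
      (K.subtype.restrictScalars A) K.subtype_injective
      (LinearMap.exact_subtype_ker_map φ) (A ⧸ p)
  have hKle : K ≤ I • K := by
    intro k hk
    have hkI : k ∈ p • (⊤ : Submodule A R) := by
      rw [Ideal.smul_top_eq_map]
      exact hKI k hk
    have h0 : (1 : A ⧸ p) ⊗ₜ[A] k = 0 := (one_tmul_eq_zero_iff p k).mpr hkI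
    have h1 : (1 : A ⧸ p) ⊗ₜ[A] (⟨k, hk⟩ : K) = 0 := by
      apply hinj
      rw [LinearMap.lTensor_tmul, map_zero]
      exact h0
    have h2 := (one_tmul_eq_zero_iff p (⟨k, hk⟩ : K)).mp h1
    have h3 : ∀ y ∈ p • (⊤ : Submodule A K), (y : R) ∈ I • K := by
      intro y hy
      refine Submodule.smul_induction_on (p := fun y : K => (y : R) ∈ I • K) hy ?_ ?_
      · intro a ha k' _
        have : ((a • k' : K) : R) = algebraMap A R a • (k' : R) := by
          change a • (k' : R) = _
          rw [algebraMap_smul]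
        rw [this]
        exact Submodule.smul_mem_smul (Ideal.mem_map_of_mem _ ha) k'.2
      · intro y z hy hz
        exact add_mem hy hz
    exact h3 _ h2
  have hK0 : K = ⊥ :=
    Submodule.eq_bot_of_le_smul_of_le_jacobson_bot I K (IsNoetherian.noetherian K) hKle hjac
  exact ⟨LinearEquiv.ofBijective φ ⟨LinearMap.ker_eq_bot.mp hK0, hsurj⟩⟩

end Groth.Agent.Lib.Helper94.QFFib
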