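import Mathlib
import Groth.Prelude.Def_Disc
import Groth.Prelude.Def_QFDual
import Groth.Prelude.Def_RegImm
import Groth.Agent.Lib.Helper94.QFLocalC
import Groth.Agent.Lib.Helper10.SyntBC
import Groth.Agent.Lib.Helper94.OmegaGor
import Groth.Agent.Lib.Helper94.GramOmega
import Groth.Agent.Lib.Helper24.GorenFibre
import Groth.Agent.S9287
import Groth.Agent.S1827
import Groth.Agent.S12080

/-!
# Quasi-finite syntomic maps: the local factor is syntomic and its dualizing module is free
(helper94)

* `isSyntomic_local_factor`: the local factor `C = (A₂ ⊗[A] B')[1/e₂]` is syntomic over `A₂` when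
  `A → B` is syntomic, `B' → B` is an epimorphism and `C` is a `B`-algebra compatibly.
* `exists_generator_of_syntomic`: finite free syntomic over a local ring ⇒ `Hom(C, A₂) ≃ C`.
* `nonempty_equiv_of_faithfullyFlat`: descent of "free of rank one".
* `invertible_of_stalks`: finitely presented with stalks free of rank one ⇒ invertible.
-/

set_option autoImplicit false
universe u
open TensorProduct IsLocalRing

namespace Groth.Agent.Lib.Helper94.QFLocal


attribute [local instance] Algebra.TensorProduct.rightAlgebra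

section PathV

variable {A A₂ B' B : Type u} [CommRing A] [CommRing A₂] [CommRing B'] [CommRing B]
  [Algebra A A₂] [Algebra A B'] [Algebra A B] [Algebra B' B] [IsScalarTower A B' B]
  (e₂ : A₂ ⊗[A] B') (he₂ : IsIdempotentElem e₂)
  (hepi : ∀ (X : Type u) [CommRing X] (j₁ j₂ : B →+* X),
    j₁.comp (algebraMap B' B) = j₂.comp (algebraMap B' B) → j₁ = j₂)
  (β : B →ₐ[A] Localization.Away e₂)
  (hβ : ∀ b', β (algebraMap B' B b') = algebraMap B' (Localization.Away e₂) b')

include he₂ hepi hβ in
theorem isSyntomic_local_factor (hs : Synt.IsSyntomic A B) :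
    Synt.IsSyntomic A₂ (Localization.Away e₂) := by
  set C := Localization.Away e₂ with hC
  let T₂ := A₂ ⊗[A] B'
  let B₂ := A₂ ⊗[A] B
  have hsB₂ : Synt.IsSyntomic A₂ B₂ := Groth.Agent.Lib.Helper10.SyntBC.isSyntomic_tensor hs
  let τ : T₂ →ₐ[A₂] B₂ := Algebra.TensorProduct.map (AlgHom.id A₂ A₂) (IsScalarTower.toAlgHom A B' B)
  let ρ : B₂ →ₐ[A₂] C := Algebra.TensorProduct.lift (Algebra.ofId A₂ C) β (fun _ _ => mul_comm _ _)
  have hρτ : ∀ t : T₂, ρ (τ t) = algebraMap T₂ C t := by
    intro t
    induction t using TensorProduct.induction_on with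
    | zero => simp
    | add x y hx hy => simp only [map_add, hx, hy]
    | tmul a b' =>
      have h1 : (a ⊗ₜ[A] b' : T₂) = algebraMap A₂ T₂ a * algebraMap B' T₂ b' := by
        rw [Algebra.TensorProduct.algebraMap_apply, Algebra.algebraMap_self, RingHom.id_apply,
          Algebra.TensorProduct.right_algebraMap_apply, Algebra.TensorProduct.tmul_mul_tmul,
          mul_one, one_mul]
      have h2 : algebraMap T₂ C (a ⊗ₜ[A] b') = algebraMap A₂ C a * algebraMap B' C b' := by
        rw [h1, map_mul, ← IsScalarTower.algebraMap_apply A₂ T₂ C,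
          ← IsScalarTower.algebraMap_apply B' T₂ C]
      rw [h2]
      change ρ ((a : A₂) ⊗ₜ[A] (algebraMap B' B b')) = _
      rw [Algebra.TensorProduct.lift_tmul, hβ]
      rfl
  -- the localization of `B₂` at the image of `e₂`
  let e'' : B₂ := τ e₂
  let C' := Localization.Away e''
  have hsC' : Synt.IsSyntomic A₂ C' := by
    have h1 : Groth.Agent.H46.SyntLocality.Q (algebraMap A₂ B₂) :=
      Groth.Agent.H46.SyntLocality.isSyntomic_congr (R := A₂) (S := B₂)
        Algebra.TensorProduct.leftAlgebra (algebraMap A₂ B₂).toAlgebra (fun r => rfl) hsB₂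
    have h2 := Groth.Agent.H46.SyntLocality.Q_awayTarget C' e'' (algebraMap A₂ B₂) h1
    exact Groth.Agent.H46.SyntLocality.isSyntomic_congr (R := A₂) (S := C')
      ((algebraMap B₂ C').comp (algebraMap A₂ B₂)).toAlgebra inferInstance
      (fun r => (IsScalarTower.algebraMap_apply A₂ B₂ C' r).symm) h2
  have hunit : IsUnit (ρ.toRingHom e'') := by
    change IsUnit (ρ (τ e₂))
    rw [hρτ]
    exact IsLocalization.Away.algebraMap_isUnit e₂
  let ρ' : C' →+* C := IsLocalization.Away.lift e'' hunit
  have hρ' : ∀ x : B₂, ρ' (algebraMap B₂ C' x) = ρ x := fun x =>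
    IsLocalization.Away.lift_eq e'' hunit x
  have hunit2 : IsUnit (((algebraMap B₂ C').comp τ.toRingHom) e₂) :=
    IsLocalization.Away.algebraMap_isUnit e''
  let j : C →+* C' := IsLocalization.Away.lift e₂ hunit2
  have hj : ∀ t : T₂, j (algebraMap T₂ C t) = algebraMap B₂ C' (τ t) := fun t =>
    IsLocalization.Away.lift_eq e₂ hunit2 t
  -- the two maps `B → C'` agree
  have hjβ : j.comp β.toRingHom =
      (algebraMap B₂ C').comp (Algebra.TensorProduct.includeRight (R := A) (A := A₂) (B := B)).toRingHom := by
    apply hepi C'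
    ext b'
    change j (β (algebraMap B' B b')) = algebraMap B₂ C' ((1 : A₂) ⊗ₜ[A] algebraMap B' B b')
    rw [hβ, IsScalarTower.algebraMap_apply B' T₂ C, hj]
    rfl
  have hjρ : ∀ x : B₂, j (ρ x) = algebraMap B₂ C' x := by
    intro x
    induction x using TensorProduct.induction_on with
    | zero => simp
    | add x y hx hy => simp only [map_add, hx, hy]
    | tmul a b =>
      have h1 : (a ⊗ₜ[A] b : B₂) = algebraMap A₂ B₂ a * (1 : A₂) ⊗ₜ[A] b := by
        rw [Algebra.TensorProduct.algebraMap_apply, Algebra.algebraMap_self, RingHom.id_apply,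
          Algebra.TensorProduct.tmul_mul_tmul, mul_one, one_mul]
      have h2 : j (algebraMap A₂ C a) = algebraMap B₂ C' (algebraMap A₂ B₂ a) := by
        rw [IsScalarTower.algebraMap_apply A₂ T₂ C, hj, τ.commutes]
      have h3 : j (β b) = algebraMap B₂ C' ((1 : A₂) ⊗ₜ[A] b) := RingHom.congr_fun hjβ b
      rw [Algebra.TensorProduct.lift_tmul, map_mul, h1, map_mul, ← h2, ← h3]
      rfl
  have hinj : Function.Injective ρ' := by
    have hleft : ∀ c' : C', j (ρ' c') = c' := by
      intro c'
      have : (j.comp ρ').comp (algebraMap B₂ C') = (RingHom.id C').comp (algebraMap B₂ C') := by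
        refine RingHom.ext fun x => ?_
        change j (ρ' (algebraMap B₂ C' x)) = algebraMap B₂ C' x
        rw [hρ', hjρ]
      exact RingHom.congr_fun (IsLocalization.ringHom_ext (Submonoid.powers e'') this) c'
    exact Function.LeftInverse.injective hleft
  have hsurj : Function.Surjective ρ' := by
    intro c
    obtain ⟨t, rfl⟩ := IsLocalization.Away.algebraMap_surjective_of_isIdempotentElem e₂ he₂ c
    exact ⟨algebraMap B₂ C' (τ t), by rw [hρ', hρτ]⟩
  let E : C' ≃ₐ[A₂] C :=
    AlgEquiv.ofBijective
      { ρ' with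
        commutes' := fun a => by
          change ρ' (algebraMap A₂ C' a) = algebraMap A₂ C a
          rw [IsScalarTower.algebraMap_apply A₂ B₂ C', hρ', ρ.commutes] } ⟨hinj, hsurj⟩
  exact Groth.Agent.Lib.Helper82.SyntLocal.isSyntomic_of_algEquiv (R := A₂) (e := E) hsC'

end PathV



/-- A finite free syntomic algebra over a local ring has `Hom_{A₂}(C, A₂)` free of rank one. -/
theorem exists_generator_of_syntomic {A₂ C : Type u} [CommRing A₂] [IsLocalRing A₂] [CommRing C]
    [Algebra A₂ C] [Module.Finite A₂ C] [Module.Free A₂ C] (hs : Synt.IsSyntomic A₂ C) :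
    Nonempty (C ≃ₗ[C] Disc.Omega A₂ C) := by
  classical
  let p : Ideal A₂ := maximalIdeal A₂
  let κ := p.ResidueField
  have hfib : Synt.IsSyntomic κ (p.Fiber C) :=
    Groth.Agent.Lib.Helper10.SyntBC.isSyntomic_tensor hs
  have hlci : LCI.IsLCI κ (p.Fiber C) := ((Groth.Agent.S9287.result _ _).mp hfib).2
  have hk : LocCoh.IsGorensteinRing κ :=
    Groth.Agent.Lib.Helper24.isGorensteinRing_of_isRegularRing κ
  have hG : LocCoh.IsGorensteinRing (p.Fiber C) := Groth.Agent.S1827.result κ _ hk hlci
  obtain ⟨e⟩ := (Groth.Agent.Lib.Helper94.OmegaGor.isGorensteinRing_iff_omega κ (p.Fiber C)).mp hG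
  let ι := Module.Free.ChooseBasisIndex A₂ C
  let b : Module.Basis ι A₂ C := Module.Free.chooseBasis A₂ C
  have hφ₀ : Function.Bijective (fun c : p.Fiber C => c • e.symm 1) := by
    have : (fun c : p.Fiber C => c • e.symm 1) = e.symm := by
      funext c
      rw [← map_smul, smul_eq_mul, mul_one]
    rw [this]
    exact e.symm.bijective
  have hu := Groth.Agent.Lib.Helper94.GramOmega.isUnit_det_of_bijective
    (Algebra.TensorProduct.basis κ b) (e.symm 1).toLinearMap hφ₀
  obtain ⟨φ, hφ⟩ := Groth.Agent.Lib.Helper94.GramOmega.exists_gram_notMem b p _ hu.ne_zero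
  have hunit : IsUnit (Groth.Agent.Lib.Helper94.GramOmega.gram b φ).det := by
    by_contra hnu
    exact hφ ((IsLocalRing.mem_maximalIdeal _).mpr hnu)
  have hbij := Groth.Agent.Lib.Helper94.GramOmega.bijective_of_isUnit_det b φ hunit
  exact ⟨LinearEquiv.ofBijective (LinearMap.toSpanSingleton C (Disc.Omega A₂ C) ⟨φ⟩) hbij⟩



/-- Descent of "free of rank one" along a faithfully flat map from a Noetherian local ring. -/
theorem nonempty_equiv_of_faithfullyFlat {R S M : Type u} [CommRing R] [IsLocalRing R]
    [IsNoetherianRing R] [CommRing S] [Algebra R S] [Module.FaithfullyFlat R S] [AddCommGroup M]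
    [Module R M] [Module.Finite R M] (e : S ⊗[R] M ≃ₗ[S] S) : Nonempty (R ≃ₗ[R] M) := by
  haveI : Nontrivial S := by
    have h := Module.FaithfullyFlat.rTensor_nontrivial R S R
    exact (TensorProduct.lid R S).symm.toEquiv.nontrivial
  haveI : Module.Flat S (S ⊗[R] M) := Module.Flat.of_linearEquiv e
  haveI : Module.Flat R M := Module.Flat.of_flat_tensorProduct R M S
  haveI : Module.Free R M := Module.free_of_flat_of_isLocalRing
  apply Module.nonempty_linearEquiv_of_finrank_eq_one
  rw [← Module.finrank_baseChange (R := S) (S := R) (M' := M), e.finrank_eq, Module.finrank_self]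



/-- A finitely presented module all of whose stalks are free of rank one is invertible. -/
theorem invertible_of_stalks (R M : Type u) [CommRing R] [AddCommGroup M] [Module R M]
    [Module.FinitePresentation R M]
    (h : ∀ (q : Ideal R) [q.IsPrime], Nonempty (Localization.AtPrime q ≃ₗ[Localization.AtPrime q]
      Localization.AtPrime q ⊗[R] M)) : Module.Invertible R M := by
  classical
  let s : Set R := {r | Nonempty (LocalizedModule.Away r M ≃ₗ[Localization.Away r]
    Localization.Away r)}
  refine Groth.Agent.S12080.result R M s ?_ (fun f hf => hf)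
  by_contra hne
  obtain ⟨m, hm, hle⟩ := Ideal.exists_le_maximal _ hne
  haveI := hm.isPrime
  obtain ⟨e⟩ := h m
  let b : Module.Basis Unit (Localization.AtPrime m) (Localization.AtPrime m ⊗[R] M) :=
    Module.Basis.ofEquivFun (e.symm.trans (LinearEquiv.funUnique Unit _ _).symm)
  obtain ⟨r, hr, b', _⟩ := Module.FinitePresentation.exists_basis_localizedModule_powers
    m.primeCompl (TensorProduct.mk R (Localization.AtPrime m) M 1) (Localization.AtPrime m) b
  have hrs : r ∈ s := ⟨b'.equivFun.trans (LinearEquiv.funUnique Unit _ _)⟩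
  exact hr (hle (Ideal.subset_span hrs))


/-- `Hom_A(B', A)` is a finite `B'`-module for a finite algebra over a Noetherian ring. -/
theorem finite_omega_of_noetherian (A B' : Type u) [CommRing A] [CommRing B'] [Algebra A B']
    [IsNoetherianRing A] [Module.Finite A B'] : Module.Finite B' (Disc.Omega A B') := by
  classical
  haveI : Module.Finite A (B' →ₗ[A] A) := Module.IsNoetherian.finite A _
  obtain ⟨s, hs⟩ := (Module.Finite.fg_top : (⊤ : Submodule A (B' →ₗ[A] A)).FG)
  refine ⟨⟨s.image (fun f => (⟨f⟩ : Disc.Omega A B')), ?_⟩⟩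
  rw [eq_top_iff]
  rintro ⟨f⟩ -
  have hf : f ∈ Submodule.span A (s : Set (B' →ₗ[A] A)) := by rw [hs]; trivial
  induction hf using Submodule.span_induction with
  | mem x hx =>
    apply Submodule.subset_span
    rw [Finset.coe_image]
    exact ⟨x, hx, rfl⟩
  | zero => exact zero_mem _
  | add x y _ _ hx hy =>
    have : (⟨x + y⟩ : Disc.Omega A B') = ⟨x⟩ + ⟨y⟩ := rfl
    rw [this]
    exact add_mem hx hy
  | smul a x _ hx =>
    have : (⟨a • x⟩ : Disc.Omega A B') = algebraMap A B' a • (⟨x⟩ : Disc.Omega A B') := by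
      apply Disc.Omega.ext
      apply LinearMap.ext
      intro y
      change a • x y = x (algebraMap A B' a * y)
      rw [← Algebra.smul_def, map_smul]
    rw [this]
    exact Submodule.smul_mem _ _ hx


end Groth.Agent.Lib.Helper94.QFLocal
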