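import Mathlib
import Groth.Agent.Lib.Helper94.QFLocalD
import Groth.Agent.Lib.Helper94.QFFibA
import Groth.Agent.Lib.Helper94.QFBCC

/-!
# Invertibility of a module is a fibrewise condition (helper94)

* `invertible_of_fibres`: a finite module `M` over a Noetherian `A`-algebra `B` whose stalks are
  `A`-flat and whose fibres `(κ(p) ⊗_A B) ⊗_B M` are invertible is invertible.
* `flat_stalk_omega`: the stalks of `ω_{B/A}` are `A`-flat.
-/

set_option autoImplicit false
universe u
open TensorProduct IsLocalRing

namespace Groth.Agent.Lib.Helper94.QFFib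

attribute [local instance] Algebra.TensorProduct.rightAlgebra

theorem invertible_of_fibres (A B M : Type u) [CommRing A] [CommRing B] [Algebra A B]
    [IsNoetherianRing B] [AddCommGroup M] [Module B M] [Module A M] [IsScalarTower A B M]
    [Module.Finite B M]
    (hfl : ∀ (q : Ideal B) [q.IsPrime], Module.Flat A (Localization.AtPrime q ⊗[B] M))
    (H : ∀ (p : Ideal A) [p.IsPrime], Module.Invertible (p.ResidueField ⊗[A] B)
      ((p.ResidueField ⊗[A] B) ⊗[B] M)) : Module.Invertible B M := by
  haveI : Module.FinitePresentation B M := Module.finitePresentation_of_finite B M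
  refine Groth.Agent.Lib.Helper94.QFLocal.invertible_of_stalks B M fun q _ => ?_
  set p : Ideal A := q.under A with hp
  let R := Localization.AtPrime q
  set I : Ideal R := p.map (algebraMap A R) with hI
  have hIle : I ≤ maximalIdeal R := by
    rw [hI, Ideal.map_le_iff_le_comap]
    intro a ha
    rw [Ideal.mem_comap, IsScalarTower.algebraMap_apply A B R]
    have : algebraMap A B a ∈ q := ha
    rw [← Localization.AtPrime.map_eq_maximalIdeal (I := q)]
    exact Ideal.mem_map_of_mem _ this
  -- `R ⧸ I` as an algebra over the fibre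
  let f₁ : p.ResidueField →ₐ[A] R ⧸ I := Ideal.ResidueField.liftₐ p (Algebra.ofId A (R ⧸ I))
    (by
      intro a ha
      rw [RingHom.mem_ker]
      change algebraMap A (R ⧸ I) a = 0
      rw [IsScalarTower.algebraMap_apply A R (R ⧸ I), Ideal.Quotient.algebraMap_eq,
        Ideal.Quotient.eq_zero_iff_mem]
      exact Ideal.mem_map_of_mem _ ha)
    (by
      intro a ha
      change IsUnit (algebraMap A (R ⧸ I) a)
      rw [IsScalarTower.algebraMap_apply A R (R ⧸ I)]
      apply IsUnit.map
      rw [IsScalarTower.algebraMap_apply A B R]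
      exact IsLocalization.map_units R (⟨algebraMap A B a, ha⟩ : q.primeCompl))
  let ρ : p.ResidueField ⊗[A] B →ₐ[A] R ⧸ I :=
    Algebra.TensorProduct.lift f₁ (IsScalarTower.toAlgHom A B (R ⧸ I)) (fun _ _ => Commute.all _ _)
  letI : Algebra (p.ResidueField ⊗[A] B) (R ⧸ I) := ρ.toRingHom.toAlgebra
  haveI : IsScalarTower B (p.ResidueField ⊗[A] B) (R ⧸ I) := IsScalarTower.of_algebraMap_eq fun b => by
    change _ = ρ ((1 : p.ResidueField) ⊗ₜ[A] b)
    rw [Algebra.TensorProduct.lift_tmul, map_one, one_mul]
    rfl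
  haveI := H p
  -- base change to `R ⧸ I`
  let e1 : (R ⧸ I) ⊗[p.ResidueField ⊗[A] B] ((p.ResidueField ⊗[A] B) ⊗[B] M) ≃ₗ[R ⧸ I]
      (R ⧸ I) ⊗[B] M :=
    AlgebraTensorModule.cancelBaseChange B (p.ResidueField ⊗[A] B) (R ⧸ I) (R ⧸ I) M
  let e2 : (R ⧸ I) ⊗[R] (R ⊗[B] M) ≃ₗ[R ⧸ I] (R ⧸ I) ⊗[B] M :=
    AlgebraTensorModule.cancelBaseChange B R (R ⧸ I) (R ⧸ I) M
  haveI hinv : Module.Invertible (R ⧸ I) ((R ⧸ I) ⊗[R] (R ⊗[B] M)) :=
    Module.Invertible.congr (e1.trans e2.symm)
  haveI := hfl q
  obtain ⟨e⟩ := nonempty_equiv_of_fibre (A := A) (R := R) (N := R ⊗[B] M) p hIle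
  exact ⟨e⟩

open AlgebraicGeometry in
/-- the stalks of `ω_{B/A}` are flat over `A` (local form of S8944). -/
theorem flat_stalk_omega {A B' B : Type u} [CommRing A] [CommRing B'] [CommRing B]
    [IsNoetherianRing A] [Algebra A B'] [Algebra B' B] [Algebra A B] [IsScalarTower A B' B]
    [Module.Flat A B] [Module.Finite A B']
    (hopen : IsOpenImmersion (Spec.map (CommRingCat.ofHom (algebraMap B' B))))
    (P : Ideal B) [P.IsPrime] :
    Module.Flat A (Localization.AtPrime P ⊗[B] (B ⊗[B'] Disc.Omega A B')) := by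
  have hbij := Groth.Agent.Lib.Helper94.QFLocal.bijective_localRingHom_of_isOpenImmersion
    (algebraMap B' B) hopen P
  set q' : Ideal B' := P.comap (algebraMap B' B) with hq'
  let σ : Localization.AtPrime q' →+* Localization.AtPrime P :=
    Localization.localRingHom q' P (algebraMap B' B) rfl
  let σl : Localization.AtPrime q' →ₗ[B'] Localization.AtPrime P :=
    { toFun := σ
      map_add' := map_add σ
      map_smul' := fun b x => by
        rw [RingHom.id_apply, Algebra.smul_def, map_mul, Algebra.smul_def]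
        congr 1
        change Localization.localRingHom q' P (algebraMap B' B) rfl (algebraMap B' _ b) = _
        rw [Localization.localRingHom_to_map, ← IsScalarTower.algebraMap_apply] }
  let eσ : Localization.AtPrime q' ≃ₗ[B'] Localization.AtPrime P := LinearEquiv.ofBijective σl hbij
  have hflatL' : Module.Flat A (Localization.AtPrime q') :=
    Module.Flat.of_linearEquiv (eσ.restrictScalars A)
  have h2 := Groth.Agent.Lib.Helper94.QFLocal.flat_localization_omega q' hflatL'
  let e3 : Localization.AtPrime P ⊗[B] (B ⊗[B'] Disc.Omega A B') ≃ₗ[Localization.AtPrime P]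
      Localization.AtPrime P ⊗[B'] Disc.Omega A B' :=
    TensorProduct.AlgebraTensorModule.cancelBaseChange B' B (Localization.AtPrime P)
      (Localization.AtPrime P) (Disc.Omega A B')
  let e4 : Localization.AtPrime q' ⊗[B'] Disc.Omega A B' ≃ₗ[B']
      Localization.AtPrime P ⊗[B'] Disc.Omega A B' :=
    TensorProduct.congr eσ (LinearEquiv.refl B' (Disc.Omega A B'))
  exact Module.Flat.of_linearEquiv ((e3.restrictScalars A).trans (e4.restrictScalars A).symm)

end Groth.Agent.Lib.Helper94.QFFib
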