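import Mathlib

/-!
# Helper94: localizing a quotient

For an ideal `J` of `A` and a prime `P` of `A ⧸ J` with preimage `q`, the induced map
`A_q → (A ⧸ J)_P` is surjective with kernel `J A_q`.
-/

set_option autoImplicit false
universe u

namespace Groth.Agent.Lib.Helper94.QuotLoc

variable {A : Type u} [CommRing A] (J : Ideal A) (P : Ideal (A ⧸ J)) [P.IsPrime]

/-- The map `A_q → (A ⧸ J)_P`. -/
noncomputable def locHom :
    Localization.AtPrime (P.comap (Ideal.Quotient.mk J)) →+* Localization.AtPrime P :=
  Localization.localRingHom _ P (Ideal.Quotient.mk J) rfl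

theorem locHom_algebraMap (a : A) :
    locHom J P (algebraMap A _ a) = algebraMap (A ⧸ J) _ (Ideal.Quotient.mk J a) :=
  Localization.localRingHom_to_map _ _ _ rfl a

theorem locHom_surjective : Function.Surjective (locHom J P) :=
  RingHom.surjective_localRingHom_of_surjective _ Ideal.Quotient.mk_surjective P

theorem ker_locHom : RingHom.ker (locHom J P) =
    J.map (algebraMap A (Localization.AtPrime (P.comap (Ideal.Quotient.mk J)))) := by
  apply le_antisymm
  · intro z hz
    obtain ⟨a, s, rfl⟩ := IsLocalization.exists_mk'_eq (P.comap (Ideal.Quotient.mk J)).primeCompl z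
    rw [RingHom.mem_ker, locHom, Localization.localRingHom_mk', IsLocalization.mk'_eq_zero_iff] at hz
    obtain ⟨⟨t, ht⟩, htz⟩ := hz
    obtain ⟨t', rfl⟩ := Ideal.Quotient.mk_surjective t
    rw [IsLocalization.mk'_mem_map_algebraMap_iff]
    refine ⟨t', ht, ?_⟩
    rw [← Ideal.Quotient.eq_zero_iff_mem, map_mul]
    exact htz
  · rw [Ideal.map_le_iff_le_comap]
    intro j hj
    rw [Ideal.mem_comap, RingHom.mem_ker, locHom_algebraMap,
      Ideal.Quotient.eq_zero_iff_mem.mpr hj, map_zero]

end Groth.Agent.Lib.Helper94.QuotLoc
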