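import Mathlib
import Groth.Agent.Lib.Helper94.BlowAlg

/-!
# Algebra of the Rees algebra `A[a₀T, …, a_mT]` as a quotient of a polynomial ring (helper94)
-/

set_option autoImplicit false
universe u
open MvPolynomial

namespace Groth.Agent.Lib.Helper94.ReesAlg

open Groth.Agent.Lib.Helper94.BlowAlg

attribute [local instance] MvPolynomial.algebraMvPolynomial

section Nzd

variable {R : Type*} [CommRing R] {σ : Type*}

/-- `x_i - c x_o` (`i ≠ o`) is a nonzerodivisor in a polynomial ring. -/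
theorem eq_zero_of_mul_X_sub_C_mul_X_eq_zero (i o : σ) (hio : i ≠ o) (c : R) (h : MvPolynomial σ R)
    (hh : h * (X i - C c * X o) = 0) : h = 0 := by
  classical
  by_contra hne
  have hsupp : h.support.Nonempty := by
    rwa [Finset.nonempty_iff_ne_empty, Ne, MvPolynomial.support_eq_empty]
  obtain ⟨m, hm, hmax⟩ := Finset.exists_max_image h.support (fun m => m i) hsupp
  have h1 : h * X i = C c * (h * X o) := by
    rw [mul_sub, sub_eq_zero] at hh
    rw [hh]; ring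
  have h2 := congrArg (coeff (m + Finsupp.single i 1)) h1
  rw [coeff_mul_X, coeff_C_mul, coeff_mul_X'] at h2
  have h3 : (if o ∈ (m + Finsupp.single i 1).support then
      coeff (m + Finsupp.single i 1 - Finsupp.single o 1) h else 0) = 0 := by
    split_ifs with ho
    · by_contra h3
      have := hmax _ (MvPolynomial.mem_support_iff.mpr h3)
      simp [Finsupp.single_apply, hio.symm] at this
    · rfl
  rw [h3, mul_zero] at h2
  exact (MvPolynomial.mem_support_iff.mp hm) h2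

theorem eq_zero_of_mul_C_mul_X_sub_C_mul_X_eq_zero (i o : σ) (hio : i ≠ o) (c u : R)
    (hu : IsUnit u) (h : MvPolynomial σ R) (hh : h * (C u * (X i - C c * X o)) = 0) : h = 0 := by
  rw [← mul_assoc] at hh
  have h1 := eq_zero_of_mul_X_sub_C_mul_X_eq_zero i o hio c _ hh
  obtain ⟨v, rfl⟩ := hu
  have h2 : h = h * C (v : R) * C ((v⁻¹ : Rˣ) : R) := by
    rw [mul_assoc, ← C_mul, Units.mul_inv, C_1, mul_one]
  rw [h2, h1, zero_mul]

end Nzd

section Main

variable {A : Type u} [CommRing A] {m : ℕ} (a : Fin (m + 1) → A)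

/-- `b'_k = a_k / a₀` -/
noncomputable def b' (k : Fin (m + 1)) : Lo a :=
  IsLocalization.mk' _ (a k) (⟨a 0, Submonoid.mem_powers _⟩ : Submonoid.powers (a 0))

theorem α_mul_b' (k : Fin (m + 1)) : α a * b' a k = algebraMap A (Lo a) (a k) := by
  rw [mul_comm]
  exact IsLocalization.mk'_spec _ _ _

theorem b'_zero : b' a 0 = 1 :=
  IsLocalization.mk'_self _ _

/-- `h_k = a₀ x_k - a_k x_0` -/
noncomputable def h (k : Fin (m + 1)) : MvPolynomial (Fin (m + 1)) A :=
  C (a 0) * X k - C (a k) * X 0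

theorem h_zero : h a 0 = 0 := by
  simp [h]

/-- `J_s = (h_k : k ≤ s)` -/
noncomputable def Jd (s : ℕ) : Ideal (MvPolynomial (Fin (m + 1)) A) :=
  Ideal.span (h a '' {k | (k : ℕ) ≤ s})

/-- the base change map `A[x] → A_{a₀}[x]` -/
noncomputable abbrev ρ : MvPolynomial (Fin (m + 1)) A →+* MvPolynomial (Fin (m + 1)) (Lo a) :=
  MvPolynomial.map (algebraMap A (Lo a))

/-- partial evaluation `x_k ↦ b'_k x_0` for `k ≤ s` -/
noncomputable def ε (s : ℕ) :
    MvPolynomial (Fin (m + 1)) (Lo a) →ₐ[Lo a] MvPolynomial (Fin (m + 1)) (Lo a) :=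
  aeval (fun k => if (k : ℕ) ≤ s then C (b' a k) * X 0 else X k)

theorem ρ_h (k : Fin (m + 1)) : ρ a (h a k) = C (α a) * (X k - C (b' a k) * X 0) := by
  simp only [h, ρ, map_sub, map_mul, map_C, map_X]
  rw [mul_sub, ← mul_assoc, ← C_mul, α_mul_b']

theorem ε_X_of_le {s : ℕ} {k : Fin (m + 1)} (hk : (k : ℕ) ≤ s) :
    ε a s (X k) = C (b' a k) * X 0 := by
  simp [ε, hk]

theorem ε_X_of_not_le {s : ℕ} {k : Fin (m + 1)} (hk : ¬ (k : ℕ) ≤ s) : ε a s (X k) = X k := by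
  simp [ε, hk]

theorem ε_X_zero (s : ℕ) : ε a s (X 0) = X 0 := by
  rw [ε_X_of_le a (by simp), b'_zero, C_1, one_mul]

theorem ε_C (s : ℕ) (c : Lo a) : ε a s (C c) = C c := by
  simp [ε]

theorem ε_ρ_h_of_le {s : ℕ} {k : Fin (m + 1)} (hk : (k : ℕ) ≤ s) : ε a s (ρ a (h a k)) = 0 := by
  rw [ρ_h, map_mul, map_sub, map_mul, ε_X_of_le a hk, ε_X_zero, ε_C, ε_C, sub_self, mul_zero]

theorem map_Jd_le_ker (s : ℕ) : (Jd a s).map (ρ a) ≤ RingHom.ker (ε a s).toRingHom := by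
  rw [Ideal.map_le_iff_le_comap, Jd, Ideal.span_le]
  rintro _ ⟨k, hk, rfl⟩
  exact ε_ρ_h_of_le a hk

theorem X_sub_mem (s : ℕ) {k : Fin (m + 1)} (hk : (k : ℕ) ≤ s) :
    (X k - C (b' a k) * X 0 : MvPolynomial (Fin (m + 1)) (Lo a)) ∈ (Jd a s).map (ρ a) := by
  obtain ⟨u, hu⟩ := isUnit_α a
  have h1 : ρ a (h a k) ∈ (Jd a s).map (ρ a) :=
    Ideal.mem_map_of_mem _ (Ideal.subset_span ⟨k, hk, rfl⟩)
  have h2 : (X k - C (b' a k) * X 0 : MvPolynomial (Fin (m + 1)) (Lo a)) =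
      C (↑u⁻¹ : Lo a) * ρ a (h a k) := by
    rw [ρ_h, ← mul_assoc, ← C_mul, ← hu, Units.inv_mul, C_1, one_mul]
  rw [h2]
  exact Ideal.mul_mem_left _ _ h1

theorem sub_ε_mem (s : ℕ) (g : MvPolynomial (Fin (m + 1)) (Lo a)) :
    g - ε a s g ∈ (Jd a s).map (ρ a) := by
  induction g using MvPolynomial.induction_on with
  | C c => rw [ε_C, sub_self]; exact Ideal.zero_mem _
  | add p q hp hq =>
    rw [map_add, add_sub_add_comm]
    exact Ideal.add_mem _ hp hq
  | mul_X p k hp =>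
    rw [map_mul]
    have h1 : p * X k - ε a s p * ε a s (X k) =
        (p - ε a s p) * X k + ε a s p * (X k - ε a s (X k)) := by ring
    rw [h1]
    refine Ideal.add_mem _ (Ideal.mul_mem_right _ _ hp) (Ideal.mul_mem_left _ _ ?_)
    by_cases hk : (k : ℕ) ≤ s
    · rw [ε_X_of_le a hk]
      exact X_sub_mem a s hk
    · rw [ε_X_of_not_le a hk, sub_self]
      exact Ideal.zero_mem _

theorem mem_map_Jd_of_ε_eq_zero (s : ℕ) (g : MvPolynomial (Fin (m + 1)) (Lo a))
    (hε : ε a s g = 0) : g ∈ (Jd a s).map (ρ a) := by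
  have := sub_ε_mem a s g
  rwa [hε, sub_zero] at this

/-- elementwise: `(J_s : h_{s+1}) / J_s` is `a₀`-power torsion. -/
theorem exists_pow_mul_mem_Jd_of_mul_mem (s : ℕ) (hs : s + 1 ≤ m)
    (g : MvPolynomial (Fin (m + 1)) A)
    (hg : g * h a ⟨s + 1, by omega⟩ ∈ Jd a s) : ∃ N : ℕ, C (a 0 ^ N) * g ∈ Jd a s := by
  apply exists_pow_mul_mem' (a 0) (Fin (m + 1))
  apply mem_map_Jd_of_ε_eq_zero a s
  have h1 : ρ a (g * h a ⟨s + 1, by omega⟩) ∈ RingHom.ker (ε a s).toRingHom :=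
    map_Jd_le_ker a s (Ideal.mem_map_of_mem _ hg)
  rw [RingHom.mem_ker, map_mul, ρ_h] at h1
  set k : Fin (m + 1) := ⟨s + 1, by omega⟩ with hk
  have hk0 : k ≠ 0 := by
    intro h0
    have := congrArg Fin.val h0
    simp [hk] at this
  have h2 : ε a s (ρ a g) * (C (α a) * (X k - C (b' a k) * X 0)) = 0 := by
    have h3 : ε a s (C (α a) * (X k - C (b' a k) * X 0)) =
        C (α a) * (X k - C (b' a k) * X 0) := by
      rw [map_mul, map_sub, map_mul, ε_C, ε_C, ε_X_zero, ε_X_of_not_le a (by simp [hk])]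
    rw [← h3, ← map_mul]
    exact h1
  exact eq_zero_of_mul_C_mul_X_sub_C_mul_X_eq_zero _ _ hk0 _ _ (isUnit_α a) _ h2

/-- `ψ : A[x] → A[T]`, `x_k ↦ a_k T` -/
noncomputable def ψ : MvPolynomial (Fin (m + 1)) A →ₐ[A] Polynomial A :=
  aeval (fun k => Polynomial.monomial 1 (a k))

/-- `ω : A[x] → A_{a₀}[T]`, `x_k ↦ b'_k T` -/
noncomputable def ω : MvPolynomial (Fin (m + 1)) A →+* Polynomial (Lo a) :=
  MvPolynomial.eval₂Hom (Polynomial.C.comp (algebraMap A (Lo a)))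
    (fun k => Polynomial.C (b' a k) * Polynomial.X)

/-- `ι : A_{a₀}[T] → A_{a₀}[x]`, `T ↦ x_0` -/
noncomputable def ι : Polynomial (Lo a) →+* MvPolynomial (Fin (m + 1)) (Lo a) :=
  Polynomial.eval₂RingHom MvPolynomial.C (X 0)

theorem ε_ρ_eq_ι_ω : (ε a m).toRingHom.comp (ρ a) = (ι a).comp (ω a) := by
  apply MvPolynomial.ringHom_ext
  · intro c
    simp [ω, ι, ε_C]
  · intro k
    have hk : (k : ℕ) ≤ m := Nat.lt_succ_iff.mp k.isLt
    simp [ω, ι, ε_X_of_le a hk]

theorem map_ψ_eq : (Polynomial.mapRingHom (algebraMap A (Lo a))).comp (ψ a).toRingHom =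
    (Polynomial.compRingHom (Polynomial.C (α a) * Polynomial.X)).comp (ω a) := by
  apply MvPolynomial.ringHom_ext
  · intro c
    simp [ω, ψ]
  · intro k
    simp only [ω, ψ, RingHom.comp_apply, AlgHom.toRingHom_eq_coe, RingHom.coe_coe, aeval_X,
      Polynomial.coe_mapRingHom, Polynomial.map_monomial, coe_eval₂Hom, eval₂_X,
      Polynomial.coe_compRingHom_apply, Polynomial.mul_comp, Polynomial.C_comp, Polynomial.X_comp]
    rw [← mul_assoc, ← Polynomial.C_mul, mul_comm (b' a k), α_mul_b', Polynomial.C_mul_X_eq_monomial]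

theorem comp_injective {R : Type*} [CommRing R] (u : R) (hu : IsUnit u) (p : Polynomial R)
    (hp : p.comp (Polynomial.C u * Polynomial.X) = 0) : p = 0 := by
  obtain ⟨v, rfl⟩ := hu
  have h1 : (p.comp (Polynomial.C (v : R) * Polynomial.X)).comp
      (Polynomial.C ((v⁻¹ : Rˣ) : R) * Polynomial.X) = p := by
    rw [Polynomial.comp_assoc, Polynomial.mul_comp, Polynomial.C_comp, Polynomial.X_comp,
      ← mul_assoc, ← Polynomial.C_mul, Units.mul_inv, Polynomial.C_1, one_mul, Polynomial.comp_X]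
  rw [← h1, hp, Polynomial.zero_comp]

/-- elementwise: the kernel of `ψ` is `J_m` up to `a₀`-power torsion. -/
theorem exists_pow_mul_mem_Jd_of_ψ_eq_zero (g : MvPolynomial (Fin (m + 1)) A)
    (hg : ψ a g = 0) : ∃ N : ℕ, C (a 0 ^ N) * g ∈ Jd a m := by
  apply exists_pow_mul_mem' (a 0) (Fin (m + 1))
  apply mem_map_Jd_of_ε_eq_zero a m
  have h1 := congrArg (fun φ => φ g) (map_ψ_eq a)
  simp only [RingHom.comp_apply, AlgHom.toRingHom_eq_coe, RingHom.coe_coe] at h1
  rw [hg, map_zero, Polynomial.coe_compRingHom_apply] at h1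
  have h2 : ω a g = 0 := comp_injective _ (isUnit_α a) _ h1.symm
  have h3 := congrArg (fun φ => φ g) (ε_ρ_eq_ι_ω a)
  simp only [RingHom.comp_apply, AlgHom.toRingHom_eq_coe, RingHom.coe_coe] at h3
  rw [h3, h2, map_zero]

end Main

end Groth.Agent.Lib.Helper94.ReesAlg
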