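import Mathlib
import Groth.Prelude.Def_DRing2
import Groth.Agent.Lib.Helper94.TorKill
import Groth.Agent.Lib.Helper94.ReesAlg

/-!
# `Tor_i^A(I^q, M)` is killed by a power of `a₀`, uniformly in `q`, for `i ≥ #generators`
(helper94)
-/

set_option autoImplicit false
universe u
open MvPolynomial

namespace Groth.Agent.Lib.Helper94.ReesTor

open Groth.Agent.Lib.Helper94.TorKill Groth.Agent.Lib.Helper94.BlowAlg
  Groth.Agent.Lib.Helper94.ReesAlg

section Retract

open CategoryTheory Groth.Agent.Lib.Helper73 Groth.Agent.Lib.Helper73.TorFirstVar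

variable {A : Type u} [CommRing A]
variable {X Y : Type u} [AddCommGroup X] [Module A X] [AddCommGroup Y] [Module A Y]

lemma killsM_of_retract {r : A} {n : ℕ} (i : X →ₗ[A] Y) (p : Y →ₗ[A] X)
    (hpi : ∀ x, p (i x) = x) (h : KillsM A r n Y) : KillsM A r n X := by
  intro N z
  have h1 := h N ((Tmap n (ModuleCat.ofHom i) N).hom z)
  have hcomp : ModuleCat.ofHom i ≫ ModuleCat.ofHom p = 𝟙 (ModuleCat.of A X) := by
    apply ModuleCat.hom_ext
    apply LinearMap.ext
    intro x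
    exact hpi x
  have h2 : (Tmap n (ModuleCat.ofHom p) N).hom ((Tmap n (ModuleCat.ofHom i) N).hom z) = z := by
    rw [← Tmap_comp_apply, hcomp, Tmap_id_apply]
  rw [← h2, ← map_smul, h1, map_zero]

lemma killsM_add {r r' : A} {n : ℕ} (h : KillsM A r n X) (h' : KillsM A r' n X) :
    KillsM A (r + r') n X := by
  intro N z
  rw [add_smul, h N z, h' N z, add_zero]

lemma killsM_zero (n : ℕ) : KillsM A (0 : A) n X := by
  intro N z
  rw [zero_smul]

lemma killsM_mul_left {r : A} {n : ℕ} (c : A) (h : KillsM A r n X) : KillsM A (c * r) n X := by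
  intro N z
  rw [mul_smul, h N z, smul_zero]

end Retract

variable {A : Type u} [CommRing A] {m : ℕ} (a : Fin (m + 1) → A)

/-- `R_s = A[x]/J_s` -/
abbrev Rs (s : ℕ) : Type u := MvPolynomial (Fin (m + 1)) A ⧸ Jd a s

theorem Jd_zero : Jd a 0 = (⊥ : Ideal (MvPolynomial (Fin (m + 1)) A)) := by
  have h0 : {k : Fin (m + 1) | (k : ℕ) ≤ 0} = {0} := by
    ext k
    simp only [Set.mem_ofPred_eq, Set.mem_singleton_iff, Fin.ext_iff, Nat.le_zero]
    rfl
  rw [Jd, h0, Set.image_singleton, h_zero, Ideal.span_singleton_eq_bot]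

theorem Jd_succ (s : ℕ) (hs : s + 1 ≤ m) :
    Jd a (s + 1) = Jd a s ⊔ Ideal.span {h a ⟨s + 1, by omega⟩} := by
  have h1 : {k : Fin (m + 1) | (k : ℕ) ≤ s + 1} =
      {k : Fin (m + 1) | (k : ℕ) ≤ s} ∪ {⟨s + 1, by omega⟩} := by
    ext k
    simp only [Set.mem_ofPred_eq, Set.mem_union, Set.mem_singleton_iff, Fin.ext_iff]
    omega
  rw [Jd, h1, Set.image_union, Ideal.span_union, Set.image_singleton]
  rfl

theorem Jd_mono {s s' : ℕ} (hss : s ≤ s') : Jd a s ≤ Jd a s' := by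
  apply Ideal.span_mono
  apply Set.image_mono
  intro k hk
  exact le_trans hk hss

theorem smul_mk (s : ℕ) (r : A) (g : MvPolynomial (Fin (m + 1)) A) :
    r • (Ideal.Quotient.mk (Jd a s) g) = Ideal.Quotient.mk (Jd a s) (C r * g) := by
  rw [← smul_eq_C_mul]
  rfl

/-- base case -/
theorem killsM_Rs_zero (r : A) (i : ℕ) (hi : 1 ≤ i) : KillsM A r i (Rs a 0) := by
  obtain ⟨j, rfl⟩ : ∃ j, i = j + 1 := ⟨i - 1, by omega⟩
  have e : (MvPolynomial (Fin (m + 1)) A ⧸ Jd a 0) ≃ₗ[A] MvPolynomial (Fin (m + 1)) A :=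
    (Submodule.quotEquivOfEqBot (Jd a 0) (Jd_zero a)).restrictScalars A
  exact killsM_of_linearEquiv e.symm (killsM_of_flat r j)

variable [IsNoetherianRing A]

/-- uniform torsion exponent for `(J_s : h_{s+1})/J_s`. -/
theorem exists_pow_kills_ker (s : ℕ) (hs : s + 1 ≤ m) :
    ∃ k : ℕ, ∀ x ∈ LinearMap.ker (LinearMap.mulLeft A
      (Ideal.Quotient.mk (Jd a s) (h a ⟨s + 1, by omega⟩))), (a 0 ^ k) • x = 0 := by
  let c : Rs a s := Ideal.Quotient.mk (Jd a s) (h a ⟨s + 1, by omega⟩)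
  let K : Ideal (Rs a s) := LinearMap.ker (LinearMap.mulLeft (Rs a s) c)
  obtain ⟨N, hN⟩ := exists_pow_mul_eq_zero_of_forall K (Ideal.Quotient.mk (Jd a s) (C (a 0))) (by
    intro y hy
    obtain ⟨g, rfl⟩ := Ideal.Quotient.mk_surjective y
    have h1 : c * Ideal.Quotient.mk (Jd a s) g = 0 := hy
    rw [← map_mul, Ideal.Quotient.eq_zero_iff_mem, mul_comm] at h1
    obtain ⟨N, hN⟩ := exists_pow_mul_mem_Jd_of_mul_mem a s hs g h1
    refine ⟨N, ?_⟩
    rw [← map_pow, ← map_mul, Ideal.Quotient.eq_zero_iff_mem, ← C_pow]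
    exact hN)
  refine ⟨N, fun x hx => ?_⟩
  have hxK : x ∈ K := hx
  have := hN x hxK
  obtain ⟨g, rfl⟩ := Ideal.Quotient.mk_surjective x
  rw [smul_mk, C_pow, map_mul, map_pow]
  exact this

omit [IsNoetherianRing A] in
/-- the transition map `R_s → R_{s+1}` -/
noncomputable def trans (s : ℕ) : Rs a s →ₗ[A] Rs a (s + 1) :=
  (Ideal.Quotient.liftₐ (Jd a s) (Ideal.Quotient.mkₐ A (Jd a (s + 1))) (fun x hx => by
    rw [Ideal.Quotient.mkₐ_eq_mk, Ideal.Quotient.eq_zero_iff_mem]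
    exact Jd_mono a (Nat.le_succ s) hx)).toLinearMap

omit [IsNoetherianRing A] in
theorem trans_mk (s : ℕ) (g : MvPolynomial (Fin (m + 1)) A) :
    trans a s (Ideal.Quotient.mk (Jd a s) g) = Ideal.Quotient.mk (Jd a (s + 1)) g := rfl

omit [IsNoetherianRing A] in
theorem trans_surjective (s : ℕ) : Function.Surjective (trans a s) := by
  intro y
  obtain ⟨g, rfl⟩ := Ideal.Quotient.mk_surjective y
  exact ⟨Ideal.Quotient.mk (Jd a s) g, rfl⟩

omit [IsNoetherianRing A] in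
theorem exact_mulLeft_trans (s : ℕ) (hs : s + 1 ≤ m) :
    Function.Exact (LinearMap.mulLeft A (Ideal.Quotient.mk (Jd a s) (h a ⟨s + 1, by omega⟩)))
      (trans a s) := by
  intro y
  obtain ⟨g, rfl⟩ := Ideal.Quotient.mk_surjective y
  rw [trans_mk, Ideal.Quotient.eq_zero_iff_mem, Jd_succ a s hs, Submodule.mem_sup]
  constructor
  · rintro ⟨j, hj, q, hq, hjq⟩
    obtain ⟨q', rfl⟩ := Ideal.mem_span_singleton'.mp hq
    refine ⟨Ideal.Quotient.mk (Jd a s) q', ?_⟩
    rw [LinearMap.mulLeft_apply, ← map_mul, ← hjq, map_add,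
      Ideal.Quotient.eq_zero_iff_mem.mpr hj, zero_add, mul_comm]
  · rintro ⟨y', hy'⟩
    obtain ⟨q', rfl⟩ := Ideal.Quotient.mk_surjective y'
    rw [LinearMap.mulLeft_apply, ← map_mul, Ideal.Quotient.eq] at hy'
    refine ⟨g - h a ⟨s + 1, by omega⟩ * q', ?_, h a ⟨s + 1, by omega⟩ * q', ?_, by ring⟩
    · have := (Jd a s).neg_mem hy'
      rwa [neg_sub] at this
    · exact Ideal.mul_mem_right _ _ (Ideal.subset_span rfl)

theorem exists_killsM_Rs : ∀ (s : ℕ), s ≤ m →
    ∃ c : ℕ, ∀ i, s + 1 ≤ i → KillsM A (a 0 ^ c) i (Rs a s) := by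
  intro s
  induction s with
  | zero =>
    intro _
    exact ⟨0, fun i hi => killsM_Rs_zero a _ i hi⟩
  | succ s ih =>
    intro hs
    obtain ⟨c, hc⟩ := ih (by omega)
    obtain ⟨k, hk⟩ := exists_pow_kills_ker a s (by omega)
    refine ⟨c + (c + k), fun i hi => ?_⟩
    have := killsM_step (LinearMap.mulLeft A (Ideal.Quotient.mk (Jd a s) (h a ⟨s + 1, by omega⟩)))
      (trans a s) (trans_surjective a s) (exact_mulLeft_trans a s (by omega)) hk hc i (by omega)
    rwa [← pow_add, ← pow_add] at this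

section Final

omit [IsNoetherianRing A]

/-- the ideal `I = (a₀, …, a_m)` -/
abbrev II : Ideal A := Ideal.span (Set.range a)

theorem monomial_mem_rees (k : Fin (m + 1)) :
    Polynomial.monomial 1 (a k) ∈ reesAlgebra (II a) := by
  rw [reesAlgebra.monomial_mem, pow_one]
  exact Ideal.subset_span ⟨k, rfl⟩

theorem ψ_mem_rees (g : MvPolynomial (Fin (m + 1)) A) : ψ a g ∈ reesAlgebra (II a) := by
  have h1 : ψ a g ∈ (ψ a).range := ⟨g, rfl⟩
  rw [ψ, ← Algebra.adjoin_range_eq_range_aeval] at h1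
  refine Algebra.adjoin_le ?_ h1
  rintro _ ⟨k, rfl⟩
  exact monomial_mem_rees a k

theorem monomial_mem_range {x : A} (hx : x ∈ Ideal.span (Set.range a)) :
    Polynomial.monomial 1 x ∈ (ψ a).range := by
  induction hx using Submodule.span_induction with
  | mem x hx =>
    obtain ⟨k, rfl⟩ := hx
    exact ⟨X k, by
      change ψ a (X k) = _
      rw [ψ, aeval_X]⟩
  | zero => rw [map_zero]; exact Subalgebra.zero_mem _
  | add x y _ _ hx hy => rw [map_add]; exact Subalgebra.add_mem _ hx hy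
  | smul c x _ hx =>
    rw [map_smul]
    exact Subalgebra.smul_mem _ hx c

theorem rees_le_range : reesAlgebra (II a) ≤ (ψ a).range := by
  rw [← adjoin_monomial_eq_reesAlgebra]
  apply Algebra.adjoin_le
  rintro _ ⟨x, hx, rfl⟩
  exact monomial_mem_range a hx

/-- `A[x] → Rees(I)` -/
noncomputable def φR : MvPolynomial (Fin (m + 1)) A →ₐ[A] reesAlgebra (II a) :=
  (ψ a).codRestrict (reesAlgebra (II a)) (ψ_mem_rees a)

theorem φR_coe (g : MvPolynomial (Fin (m + 1)) A) :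
    ((φR a g : reesAlgebra (II a)) : Polynomial A) = ψ a g := rfl

theorem φR_surjective : Function.Surjective (φR a) := by
  rintro ⟨y, hy⟩
  obtain ⟨g, rfl⟩ := rees_le_range a hy
  exact ⟨g, rfl⟩

theorem ψ_h (k : Fin (m + 1)) : ψ a (h a k) = 0 := by
  simp only [h, ψ, map_sub, map_mul, aeval_C, aeval_X, Polynomial.algebraMap_apply,
    Algebra.algebraMap_self, RingHom.id_apply, Polynomial.C_mul_monomial]
  rw [mul_comm, sub_self]

theorem φR_eq_zero_of_mem (g : MvPolynomial (Fin (m + 1)) A) (hg : g ∈ Jd a m) : φR a g = 0 := by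
  have hle : Jd a m ≤ RingHom.ker (φR a).toRingHom := by
    rw [Jd, Ideal.span_le]
    rintro _ ⟨k, -, rfl⟩
    apply Subtype.ext
    exact ψ_h a k
  exact hle hg

/-- `R_m → Rees(I)` -/
noncomputable def φ' : Rs a m →ₗ[A] reesAlgebra (II a) :=
  (Ideal.Quotient.liftₐ (Jd a m) (φR a) (φR_eq_zero_of_mem a)).toLinearMap

theorem φ'_mk (g : MvPolynomial (Fin (m + 1)) A) :
    φ' a (Ideal.Quotient.mk (Jd a m) g) = φR a g := rfl

theorem φ'_surjective : Function.Surjective (φ' a) := by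
  intro y
  obtain ⟨g, rfl⟩ := φR_surjective a y
  exact ⟨Ideal.Quotient.mk (Jd a m) g, rfl⟩

theorem exists_pow_kills_ker_φ' [IsNoetherianRing A] :
    ∃ k : ℕ, ∀ x ∈ LinearMap.ker (φ' a), (a 0 ^ k) • x = 0 := by
  let K : Ideal (Rs a m) :=
    RingHom.ker (Ideal.Quotient.liftₐ (Jd a m) (φR a) (φR_eq_zero_of_mem a)).toRingHom
  obtain ⟨N, hN⟩ := exists_pow_mul_eq_zero_of_forall K (Ideal.Quotient.mk (Jd a m) (C (a 0))) (by
    intro y hy
    obtain ⟨g, rfl⟩ := Ideal.Quotient.mk_surjective y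
    have h1 : φR a g = 0 := hy
    have h2 : ψ a g = 0 := by rw [← φR_coe, h1]; rfl
    obtain ⟨N, hN⟩ := exists_pow_mul_mem_Jd_of_ψ_eq_zero a g h2
    refine ⟨N, ?_⟩
    rw [← map_pow, ← map_mul, Ideal.Quotient.eq_zero_iff_mem, ← C_pow]
    exact hN)
  refine ⟨N, fun x hx => ?_⟩
  have hxK : x ∈ K := hx
  have := hN x hxK
  obtain ⟨g, rfl⟩ := Ideal.Quotient.mk_surjective x
  rw [smul_mk, C_pow, map_mul, map_pow]
  exact this

theorem exists_killsM_rees [IsNoetherianRing A] :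
    ∃ c : ℕ, ∀ i, m + 1 ≤ i → KillsM A (a 0 ^ c) i (reesAlgebra (II a)) := by
  obtain ⟨c, hc⟩ := exists_killsM_Rs a m le_rfl
  obtain ⟨k, hk⟩ := exists_pow_kills_ker_φ' a
  refine ⟨c + k, fun i hi => ?_⟩
  obtain ⟨n, rfl⟩ : ∃ n, i = n + 1 := ⟨i - 1, by omega⟩
  have := killsM_of_surjective (φ' a) (φ'_surjective a) hk (hc (n + 1) hi)
  rwa [← pow_add] at this

/-- inclusion of the degree `q` part -/
noncomputable def inc (I : Ideal A) (q : ℕ) : ↥(I ^ q) →ₗ[A] reesAlgebra I where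
  toFun x := ⟨Polynomial.monomial q (x : A), reesAlgebra.monomial_mem.mpr x.2⟩
  map_add' x y := by
    apply Subtype.ext
    simp
  map_smul' c x := by
    apply Subtype.ext
    simp [Polynomial.smul_monomial]

/-- projection to the degree `q` part -/
noncomputable def prj (I : Ideal A) (q : ℕ) : reesAlgebra I →ₗ[A] ↥(I ^ q) where
  toFun y := ⟨(y : Polynomial A).coeff q, (mem_reesAlgebra_iff I _).mp y.2 q⟩
  map_add' x y := by
    apply Subtype.ext
    simp
  map_smul' c x := by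
    apply Subtype.ext
    simp

theorem prj_inc (I : Ideal A) (q : ℕ) (x : ↥(I ^ q)) : prj I q (inc I q x) = x := by
  apply Subtype.ext
  simp [prj, inc]

/-- **Main**: `Tor_i^A(I^q, M)` is killed by `a₀^c` for `i ≥ m + 1`, uniformly in `q`. -/
theorem exists_killsM_pow [IsNoetherianRing A] :
    ∃ c : ℕ, ∀ i, m + 1 ≤ i → ∀ q : ℕ, KillsM A (a 0 ^ c) i ↥(II a ^ q) := by
  obtain ⟨c, hc⟩ := exists_killsM_rees a
  exact ⟨c, fun i hi q => killsM_of_retract (inc (II a) q) (prj (II a) q) (prj_inc (II a) q)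
    (hc i hi)⟩

end Final

end Groth.Agent.Lib.Helper94.ReesTor
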