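import Mathlib
import Groth.Prelude.Def_DRing2
import Groth.Agent.Lib.Helper94.ReesTor
import Groth.Agent.Lib.Helper15.TorSymm

/-!
# `Tor_i^A(M, A/I^q)` is killed by `I^c` for `i > #generators`, uniformly in `q`, `M` (helper94)
-/

set_option autoImplicit false
universe u
open CategoryTheory

namespace Groth.Agent.Lib.Helper94.ReesMain

open Groth.Agent.Lib.Helper94.TorKill Groth.Agent.Lib.Helper94.ReesTor

variable {A : Type u} [CommRing A]

/-- transfer to the second variable via symmetry of `Tor` -/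
lemma smul_eq_zero_of_killsM_swap {a : A} {i : ℕ} {X : Type u} [AddCommGroup X] [Module A X]
    (h : KillsM A a i X) (M : Type u) [AddCommGroup M] [Module A M]
    (x : DRing.Tor A i M X) : a • x = 0 := by
  let e := ((Groth.Agent.Lib.Helper15.TorSymm.torSymm (R := A) i).app (ModuleCat.of A M)).app
    (ModuleCat.of A X)
  have h1 : a • (e.hom.hom x) = 0 := h (ModuleCat.of A M) (e.hom.hom x)
  have h2 : e.inv.hom (e.hom.hom x) = x := ModuleCat.inv_hom_apply e x
  rw [← h2, ← map_smul, h1, map_zero]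

/-- the ideal of elements killing `Tor_i(I^q, -)` for all `q` and `i ≥ n` -/
def Ann (I : Ideal A) (n : ℕ) : Ideal A where
  carrier := {x | ∀ i, n ≤ i → ∀ q : ℕ, KillsM A x i ↥(I ^ q)}
  add_mem' hx hy := fun i hi q => killsM_add (hx i hi q) (hy i hi q)
  zero_mem' := fun i _ _ => killsM_zero i
  smul_mem' c x hx := fun i hi q => by
    rw [smul_eq_mul]
    exact killsM_mul_left c (hx i hi q)

theorem span_le_radical_Ann [IsNoetherianRing A] (s : Finset A) (m : ℕ) (hm : s.card = m + 1) :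
    Ideal.span (s : Set A) ≤ (Ann (Ideal.span (s : Set A)) (m + 1)).radical := by
  rw [Ideal.span_le]
  intro e he
  let φ : Fin (m + 1) ≃ s := (Finset.equivFinOfCardEq hm).symm
  let j := φ.symm ⟨e, he⟩
  let a : Fin (m + 1) → A := fun k => (φ (Equiv.swap 0 j k) : A)
  have ha0 : a 0 = e := by simp [a, j]
  have hrange : Set.range a = (s : Set A) := by
    ext x
    constructor
    · rintro ⟨k, rfl⟩
      exact (φ _).2
    · intro hx
      refine ⟨Equiv.swap 0 j (φ.symm ⟨x, hx⟩), ?_⟩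
      simp [a]
  obtain ⟨c, hc⟩ := exists_killsM_pow a
  refine ⟨c, ?_⟩
  intro i hi q
  have key : ∀ S : Set A, Set.range a = S → KillsM A (e ^ c) i ↥(Ideal.span S ^ q) := by
    rintro S rfl
    have := hc i hi q
    rw [ha0] at this
    exact this
  exact key _ hrange

theorem killsM_quot_of_eq_top {J : Ideal A} (hJ : J = ⊤) (a : A) (i : ℕ) :
    KillsM A a i (A ⧸ J) := by
  apply killsM_of_smul_eq_zero
  intro x
  have : Subsingleton (A ⧸ J) := Ideal.Quotient.subsingleton_iff.mpr hJ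
  exact Subsingleton.elim _ _

theorem killsM_quot_of_eq_bot {J : Ideal A} (hJ : J = ⊥) (a : A) (j : ℕ) :
    KillsM A a (j + 1) (A ⧸ J) := by
  have e : (A ⧸ J) ≃ₗ[A] A := Submodule.quotEquivOfEqBot J hJ
  exact killsM_of_linearEquiv e.symm (killsM_of_flat a j)

theorem killsM_quot {J : Ideal A} {a : A} {n : ℕ} (h : KillsM A a n ↥J) :
    KillsM A a (n + 1) (A ⧸ J) := by
  have h2 : KillsM A (1 : A) (n + 1) A := killsM_of_flat 1 n
  have := killsM_right J.subtype J.mkQ (Submodule.injective_subtype _)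
    (Submodule.mkQ_surjective _) (LinearMap.exact_subtype_mkQ J) h2 h
  rwa [one_mul] at this

theorem main (A : Type u) [CommRing A] [IsNoetherianRing A] (I : Ideal A) (t : ℕ) (s : Finset A)
    (hs : I = Ideal.span (s : Set A)) (ht : s.card ≤ t) :
    ∃ c : ℕ, ∀ (M : Type u) [AddCommGroup M] [Module A M] (i q : ℕ), t < i → ∀ a ∈ I ^ c,
      ∀ x : DRing.Tor A i M (A ⧸ I ^ q), a • x = 0 := by
  suffices h : ∃ c : ℕ, ∀ (i q : ℕ), t < i → ∀ a ∈ I ^ c, KillsM A a i (A ⧸ I ^ q) by
    obtain ⟨c, hc⟩ := h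
    refine ⟨c, fun M _ _ i q hi a ha x => ?_⟩
    exact smul_eq_zero_of_killsM_swap (hc i q hi a ha) M x
  rcases Nat.eq_zero_or_pos s.card with h0 | hpos
  · have hs0 : s = ∅ := Finset.card_eq_zero.mp h0
    have hI : I = ⊥ := by rw [hs, hs0, Finset.coe_empty, Ideal.span_empty]
    refine ⟨0, fun i q hi a _ => ?_⟩
    obtain ⟨j, rfl⟩ : ∃ j, i = j + 1 := ⟨i - 1, by omega⟩
    rcases Nat.eq_zero_or_pos q with hq | hq
    · exact killsM_quot_of_eq_top (by rw [hq, pow_zero, Ideal.one_eq_top]) a _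
    · exact killsM_quot_of_eq_bot (by rw [hI, Ideal.bot_pow (by omega)]) a j
  · obtain ⟨m, hm⟩ : ∃ m, s.card = m + 1 := ⟨s.card - 1, by omega⟩
    obtain ⟨c, hc⟩ := Ideal.exists_pow_le_of_le_radical_of_fg (span_le_radical_Ann s m hm)
      ⟨s, rfl⟩
    refine ⟨c, fun i q hi a ha => ?_⟩
    rw [hs] at ha ⊢
    have hA := hc ha
    obtain ⟨n, rfl⟩ : ∃ n, i = n + 1 := ⟨i - 1, by omega⟩
    exact killsM_quot (hA n (by omega) q)

end Groth.Agent.Lib.Helper94.ReesMain
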