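import Groth.Prelude.Def_RegImm
import Mathlib
set_option autoImplicit false
universe u
open Polynomial TensorProduct

namespace Groth.Agent.Lib.Helper94

/-- a presentation with `n` generators, `c` relations and the expected dimension gives a global
complete intersection -/
theorem isGlobalCI_of_presentation (k : Type u) [Field k] (S : Type u) [CommRing S] [Algebra k S]
    (n c : ℕ) (hc : c ≤ n) (P : Algebra.Presentation k S (Fin n) (Fin c))
    (hdim : ringKrullDim S = ((n - c : ℕ) : WithBot ℕ∞)) : Synt.IsGlobalCI k S := by
  refine Or.inr ⟨n, c, hc, MvPolynomial.aeval P.val, P.relation, P.aeval_val_surjective, ?_, hdim⟩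
  rw [P.span_range_relation_eq_ker, P.ker_eq_ker_aeval_val]
  rfl

theorem isLCIOver_of_presentation (k : Type u) [Field k] (S : Type u) [CommRing S] [Algebra k S]
    (n c : ℕ) (hc : c ≤ n) (P : Algebra.Presentation k S (Fin n) (Fin c))
    (hdim : ringKrullDim S = ((n - c : ℕ) : WithBot ℕ∞)) : Synt.IsLCIOver k S := by
  refine ⟨?_, ?_⟩
  · have := P.finitePresentation_of_isFinite
    infer_instance
  · intro q
    refine ⟨1, q.asIdeal.ne_top_iff_one.1 q.isPrime.ne_top, ?_⟩
    let e0 : S ≃ₐ[S] Localization.Away (1 : S) :=
      IsLocalization.atUnits S (Submonoid.powers (1 : S)) (by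
        rintro x ⟨m, rfl⟩
        simp)
    let e : S ≃ₐ[k] Localization.Away (1 : S) := e0.restrictScalars k
    refine isGlobalCI_of_presentation k _ n c hc (P.ofAlgEquiv e) ?_
    rw [← ringKrullDim_eq_of_ringEquiv e.toRingEquiv, hdim]

theorem isSyntomic_of_presentation_finite (A B : Type u) [CommRing A] [CommRing B] [Algebra A B]
    (n : ℕ) (P : Algebra.Presentation A B (Fin n) (Fin n)) [Module.Finite A B]
    [Module.FaithfullyFlat A B] : Synt.IsSyntomic A B := by
  refine ⟨inferInstance, P.finitePresentation_of_isFinite, fun q => ?_⟩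
  apply isLCIOver_of_presentation q.asIdeal.ResidueField (q.asIdeal.Fiber B) n n le_rfl
    (P.baseChange q.asIdeal.ResidueField)
  rw [Nat.sub_self, Nat.cast_zero]
  have : Module.Finite q.asIdeal.ResidueField (q.asIdeal.ResidueField ⊗[A] B) := inferInstance
  have : IsArtinianRing (q.asIdeal.ResidueField ⊗[A] B) :=
    IsArtinianRing.of_finite q.asIdeal.ResidueField _
  have : Nontrivial (q.asIdeal.ResidueField ⊗[A] B) := by
    by_contra h
    rw [not_nontrivial_iff_subsingleton] at h
    have := Module.FaithfullyFlat.rTensor_reflects_triviality A B q.asIdeal.ResidueField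
    exact not_subsingleton q.asIdeal.ResidueField this
  exact (ringKrullDimZero_iff_ringKrullDim_eq_zero).1 inferInstance

/-- the one-variable one-relation presentation of `AdjoinRoot g` -/
noncomputable def adjoinRootPresentation (A : Type u) [CommRing A] (g : A[X]) :
    Algebra.Presentation A (AdjoinRoot g) (Fin 1) (Fin 1) :=
  (Algebra.Presentation.naive
    (v := fun _ : Fin 1 => (MvPolynomial.uniqueAlgEquiv A (Fin 1)).symm g)).ofAlgEquiv
    (Ideal.quotientEquivAlg _ (Ideal.span {g}) (MvPolynomial.uniqueAlgEquiv A (Fin 1)) (by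
      rw [Ideal.map_span, Set.range_const, Set.image_singleton]
      congr 2
      exact ((MvPolynomial.uniqueAlgEquiv A (Fin 1)).apply_symm_apply g).symm))

end Groth.Agent.Lib.Helper94
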