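import Mathlib

/-!
Helper lemmas (helper94) for the map θ : W_n(B/p) → B, Σ p^i x_i^(p^(n-i)).
-/

namespace Groth.Agent.Lib.Helper94

theorem frob_iter_surj {A : Type*} [CommRing A] (p : ℕ)
    (hF : Function.Surjective (fun y : A => y ^ p)) (m : ℕ) :
    Function.Surjective (fun y : A => y ^ (p ^ m)) := by
  induction m with
  | zero => intro y; exact ⟨y, by simp⟩
  | succ m ih =>
    intro y
    obtain ⟨z, hz⟩ := ih y
    obtain ⟨w, hw⟩ := hF z
    refine ⟨w, ?_⟩
    simp only at hz hw ⊢
    rw [pow_succ', pow_mul, hw, hz]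

/-- successive approximation: a partial solution at stage `k` extends to a full one. -/
theorem approx (p : ℕ) (n : ℕ) {B : Type*} [CommRing B]
    (hF : Function.Surjective (fun y : B ⧸ (Ideal.span {(p : B)}) => y ^ p)) (b : B) :
    ∀ d k, n - k = d → k ≤ n → ∀ (x : ℕ → B) (t : B),
      b = ∑ i ∈ Finset.range k, (p : B) ^ i * x i ^ (p ^ (n - i)) + (p : B) ^ k * t →
      ∃ (x' : ℕ → B) (t' : B), (∀ i < k, x' i = x i) ∧
        b = ∑ i ∈ Finset.range n, (p : B) ^ i * x' i ^ (p ^ (n - i)) + (p : B) ^ n * t' := by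
  classical
  intro d
  induction d with
  | zero =>
    intro k hd hk x t hb
    have : k = n := by omega
    subst this
    exact ⟨x, t, fun _ _ => rfl, hb⟩
  | succ d ih =>
    intro k hd hk x t hb
    have hkn : k < n := by omega
    obtain ⟨ubar, hubar⟩ := frob_iter_surj p hF (n - k) (Ideal.Quotient.mk _ t)
    obtain ⟨u, rfl⟩ := Ideal.Quotient.mk_surjective ubar
    simp only at hubar
    rw [← map_pow, Ideal.Quotient.eq, Ideal.mem_span_singleton'] at hubar
    obtain ⟨t'', ht''⟩ := hubar
    -- t'' * p = u ^ p^(n-k) - t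
    obtain ⟨x', t', hx', hb'⟩ := ih (k + 1) (by omega) (by omega) (Function.update x k u) (-t'') (by
      rw [Finset.sum_range_succ, hb]
      have e1 : ∑ i ∈ Finset.range k, (p : B) ^ i * (Function.update x k u) i ^ (p ^ (n - i)) =
          ∑ i ∈ Finset.range k, (p : B) ^ i * x i ^ (p ^ (n - i)) := by
        apply Finset.sum_congr rfl
        intro i hi
        rw [Function.update_of_ne (Finset.mem_range.mp hi).ne]
      rw [e1, Function.update_self, pow_succ]
      linear_combination ((p : B) ^ k) * ht'')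
    refine ⟨x', t', ?_, hb'⟩
    intro i hi
    rw [hx' i (by omega), Function.update_of_ne hi.ne]

end Groth.Agent.Lib.Helper94
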